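import Mathlib
import Cfsg.Agent.Lib.Helper10.BR0

/-!
# Brauer–Reynolds (S0999), piece BR-N2: elements of `N(P) \ P` are `p`-regular.
-/

set_option autoImplicit false

namespace Cfsg.Agent.Lib.Helper87.BRN

/-- `P` of prime order with `C_G(P) = P`: an element commuting with a nontrivial element of `P`
lies in `P`. -/
theorem mem_of_comm {G : Type*} [Group G] [Finite G] {p : ℕ} (hp : p.Prime) (P : Subgroup G)
    (hP : Nat.card P = p) (hC : Subgroup.centralizer (P : Set G) = P) (u y : G) (hu : u ∈ P)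
    (hu1 : u ≠ 1) (hc : y * u = u * y) : y ∈ P := by
  have hle : Subgroup.zpowers u ≤ P := by
    rw [Subgroup.zpowers_le]; exact hu
  have hcard : Nat.card (Subgroup.zpowers u) = p := by
    have hdvd : Nat.card (Subgroup.zpowers u) ∣ p := by
      rw [← hP]; exact Subgroup.card_dvd_of_le hle
    rcases (Nat.dvd_prime hp).mp hdvd with h1 | h1
    · exfalso
      rw [Nat.card_zpowers, orderOf_eq_one_iff] at h1
      exact hu1 h1
    · exact h1
  have heq : Subgroup.zpowers u = P := by
    apply Subgroup.eq_of_le_of_card_ge hle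
    rw [hcard, hP]
  rw [← hC, Subgroup.mem_centralizer_iff]
  intro w hw
  have hw' : w ∈ Subgroup.zpowers u := by rw [heq]; exact hw
  obtain ⟨k, rfl⟩ := Subgroup.mem_zpowers_iff.mp hw'
  have hcomm : Commute y u := hc
  exact (hcomm.zpow_right k).eq.symm

/-- `P` of prime order `p` with `|N(P)| = e p`, `0 < e < p`: elements of `N(P)` with
`z ^ p = 1` lie in `P`. -/
theorem mem_of_pow_eq_one {G : Type*} [Group G] [Finite G] {p e : ℕ} (hp : p.Prime)
    (P : Subgroup G) (hP : Nat.card P = p)
    (hN : Nat.card (Subgroup.normalizer (P : Set G)) = e * p) (he0 : e ≠ 0) (he : e < p)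
    (z : G) (hz : z ∈ Subgroup.normalizer (P : Set G)) (hzp : z ^ p = 1) : z ∈ P := by
  have hnorm : (P.subgroupOf (Subgroup.normalizer (P : Set G))).Normal :=
    Subgroup.normal_in_normalizer
  have hcardQ : Nat.card (P.subgroupOf (Subgroup.normalizer (P : Set G))) = p := by
    rw [Nat.card_congr (Subgroup.subgroupOfEquivOfLe (Subgroup.le_normalizer (H := P))).toEquiv]
    exact hP
  have hidx : (P.subgroupOf (Subgroup.normalizer (P : Set G))).index = e := by
    have h1 := Subgroup.index_mul_card (P.subgroupOf (Subgroup.normalizer (P : Set G)))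
    rw [hcardQ, hN] at h1
    exact Nat.eq_of_mul_eq_mul_right hp.pos h1
  have hq1 : ((QuotientGroup.mk (⟨z, hz⟩ : Subgroup.normalizer (P : Set G)) :
      Subgroup.normalizer (P : Set G) ⧸ P.subgroupOf (Subgroup.normalizer (P : Set G)))) ^ p
        = 1 := by
    rw [← QuotientGroup.mk_pow]
    have : (⟨z, hz⟩ : Subgroup.normalizer (P : Set G)) ^ p = 1 := by
      apply Subtype.ext
      rw [Subgroup.coe_pow, Subgroup.coe_one]
      exact hzp
    rw [this]; rfl
  have hq2 : ((QuotientGroup.mk (⟨z, hz⟩ : Subgroup.normalizer (P : Set G)) :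
      Subgroup.normalizer (P : Set G) ⧸ P.subgroupOf (Subgroup.normalizer (P : Set G)))) ^ e
        = 1 := by
    have h2 : Nat.card (Subgroup.normalizer (P : Set G) ⧸
        P.subgroupOf (Subgroup.normalizer (P : Set G))) = e := by
      rw [← hidx]; rfl
    rw [← h2]
    exact pow_card_eq_one'
  have hcop : Nat.Coprime p e := Nat.coprime_of_lt_prime he0 he hp
  have hq : ((QuotientGroup.mk (⟨z, hz⟩ : Subgroup.normalizer (P : Set G)) :
      Subgroup.normalizer (P : Set G) ⧸ P.subgroupOf (Subgroup.normalizer (P : Set G)))) = 1 := by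
    have hd1 := orderOf_dvd_of_pow_eq_one hq1
    have hd2 := orderOf_dvd_of_pow_eq_one hq2
    have hd := Nat.dvd_gcd hd1 hd2
    rw [hcop.gcd_eq_one, Nat.dvd_one, orderOf_eq_one_iff] at hd
    exact hd
  rw [QuotientGroup.eq_one_iff] at hq
  exact Subgroup.mem_subgroupOf.mp hq

end Cfsg.Agent.Lib.Helper87.BRN

namespace Cfsg.Agent.Lib.Helper10.BR

open Cfsg

variable {G : Type*} [Group G] [Fintype G] {p e t : ℕ} {P : Subgroup G} {ε : ℤ} {x₀ : ℕ}
  {A B Y D : Finset (IrrCharacter G)}

/-- BR-N2 -/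
theorem pregular_outer (h : Tab G p e t P ε x₀ A B Y D) (y : G)
    (hy : y ∈ Subgroup.normalizer (P : Set G)) (hyP : y ∉ P) : ¬ p ∣ orderOf y := by
  intro hdvd
  have hp := h.hp
  have he0 : e ≠ 0 := by have := h.he; omega
  have he : e < p := by
    have h1 := h.het
    have h2 := h.ht
    have h3 : e * 1 ≤ e * t := Nat.mul_le_mul_left e (by omega)
    have h4 := hp.two_le
    omega
  have hord : orderOf y ≠ 0 := (orderOf_pos y).ne'
  have hz : orderOf (y ^ (orderOf y / p)) = p := orderOf_pow_orderOf_div hord hdvd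
  have hzN : y ^ (orderOf y / p) ∈ Subgroup.normalizer (P : Set G) := pow_mem hy _
  have hzp : (y ^ (orderOf y / p)) ^ p = 1 := by
    have h1 := pow_orderOf_eq_one (y ^ (orderOf y / p))
    rw [hz] at h1
    exact h1
  have hzP : y ^ (orderOf y / p) ∈ P :=
    Cfsg.Agent.Lib.Helper87.BRN.mem_of_pow_eq_one hp P h.cardP h.cardN he0 he _ hzN hzp
  have hz1 : y ^ (orderOf y / p) ≠ 1 := by
    intro h1
    rw [h1, orderOf_one] at hz
    exact hp.one_lt.ne hz
  have hc : y * y ^ (orderOf y / p) = y ^ (orderOf y / p) * y :=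
    ((Commute.refl y).pow_right _).eq
  exact hyP (Cfsg.Agent.Lib.Helper87.BRN.mem_of_comm hp P h.cardP h.cent _ y hzP hz1 hc)

end Cfsg.Agent.Lib.Helper10.BR
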