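import Mathlib

set_option autoImplicit false

/-!
The transfer `G → A` of a homomorphism `ϕ : H → A` is determined by counting, for every `k` and
every `u : A`, the cosets `y` of `H` fixed by `x ^ k` for which `ϕ (y⁻¹ x ^ k y) = u`.
-/

namespace Cfsg.Agent.Lib.Helper87

open MulAction

section generic

variable {G : Type*} [Group G] {A : Type*} [CommGroup A] (H : Subgroup G) (ϕ : H →* A)

/-- The label `ϕ (y⁻¹ x ^ k y)` of a coset `y` fixed by `x ^ k` (and `1` for the other cosets). -/
noncomputable def lbl (x : G) (k : ℕ) (y : G ⧸ H) : A :=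
  open Classical in
  if h : y.out⁻¹ * x ^ k * y.out ∈ H then ϕ ⟨_, h⟩ else 1

theorem lbl_mk (x : G) (k : ℕ) (a : G) :
    lbl H ϕ x k (a : G ⧸ H) =
      (open Classical in if h : a⁻¹ * x ^ k * a ∈ H then ϕ ⟨_, h⟩ else 1) := by
  classical
  obtain ⟨h', hh'⟩ := QuotientGroup.mk_out_eq_mul H a
  unfold lbl
  have e : ((a : G ⧸ H).out)⁻¹ * x ^ k * (a : G ⧸ H).out = (h' : G)⁻¹ * (a⁻¹ * x ^ k * a) * h' := by
    rw [hh']; group
  by_cases h : a⁻¹ * x ^ k * a ∈ H
  · have h2 : ((a : G ⧸ H).out)⁻¹ * x ^ k * (a : G ⧸ H).out ∈ H := by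
      rw [e]
      exact H.mul_mem (H.mul_mem (H.inv_mem h'.2) h) h'.2
    rw [dif_pos h, dif_pos h2]
    have e2 : (⟨_, h2⟩ : H) = h'⁻¹ * ⟨_, h⟩ * h' := Subtype.ext e
    rw [e2, map_mul, map_mul, map_inv]
    rw [mul_comm (ϕ h')⁻¹, mul_assoc, inv_mul_cancel, mul_one]
  · have h2 : ¬ ((a : G ⧸ H).out)⁻¹ * x ^ k * (a : G ⧸ H).out ∈ H := by
      rw [e]
      intro h3
      apply h
      have := H.mul_mem (H.mul_mem h'.2 h3) (H.inv_mem h'.2)
      have e3 : (h' : G) * ((h' : G)⁻¹ * (a⁻¹ * x ^ k * a) * h') * (h' : G)⁻¹ = a⁻¹ * x ^ k * a := by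
        group
      rwa [e3] at this
    rw [dif_neg h, dif_neg h2]

theorem pow_smul_mk_eq_iff (x : G) (k : ℕ) (a : G) :
    x ^ k • (a : G ⧸ H) = (a : G ⧸ H) ↔ a⁻¹ * x ^ k * a ∈ H := by
  rw [MulAction.Quotient.smul_mk, eq_comm, QuotientGroup.eq]
  simp [mul_assoc]

/-- The period of the coset `y` under `x`. -/
noncomputable def per (x : G) (y : G ⧸ H) : ℕ := Function.minimalPeriod (x • ·) y

theorem per_dvd_iff (x : G) (y : G ⧸ H) (k : ℕ) : per H x y ∣ k ↔ x ^ k • y = y :=
  MulAction.pow_smul_eq_iff_minimalPeriod_dvd.symm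

theorem per_smul_of_commute (x c : G) (hc : Commute c x) (y : G ⧸ H) :
    per H x (c • y) = per H x y := by
  unfold per
  rw [Function.minimalPeriod_eq_minimalPeriod_iff]
  intro n
  unfold Function.IsPeriodicPt Function.IsFixedPt
  rw [smul_iterate_apply, smul_iterate_apply, smul_smul, ← (hc.pow_right n).eq, ← smul_smul]
  exact smul_left_cancel_iff c

theorem lbl_smul_of_commute (x c : G) (hc : Commute c x) (k : ℕ) (y : G ⧸ H) :
    lbl H ϕ x k (c • y) = lbl H ϕ x k y := by
  classical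
  induction y using QuotientGroup.induction_on with
  | H a =>
    rw [MulAction.Quotient.smul_mk, lbl_mk, lbl_mk]
    have e : (c • a)⁻¹ * x ^ k * (c • a) = a⁻¹ * x ^ k * a := by
      have h1 : x ^ k * c = c * x ^ k := ((hc.pow_right k).eq).symm
      have h2 : (c • a)⁻¹ * x ^ k * (c • a) = a⁻¹ * c⁻¹ * (x ^ k * c) * a := by
        rw [smul_eq_mul]; group
      rw [h2, h1]
      group
    simp only [e]

theorem lbl_pow (x : G) {j k : ℕ} (hjk : j ∣ k) (y : G ⧸ H) (hy : x ^ j • y = y) :
    lbl H ϕ x k y = lbl H ϕ x j y ^ (k / j) := by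
  classical
  induction y using QuotientGroup.induction_on with
  | H a =>
    rw [lbl_mk, lbl_mk]
    have h1 : a⁻¹ * x ^ j * a ∈ H := (pow_smul_mk_eq_iff H x j a).mp hy
    obtain ⟨d, rfl⟩ := hjk
    have e : a⁻¹ * x ^ (j * d) * a = (a⁻¹ * x ^ j * a) ^ d := by
      rw [pow_mul]
      have : ∀ w : G, (a⁻¹ * w * a) ^ d = a⁻¹ * w ^ d * a := by
        intro w
        induction d with
        | zero => simp
        | succ n ih => rw [pow_succ, ih, pow_succ]; group
      rw [this]
    have h2 : a⁻¹ * x ^ (j * d) * a ∈ H := by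
      rw [e]; exact H.pow_mem h1 d
    rw [dif_pos h1, dif_pos h2]
    rcases Nat.eq_zero_or_pos j with hj | hj
    · subst hj
      simp only [Nat.div_zero, pow_zero]
      have : (⟨a⁻¹ * x ^ (0 * d) * a, h2⟩ : H) = 1 := Subtype.ext (by simp)
      rw [this, map_one]
    · rw [Nat.mul_div_cancel_left d hj, ← map_pow]
      congr 1
      exact Subtype.ext e


/-- The number of cosets with period `k` and label `u`. -/
noncomputable def nC (x : G) (k : ℕ) (u : A) : ℕ :=
  Nat.card {y : G ⧸ H // per H x y = k ∧ lbl H ϕ x k y = u}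

/-- The number of orbits of `x` with period `k` and label `u`. -/
noncomputable def oC (x : G) (k : ℕ) (u : A) : ℕ :=
  Nat.card {q : Quotient (orbitRel (Subgroup.zpowers x) (G ⧸ H)) //
    per H x q.out = k ∧ lbl H ϕ x k q.out = u}

/-- The number of cosets fixed by `x ^ k` with label `u`. -/
noncomputable def cC (x : G) (k : ℕ) (u : A) : ℕ :=
  Nat.card {y : G ⧸ H // x ^ k • y = y ∧ lbl H ϕ x k y = u}

theorem out_mk_orbit (x : G) (y : G ⧸ H) :
    ∃ c : G, Commute c x ∧
      (Quotient.mk (orbitRel (Subgroup.zpowers x) (G ⧸ H)) y).out = c • y := by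
  have h := Quotient.mk_out (s := orbitRel (Subgroup.zpowers x) (G ⧸ H)) y
  have h' : (Quotient.mk (orbitRel (Subgroup.zpowers x) (G ⧸ H)) y).out ∈
      orbit (Subgroup.zpowers x) y := h
  obtain ⟨⟨c, hc⟩, hcy⟩ := h'
  refine ⟨c, ?_, hcy.symm⟩
  obtain ⟨i, rfl⟩ := Subgroup.mem_zpowers_iff.mp hc
  exact (Commute.refl x).zpow_left i

theorem per_out (x : G) (y : G ⧸ H) :
    per H x (Quotient.mk (orbitRel (Subgroup.zpowers x) (G ⧸ H)) y).out = per H x y := by
  obtain ⟨c, hc, h⟩ := out_mk_orbit H x y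
  rw [h, per_smul_of_commute H x c hc]

theorem lbl_out (x : G) (k : ℕ) (y : G ⧸ H) :
    lbl H ϕ x k (Quotient.mk (orbitRel (Subgroup.zpowers x) (G ⧸ H)) y).out = lbl H ϕ x k y := by
  obtain ⟨c, hc, h⟩ := out_mk_orbit H x y
  rw [h, lbl_smul_of_commute H ϕ x c hc]

theorem per_ne_zero [Finite G] (x : G) (y : G ⧸ H) : per H x y ≠ 0 := by
  have h1 : x ^ Nat.card G • y = y := by rw [pow_card_eq_one', one_smul]
  have h2 := (per_dvd_iff H x y (Nat.card G)).mpr h1
  intro h0
  rw [h0, zero_dvd_iff] at h2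
  exact Nat.card_pos.ne' h2

theorem per_le_card [Finite G] (x : G) (y : G ⧸ H) : per H x y ≤ Nat.card G := by
  have h1 : x ^ Nat.card G • y = y := by rw [pow_card_eq_one', one_smul]
  exact Nat.le_of_dvd Nat.card_pos ((per_dvd_iff H x y (Nat.card G)).mpr h1)

theorem nC_eq [Finite G] (x : G) (k : ℕ) (u : A) : nC H ϕ x k u = k * oC H ϕ x k u := by
  classical
  let _ : Fintype (G ⧸ H) := Fintype.ofFinite _
  let _ : Fintype (Quotient (orbitRel (Subgroup.zpowers x) (G ⧸ H))) := Fintype.ofFinite _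
  unfold nC oC
  rw [Nat.card_eq_fintype_card, Nat.card_eq_fintype_card, Fintype.card_subtype,
    Fintype.card_subtype]
  rw [Finset.card_eq_sum_card_fiberwise (f := Quotient.mk (orbitRel (Subgroup.zpowers x) (G ⧸ H)))
    (t := Finset.univ.filter (fun q : Quotient (orbitRel (Subgroup.zpowers x) (G ⧸ H)) =>
      per H x q.out = k ∧ lbl H ϕ x k q.out = u))]
  · rw [Finset.sum_const_nat (m := k), mul_comm]
    intro q hq
    rw [Finset.mem_filter] at hq
    have hset : (Finset.univ.filter (fun y : G ⧸ H => per H x y = k ∧ lbl H ϕ x k y = u)).filter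
        (fun y => Quotient.mk (orbitRel (Subgroup.zpowers x) (G ⧸ H)) y = q) =
        (orbit (Subgroup.zpowers x) q.out).toFinset := by
      ext y
      simp only [Finset.mem_filter, Finset.mem_univ, true_and, Set.mem_toFinset]
      constructor
      · rintro ⟨-, rfl⟩
        have h := Quotient.mk_out (s := orbitRel (Subgroup.zpowers x) (G ⧸ H)) y
        exact (orbitRel (Subgroup.zpowers x) (G ⧸ H)).symm h
      · intro hy
        have hq' : Quotient.mk (orbitRel (Subgroup.zpowers x) (G ⧸ H)) y = q := by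
          have h1 : Quotient.mk (orbitRel (Subgroup.zpowers x) (G ⧸ H)) q.out = q :=
            Quotient.out_eq q
          rw [← h1]
          exact Quotient.sound (s := orbitRel (Subgroup.zpowers x) (G ⧸ H)) hy
        refine ⟨?_, hq'⟩
        rw [← per_out, ← lbl_out, hq']
        exact hq.2
    have hcard : Function.minimalPeriod (x • ·) q.out =
        Nat.card (orbit (Subgroup.zpowers x) q.out) := by
      rw [MulAction.minimalPeriod_eq_card x q.out, Nat.card_eq_fintype_card]
      exact Fintype.card_congr (Equiv.refl _)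
    rw [hset, Set.toFinset_card, ← Nat.card_eq_fintype_card, ← hcard]
    exact hq.2.1
  · intro y hy
    rw [Finset.mem_coe, Finset.mem_filter] at hy ⊢
    refine ⟨Finset.mem_univ _, ?_⟩
    rw [per_out, lbl_out]
    exact hy.2

theorem oC_zero [Finite G] (x : G) (u : A) : oC H ϕ x 0 u = 0 := by
  unfold oC
  have : IsEmpty {q : Quotient (orbitRel (Subgroup.zpowers x) (G ⧸ H)) //
      per H x q.out = 0 ∧ lbl H ϕ x 0 q.out = u} :=
    ⟨fun q => per_ne_zero H x _ q.2.1⟩
  exact Nat.card_of_isEmpty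

theorem cC_eq [Finite G] [Fintype A] [DecidableEq A] (x : G) {k : ℕ} (hk : k ≠ 0) (u : A) :
    cC H ϕ x k u = ∑ p ∈ (k.divisors ×ˢ (Finset.univ : Finset A)).filter
      (fun p => p.2 ^ (k / p.1) = u), nC H ϕ x p.1 p.2 := by
  classical
  let _ : Fintype (G ⧸ H) := Fintype.ofFinite _
  unfold cC
  rw [Nat.card_eq_fintype_card, Fintype.card_subtype]
  rw [Finset.card_eq_sum_card_fiberwise (f := fun y => (per H x y, lbl H ϕ x (per H x y) y))
    (t := (k.divisors ×ˢ (Finset.univ : Finset A)).filter (fun p => p.2 ^ (k / p.1) = u))]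
  · apply Finset.sum_congr rfl
    intro p hp
    rw [Finset.mem_filter, Finset.mem_product, Nat.mem_divisors] at hp
    unfold nC
    rw [Nat.card_eq_fintype_card, Fintype.card_subtype]
    congr 1
    ext y
    simp only [Finset.mem_filter, Finset.mem_univ, true_and]
    constructor
    · rintro ⟨-, h2⟩
      have h3 : per H x y = p.1 := congrArg Prod.fst h2
      have h4 : lbl H ϕ x (per H x y) y = p.2 := congrArg Prod.snd h2
      rw [h3] at h4
      exact ⟨h3, h4⟩
    · rintro ⟨h3, h4⟩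
      have hdvd : per H x y ∣ k := h3 ▸ hp.1.1.1
      have hfix : x ^ per H x y • y = y := (per_dvd_iff H x y _).mp dvd_rfl
      refine ⟨⟨(per_dvd_iff H x y k).mp hdvd, ?_⟩, ?_⟩
      · rw [lbl_pow H ϕ x hdvd y hfix, h3, h4]
        exact hp.2
      · rw [h3, h4]
  · intro y hy
    rw [Finset.mem_coe, Finset.mem_filter] at hy
    have hdvd : per H x y ∣ k := (per_dvd_iff H x y k).mpr hy.2.1
    have hfix : x ^ per H x y • y = y := (per_dvd_iff H x y _).mp dvd_rfl
    rw [Finset.mem_coe, Finset.mem_filter, Finset.mem_product, Nat.mem_divisors]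
    refine ⟨⟨⟨hdvd, hk⟩, Finset.mem_univ _⟩, ?_⟩
    show lbl H ϕ x (per H x y) y ^ (k / per H x y) = u
    rw [← lbl_pow H ϕ x hdvd y hfix]
    exact hy.2.2

theorem transfer_eq_prod_oC [Finite G] [Fintype A] [DecidableEq A] (x : G) :
    MonoidHom.transfer ϕ x =
      ∏ p ∈ Finset.range (Nat.card G + 1) ×ˢ (Finset.univ : Finset A), p.2 ^ oC H ϕ x p.1 p.2 := by
  classical
  let _ : Fintype (Quotient (orbitRel (Subgroup.zpowers x) (G ⧸ H))) := Fintype.ofFinite _
  rw [MonoidHom.transfer_eq_prod_quotient_orbitRel_zpowers_quot]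
  have h1 : ∀ q : Quotient (orbitRel (Subgroup.zpowers x) (G ⧸ H)),
      ϕ ⟨q.out.out⁻¹ * x ^ Function.minimalPeriod (x • ·) q.out * q.out.out,
        QuotientGroup.out_conj_pow_minimalPeriod_mem H x q.out⟩ =
      lbl H ϕ x (per H x q.out) q.out := by
    intro q
    unfold lbl
    rw [dif_pos]
    rfl
  simp_rw [h1]
  rw [← Finset.prod_fiberwise_of_maps_to
    (g := fun q : Quotient (orbitRel (Subgroup.zpowers x) (G ⧸ H)) =>
      (per H x q.out, lbl H ϕ x (per H x q.out) q.out))
    (t := Finset.range (Nat.card G + 1) ×ˢ (Finset.univ : Finset A))]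
  · apply Finset.prod_congr rfl
    intro p _
    have h2 : ∀ q ∈ Finset.univ.filter (fun q : Quotient (orbitRel (Subgroup.zpowers x) (G ⧸ H)) =>
        (per H x q.out, lbl H ϕ x (per H x q.out) q.out) = p),
        lbl H ϕ x (per H x q.out) q.out = p.2 := by
      intro q hq
      rw [Finset.mem_filter] at hq
      exact congrArg Prod.snd hq.2
    rw [Finset.prod_congr rfl h2, Finset.prod_const]
    congr 1
    unfold oC
    rw [Nat.card_eq_fintype_card, Fintype.card_subtype]
    congr 1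
    ext q
    simp only [Finset.mem_filter, Finset.mem_univ, true_and]
    constructor
    · intro h2
      have h3 : per H x q.out = p.1 := congrArg Prod.fst h2
      have h4 : lbl H ϕ x (per H x q.out) q.out = p.2 := congrArg Prod.snd h2
      rw [h3] at h4
      exact ⟨h3, h4⟩
    · rintro ⟨h3, h4⟩
      rw [h3, h4]
  · intro q _
    rw [Finset.mem_product, Finset.mem_range]
    exact ⟨Nat.lt_succ_of_le (per_le_card H x _), Finset.mem_univ _⟩

end generic

/-- A double sequence is determined by its "divisor sums". -/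
theorem determined {A : Type*} [CommGroup A] [Fintype A] [DecidableEq A] (N N' : ℕ → A → ℕ)
    (h : ∀ k : ℕ, k ≠ 0 → ∀ u : A,
      ∑ p ∈ (k.divisors ×ˢ (Finset.univ : Finset A)).filter (fun p => p.2 ^ (k / p.1) = u),
        N p.1 p.2 =
      ∑ p ∈ (k.divisors ×ˢ (Finset.univ : Finset A)).filter (fun p => p.2 ^ (k / p.1) = u),
        N' p.1 p.2) :
    ∀ k : ℕ, k ≠ 0 → ∀ u : A, N k u = N' k u := by
  intro k
  induction k using Nat.strong_induction_on with
  | _ k ih =>
    intro hk u
    have hmem : (k, u) ∈ (k.divisors ×ˢ (Finset.univ : Finset A)).filter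
        (fun p => p.2 ^ (k / p.1) = u) := by
      rw [Finset.mem_filter, Finset.mem_product, Nat.mem_divisors]
      refine ⟨⟨⟨dvd_rfl, hk⟩, Finset.mem_univ _⟩, ?_⟩
      show u ^ (k / k) = u
      rw [Nat.div_self (Nat.pos_of_ne_zero hk), pow_one]
    have h1 := h k hk u
    rw [← Finset.add_sum_erase _ _ hmem, ← Finset.add_sum_erase _ _ hmem] at h1
    have h2 : ∑ p ∈ ((k.divisors ×ˢ (Finset.univ : Finset A)).filter
        (fun p => p.2 ^ (k / p.1) = u)).erase (k, u), N p.1 p.2 =
        ∑ p ∈ ((k.divisors ×ˢ (Finset.univ : Finset A)).filter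
        (fun p => p.2 ^ (k / p.1) = u)).erase (k, u), N' p.1 p.2 := by
      apply Finset.sum_congr rfl
      intro p hp
      rw [Finset.mem_erase, Finset.mem_filter, Finset.mem_product, Nat.mem_divisors] at hp
      obtain ⟨hne, ⟨⟨hdvd, -⟩, -⟩, hpow⟩ := hp
      have hp1 : p.1 ≠ 0 := by
        intro h0
        rw [h0, zero_dvd_iff] at hdvd
        exact hk hdvd
      have hlt : p.1 < k := by
        rcases (Nat.le_of_dvd (Nat.pos_of_ne_zero hk) hdvd).lt_or_eq with h3 | h3
        · exact h3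
        · exfalso
          apply hne
          rw [h3, Nat.div_self (Nat.pos_of_ne_zero hk), pow_one] at hpow
          exact Prod.ext h3 hpow
      exact ih p.1 hlt hp1 p.2
    rw [h2] at h1
    exact Nat.add_right_cancel h1

/-- The weighted product of transfers at `x` is determined by the weighted counts `cC`. -/
theorem transfer_determined {G : Type*} [Group G] [Finite G] {A : Type*} [CommGroup A] [Finite A]
    {ι : Type*} [Fintype ι] (H : ι → Subgroup G) (ϕ : ∀ i, H i →* A) (m : ι → ℕ) (x x' : G)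
    (hc : ∀ k : ℕ, k ≠ 0 → ∀ u : A,
      ∑ i, m i * cC (H i) (ϕ i) x k u = ∑ i, m i * cC (H i) (ϕ i) x' k u) :
    ∏ i, MonoidHom.transfer (ϕ i) x ^ m i = ∏ i, MonoidHom.transfer (ϕ i) x' ^ m i := by
  classical
  let _ : Fintype A := Fintype.ofFinite A
  have hN : ∀ k : ℕ, k ≠ 0 → ∀ u : A,
      ∑ i, m i * nC (H i) (ϕ i) x k u = ∑ i, m i * nC (H i) (ϕ i) x' k u := by
    refine determined (fun k u => ∑ i, m i * nC (H i) (ϕ i) x k u)
      (fun k u => ∑ i, m i * nC (H i) (ϕ i) x' k u) ?_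
    intro k hk u
    have key : ∀ x : G,
        ∑ p ∈ (k.divisors ×ˢ (Finset.univ : Finset A)).filter (fun p => p.2 ^ (k / p.1) = u),
          ∑ i, m i * nC (H i) (ϕ i) x p.1 p.2 = ∑ i, m i * cC (H i) (ϕ i) x k u := by
      intro x
      rw [Finset.sum_comm]
      apply Finset.sum_congr rfl
      intro i _
      rw [← Finset.mul_sum]
      congr 1
      exact (cC_eq (H i) (ϕ i) x hk u).symm
    exact (key x).trans ((hc k hk u).trans (key x').symm)
  have hO : ∀ k : ℕ, ∀ u : A,
      ∑ i, m i * oC (H i) (ϕ i) x k u = ∑ i, m i * oC (H i) (ϕ i) x' k u := by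
    intro k u
    rcases Nat.eq_zero_or_pos k with hk | hk
    · subst hk
      simp [oC_zero]
    · have h1 := hN k hk.ne' u
      simp_rw [nC_eq, ← mul_assoc, mul_comm (m _) k, mul_assoc, ← Finset.mul_sum] at h1
      exact Nat.eq_of_mul_eq_mul_left hk h1
  simp_rw [transfer_eq_prod_oC, ← Finset.prod_pow, ← pow_mul]
  rw [Finset.prod_comm, Finset.prod_comm (γ := ι)]
  apply Finset.prod_congr rfl
  intro p _
  rw [Finset.prod_pow_eq_pow_sum, Finset.prod_pow_eq_pow_sum]
  congr 1
  simp_rw [mul_comm (oC _ _ _ _ _)]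
  exact hO p.1 p.2

end Cfsg.Agent.Lib.Helper87
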