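import Cfsg.Agent.Lib.Helper87.BisetInd
import Cfsg.Agent.Lib.Helper87.TransferCount

set_option autoImplicit false

/-!
The transfer map of a "biset" `⊔_E m(E) · (K × K) ⧸ E` (with all `E` graphs of injective partial
maps), and its dependence on the fixed point counts `fixm m` only.
-/

namespace Cfsg.Agent.Lib.Helper87

open MulAction

variable {K : Type*} [Group K] {A : Type*} [CommGroup A]

/-- The first projection, on `E`. -/
def fstE (E : Subgroup (K × K)) : E →* K := (MonoidHom.fst K K).comp E.subtype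

/-- The first projection of `E`. -/
def pE (E : Subgroup (K × K)) : Subgroup K := (fstE E).range

theorem mem_pE {E : Subgroup (K × K)} {a : K} : a ∈ pE E ↔ ∃ b : K, (a, b) ∈ E := by
  constructor
  · rintro ⟨e, rfl⟩
    exact ⟨(e : K × K).2, e.2⟩
  · rintro ⟨b, hb⟩
    exact ⟨⟨(a, b), hb⟩, rfl⟩

/-- The map `P_E → A` induced by `lam` on the second coordinate, when `E` is a graph. -/
noncomputable def phiE (lam : K →* A) (E : Subgroup (K × K)) : ↥(pE E) →* A :=
  open Classical in
  if h : Function.Injective (fstE E) then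
    (lam.comp ((MonoidHom.snd K K).comp E.subtype)).comp (MonoidHom.ofInjective h).symm.toMonoidHom
  else 1

theorem phiE_apply (lam : K →* A) {E : Subgroup (K × K)} (h : Function.Injective (fstE E))
    {a b : K} (hab : (a, b) ∈ E) (ha : a ∈ pE E) : phiE lam E ⟨a, ha⟩ = lam b := by
  unfold phiE
  rw [dif_pos h]
  have : (MonoidHom.ofInjective h).symm ⟨a, ha⟩ = ⟨(a, b), hab⟩ := by
    rw [MulEquiv.symm_apply_eq]
    exact Subtype.ext rfl
  show lam ((MonoidHom.snd K K) (E.subtype ((MonoidHom.ofInjective h).symm ⟨a, ha⟩))) = lam b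
  rw [this]
  rfl

theorem snd_eq_of_injective {E : Subgroup (K × K)} (h : Function.Injective (fstE E))
    {a b b' : K} (hab : (a, b) ∈ E) (hab' : (a, b') ∈ E) : b = b' := by
  have : (⟨(a, b), hab⟩ : E) = ⟨(a, b'), hab'⟩ := h rfl
  exact congrArg (fun e : E => (e : K × K).2) this

theorem card_pE {E : Subgroup (K × K)} (h : Function.Injective (fstE E)) :
    Nat.card (pE E) = Nat.card E :=
  (Nat.card_congr (MonoidHom.ofInjective h).toEquiv).symm

theorem conj_zpowers_mem_iff {G : Type*} [Group G] (E : Subgroup G) (z g : G) :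
    (∀ d ∈ Subgroup.zpowers z, g⁻¹ * d * g ∈ E) ↔ g⁻¹ * z * g ∈ E := by
  constructor
  · intro h
    exact h z (Subgroup.mem_zpowers z)
  · intro h d hd
    obtain ⟨n, rfl⟩ := Subgroup.mem_zpowers_iff.mp hd
    have h1 := conj_zpow (a := g⁻¹) (b := z) (i := n)
    rw [inv_inv] at h1
    rw [← h1]
    exact E.zpow_mem h n

theorem card_preimage_mk (H : Subgroup K) (p : K ⧸ H → Prop) :
    Nat.card {a : K // p (a : K ⧸ H)} = Nat.card {y : K ⧸ H // p y} * Nat.card H := by
  rw [← Nat.card_prod]
  apply Nat.card_congr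
  refine
    { toFun := fun a => (⟨(a.1 : K ⧸ H), a.2⟩,
        ⟨((a.1 : K ⧸ H)).out⁻¹ * a.1, QuotientGroup.eq.mp (QuotientGroup.out_eq' _)⟩)
      invFun := fun y => ⟨y.1.1.out * y.2, by
        rw [QuotientGroup.mk_mul_of_mem _ y.2.2, QuotientGroup.out_eq']
        exact y.1.2⟩
      left_inv := ?_
      right_inv := ?_ }
  · intro a
    apply Subtype.ext
    simp
  · rintro ⟨⟨y, hy⟩, ⟨h, hh⟩⟩
    have e : ((y.out * h : K) : K ⧸ H) = y := by
      rw [QuotientGroup.mk_mul_of_mem _ hh, QuotientGroup.out_eq']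
    apply Prod.ext
    · exact Subtype.ext e
    · apply Subtype.ext
      show ((y.out * h : K) : K ⧸ H).out⁻¹ * (y.out * h) = h
      rw [e]
      group

/-- The fundamental counting identity relating the counts `cC` for the transfer of `phiE lam E`
and the fixed point counts of cyclic subgroups on `(K × K) ⧸ E`. -/
theorem card_mul_cC [Fintype K] [DecidableEq A] (lam : K →* A) (E : Subgroup (K × K))
    (h : Function.Injective (fstE E)) (x : K) (k : ℕ) (u : A) :
    Nat.card K * cC (pE E) (phiE lam E) x k u =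
      ∑ s : K, if lam s = u then fp E (Subgroup.zpowers ((x ^ k, s) : K × K)) else 0 := by
  classical
  have hEpos : 0 < Nat.card E := Nat.card_pos
  apply Nat.eq_of_mul_eq_mul_left hEpos
  -- step 1
  have h1 : ∀ s : K, Nat.card E * fp E (Subgroup.zpowers ((x ^ k, s) : K × K)) =
      ∑ a : K, ∑ b : K, if (a⁻¹ * x ^ k * a, b⁻¹ * s * b) ∈ E then 1 else 0 := by
    intro s
    rw [card_mul_fp]
    rw [Nat.card_congr (Equiv.subtypeEquivRight (fun g => conj_zpowers_mem_iff E (x ^ k, s) g))]
    rw [Nat.card_eq_fintype_card, Fintype.card_subtype, Finset.card_filter, Fintype.sum_prod_type]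
    rfl
  -- step 3
  have h3 : ∀ a b : K, (∑ s : K, if lam s = u then
      (if (a⁻¹ * x ^ k * a, b⁻¹ * s * b) ∈ E then 1 else 0) else 0) =
      ∑ s : K, if lam s = u ∧ (a⁻¹ * x ^ k * a, s) ∈ E then 1 else 0 := by
    intro a b
    apply Fintype.sum_equiv (MulAut.conj b⁻¹).toEquiv
    intro s
    have e1 : (MulAut.conj b⁻¹).toEquiv s = b⁻¹ * s * b := by simp
    have e2 : lam (b⁻¹ * s * b) = lam s := by
      rw [map_mul, map_mul, map_inv, mul_comm (lam b)⁻¹, mul_assoc, inv_mul_cancel, mul_one]
    rw [e1, e2]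
    by_cases hs : lam s = u
    · simp [hs]
    · simp [hs]
  -- step 4
  have h4 : ∀ a : K, (∑ s : K, if lam s = u ∧ (a⁻¹ * x ^ k * a, s) ∈ E then 1 else 0) =
      if (x ^ k • (a : K ⧸ pE E) = (a : K ⧸ pE E) ∧ lbl (pE E) (phiE lam E) x k a = u)
        then 1 else 0 := by
    intro a
    by_cases hP : a⁻¹ * x ^ k * a ∈ pE E
    · obtain ⟨b, hb⟩ := mem_pE.mp hP
      have hfix : x ^ k • (a : K ⧸ pE E) = (a : K ⧸ pE E) := (pow_smul_mk_eq_iff _ x k a).mpr hP
      have hlbl : lbl (pE E) (phiE lam E) x k a = lam b := by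
        rw [lbl_mk, dif_pos hP, phiE_apply lam h hb]
      rw [hlbl]
      rw [Finset.sum_eq_single b]
      · simp [hb, hfix]
      · intro s _ hsb
        rw [if_neg]
        rintro ⟨-, hs⟩
        exact hsb (snd_eq_of_injective h hs hb)
      · intro hb'
        exact absurd (Finset.mem_univ b) hb'
    · have hfix : ¬ x ^ k • (a : K ⧸ pE E) = (a : K ⧸ pE E) := fun hf =>
        hP ((pow_smul_mk_eq_iff _ x k a).mp hf)
      rw [if_neg (fun hh => hfix hh.1)]
      apply Finset.sum_eq_zero
      intro s _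
      rw [if_neg]
      rintro ⟨-, hs⟩
      exact hP (mem_pE.mpr ⟨s, hs⟩)
  -- step 5
  have h5 : (∑ a : K, if (x ^ k • (a : K ⧸ pE E) = (a : K ⧸ pE E) ∧
      lbl (pE E) (phiE lam E) x k a = u) then 1 else 0) =
      cC (pE E) (phiE lam E) x k u * Nat.card (pE E) := by
    unfold cC
    rw [← card_preimage_mk (pE E) (fun y => x ^ k • y = y ∧ lbl (pE E) (phiE lam E) x k y = u)]
    rw [Nat.card_eq_fintype_card, Fintype.card_subtype, Finset.card_filter]
  calc Nat.card E * (Nat.card K * cC (pE E) (phiE lam E) x k u)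
      = Nat.card K * (cC (pE E) (phiE lam E) x k u * Nat.card (pE E)) := by
        rw [card_pE h]; ring
    _ = Nat.card K * ∑ a : K, ∑ s : K,
          if lam s = u ∧ (a⁻¹ * x ^ k * a, s) ∈ E then 1 else 0 := by
        rw [← h5]
        congr 1
        apply Finset.sum_congr rfl
        intro a _
        rw [h4]
    _ = ∑ a : K, ∑ b : K, ∑ s : K,
          if lam s = u ∧ (a⁻¹ * x ^ k * a, s) ∈ E then 1 else 0 := by
        rw [Finset.mul_sum]
        apply Finset.sum_congr rfl
        intro a _
        rw [Finset.sum_const, Finset.card_univ, smul_eq_mul, Nat.card_eq_fintype_card]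
    _ = ∑ a : K, ∑ b : K, ∑ s : K, if lam s = u then
          (if (a⁻¹ * x ^ k * a, b⁻¹ * s * b) ∈ E then 1 else 0) else 0 := by
        apply Finset.sum_congr rfl
        intro a _
        apply Finset.sum_congr rfl
        intro b _
        rw [h3]
    _ = ∑ s : K, if lam s = u then
          (∑ a : K, ∑ b : K, if (a⁻¹ * x ^ k * a, b⁻¹ * s * b) ∈ E then 1 else 0) else 0 := by
        have e1 : (∑ a : K, ∑ b : K, ∑ s : K, if lam s = u then
            (if (a⁻¹ * x ^ k * a, b⁻¹ * s * b) ∈ E then 1 else 0) else 0) =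
            ∑ a : K, ∑ s : K, ∑ b : K, if lam s = u then
            (if (a⁻¹ * x ^ k * a, b⁻¹ * s * b) ∈ E then 1 else 0) else 0 :=
          Finset.sum_congr rfl (fun a _ => Finset.sum_comm)
        have e2 : (∑ a : K, ∑ s : K, ∑ b : K, if lam s = u then
            (if (a⁻¹ * x ^ k * a, b⁻¹ * s * b) ∈ E then 1 else 0) else 0) =
            ∑ s : K, ∑ a : K, ∑ b : K, if lam s = u then
            (if (a⁻¹ * x ^ k * a, b⁻¹ * s * b) ∈ E then 1 else 0) else 0 :=
          Finset.sum_comm
        rw [e1, e2]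
        apply Finset.sum_congr rfl
        intro s _
        by_cases hs : lam s = u
        · simp only [if_pos hs]
        · simp only [if_neg hs, Finset.sum_const_zero]
    _ = Nat.card E *
          ∑ s : K, if lam s = u then fp E (Subgroup.zpowers ((x ^ k, s) : K × K)) else 0 := by
        rw [Finset.mul_sum]
        apply Finset.sum_congr rfl
        intro s _
        by_cases hs : lam s = u
        · rw [if_pos hs, if_pos hs, h1]
        · rw [if_neg hs, if_neg hs, mul_zero]

/-- The transfer of the biset with multiplicities `m`. -/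
noncomputable def bT [Finite K] (lam : K →* A) (m : Subgroup (K × K) → ℕ) : K →* A :=
  open Classical in
  letI : Fintype (Subgroup (K × K)) := Fintype.ofFinite _
  ∏ E : Subgroup (K × K), MonoidHom.transfer (phiE lam E) ^ m E

theorem bT_apply [Finite K] [Fintype (Subgroup (K × K))] (lam : K →* A)
    (m : Subgroup (K × K) → ℕ) (x : K) :
    bT lam m x = ∏ E : Subgroup (K × K), MonoidHom.transfer (phiE lam E) x ^ m E := by
  unfold bT
  rw [MonoidHom.finsetProd_apply]
  simp only [MonoidHom.pow_apply]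
  exact Finset.prod_congr (Finset.ext (by simp)) (fun _ _ => rfl)

/-- The transfer of the biset at `x` depends only on the fixed point counts of the cyclic
subgroups generated by the `(x ^ k, s)`. -/
theorem bT_eq_of_fixm [Finite K] [Finite A] (lam : K →* A) (m : Subgroup (K × K) → ℕ)
    (hm : ∀ E, m E ≠ 0 → Function.Injective (fstE E)) (x x' : K)
    (h : ∀ k : ℕ, k ≠ 0 → ∀ s : K, fixm m (Subgroup.zpowers ((x ^ k, s) : K × K)) =
      fixm m (Subgroup.zpowers ((x' ^ k, s) : K × K))) :
    bT lam m x = bT lam m x' := by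
  classical
  let _ : Fintype (Subgroup (K × K)) := Fintype.ofFinite _
  let _ : Fintype K := Fintype.ofFinite _
  rw [bT_apply, bT_apply]
  apply transfer_determined (fun E => pE E) (fun E => phiE lam E) m x x'
  intro k hk u
  have key : ∀ y : K, Nat.card K * ∑ E : Subgroup (K × K), m E * cC (pE E) (phiE lam E) y k u =
      ∑ s : K, if lam s = u then fixm m (Subgroup.zpowers ((y ^ k, s) : K × K)) else 0 := by
    intro y
    rw [Finset.mul_sum]
    have h1 : ∀ E : Subgroup (K × K), Nat.card K * (m E * cC (pE E) (phiE lam E) y k u) =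
        ∑ s : K, if lam s = u then m E * fp E (Subgroup.zpowers ((y ^ k, s) : K × K)) else 0 := by
      intro E
      by_cases hE : m E = 0
      · simp [hE]
      · rw [mul_left_comm, card_mul_cC lam E (hm E hE), Finset.mul_sum]
        apply Finset.sum_congr rfl
        intro s _
        by_cases hs : lam s = u
        · simp only [if_pos hs]
        · simp only [if_neg hs, mul_zero]
    rw [Finset.sum_congr rfl (fun E _ => h1 E), Finset.sum_comm]
    apply Finset.sum_congr rfl
    intro s _
    by_cases hs : lam s = u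
    · simp only [if_pos hs]
      unfold fixm
      rw [finsum_eq_sum_of_fintype]
    · simp only [if_neg hs, Finset.sum_const_zero]
  apply Nat.eq_of_mul_eq_mul_left (Nat.card_pos (α := K))
  rw [key x, key x']
  apply Finset.sum_congr rfl
  intro s _
  rw [h k hk s]

theorem transfer_phiE_central [Finite K] (lam : K →* A) {E : Subgroup (K × K)}
    (h : Function.Injective (fstE E)) {z : K} (hz : z ∈ Subgroup.center K)
    (hfix : ∀ a b : K, (a, b) ∈ E → a ∈ Subgroup.zpowers z → b = a) :
    MonoidHom.transfer (phiE lam E) z = lam z ^ (pE E).index := by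
  have key : ∀ (k : ℕ) (g₀ : K), g₀⁻¹ * z ^ k * g₀ ∈ pE E → g₀⁻¹ * z ^ k * g₀ = z ^ k := by
    intro k g₀ _
    have h1 : z ^ k ∈ Subgroup.center K := (Subgroup.center K).pow_mem hz k
    rw [mul_assoc, ← Subgroup.mem_center_iff.mp h1 g₀, inv_mul_cancel_left]
  rw [MonoidHom.transfer_eq_pow (phiE lam E) z key]
  have hmem := MonoidHom.transfer_eq_pow_aux (H := pE E) z key
  obtain ⟨b, hb⟩ := mem_pE.mp hmem
  rw [phiE_apply lam h hb, hfix _ _ hb (Subgroup.npow_mem_zpowers z _), map_pow]

theorem bT_central [Finite K] [Fintype (Subgroup (K × K))] (lam : K →* A)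
    (m : Subgroup (K × K) → ℕ)
    (hm : ∀ E, m E ≠ 0 → Function.Injective (fstE E)) {z : K} (hz : z ∈ Subgroup.center K)
    (hfix : ∀ E, m E ≠ 0 → ∀ a b : K, (a, b) ∈ E → a ∈ Subgroup.zpowers z → b = a) :
    bT lam m z = lam z ^ (∑ E : Subgroup (K × K), m E * (pE E).index) := by
  rw [bT_apply, ← Finset.prod_pow_eq_pow_sum]
  apply Finset.prod_congr rfl
  intro E _
  by_cases hE : m E = 0
  · simp [hE]
  · rw [transfer_phiE_central lam (hm E hE) hz (hfix E hE), ← pow_mul, mul_comm]

theorem dvd_index_of_ne_top [Finite K] {p : ℕ} [Fact p.Prime] (hK : IsPGroup p K) {H : Subgroup K}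
    (hH : H ≠ ⊤) : p ∣ H.index := by
  obtain ⟨n, hn⟩ := hK.index H
  rcases Nat.eq_zero_or_pos n with h0 | h0
  · exfalso
    rw [h0, pow_zero] at hn
    exact hH (Subgroup.index_eq_one.mp hn)
  · rw [hn]
    exact dvd_pow_self p h0.ne'

end Cfsg.Agent.Lib.Helper87
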