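import Cfsg.Agent.Lib.Helper87.CharBiset

set_option autoImplicit false

/-!
Existence of a characteristic multiplicity function for a saturated fusion system `F` over a
finite `p`-group `S`: supported on graphs of maps of `F`, with `F`-stable fixed point counts, and
with the number of "right orbits" prime to `p`.
-/

namespace Cfsg.Agent.Lib.Helper87

open Cfsg Cfsg.FusionSystem Cfsg.Agent.Lib.Helper90

variable {Ω : Type*} [Group Ω] {S : Subgroup Ω} {F : FusionSystem S}

/-- The graph of an automorphism of `S`. -/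
noncomputable def grA (S : Subgroup Ω) (α : MulAut ↥S) : Subgroup (↥S × ↥S) :=
  gr S S (autFun S α)

theorem mem_grA {α : MulAut ↥S} (hα : α ∈ F.autGroup S) {x : ↥S × ↥S} :
    x ∈ grA S α ↔ α x.1 = x.2 := by
  unfold grA
  rw [mem_gr ((mem_autGroup_iff F le_rfl α).mp hα)]
  constructor
  · rintro ⟨-, h⟩
    apply Subtype.ext
    rw [← h, autFun_apply]
  · intro h
    refine ⟨x.1.2, ?_⟩
    rw [autFun_apply, h]

theorem isG_grA {α : MulAut ↥S} (hα : α ∈ F.autGroup S) : IsG F (grA S α) :=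
  ⟨S, autFun S α, (mem_autGroup_iff F le_rfl α).mp hα, rfl⟩

theorem card_grA {α : MulAut ↥S} (hα : α ∈ F.autGroup S) : Nat.card (grA S α) = Nat.card S :=
  card_gr ((mem_autGroup_iff F le_rfl α).mp hα)

theorem mem_normalizer_grA {α : MulAut ↥S} (hα : α ∈ F.autGroup S) {n : ↥S × ↥S} :
    n ∈ Subgroup.normalizer ((grA S α : Subgroup (↥S × ↥S)) : Set (↥S × ↥S)) ↔
      (α n.1)⁻¹ * n.2 ∈ Subgroup.center ↥S := by
  obtain ⟨a, b⟩ := n
  rw [Subgroup.mem_normalizer_iff]
  constructor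
  · intro h
    rw [Subgroup.mem_center_iff]
    intro y
    have h1 := (h (α.symm y, y)).mp ((mem_grA hα).mpr (by simp))
    have h2 := (mem_grA hα).mp h1
    simp only [Prod.fst_mul, Prod.snd_mul, Prod.fst_inv, Prod.snd_inv, map_mul, map_inv,
      MulEquiv.apply_symm_apply] at h2
    show y * ((α a)⁻¹ * b) = (α a)⁻¹ * b * y
    calc y * ((α a)⁻¹ * b) = (α a)⁻¹ * (α a * y * (α a)⁻¹) * b := by group
      _ = (α a)⁻¹ * (b * y * b⁻¹) * b := by rw [h2]
      _ = (α a)⁻¹ * b * y := by group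
  · intro hz d
    obtain ⟨z, hz', hb⟩ : ∃ z ∈ Subgroup.center ↥S, b = α a * z := ⟨_, hz, by group⟩
    subst hb
    rw [mem_grA hα, mem_grA hα]
    simp only [Prod.fst_mul, Prod.snd_mul, Prod.fst_inv, Prod.snd_inv, map_mul, map_inv]
    have hc := Subgroup.mem_center_iff.mp hz' d.2
    have e : (α a * z) * d.2 * (α a * z)⁻¹ = α a * d.2 * (α a)⁻¹ := by
      calc (α a * z) * d.2 * (α a * z)⁻¹ = α a * (z * d.2) * z⁻¹ * (α a)⁻¹ := by group
        _ = α a * (d.2 * z) * z⁻¹ * (α a)⁻¹ := by rw [hc]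
        _ = α a * d.2 * (α a)⁻¹ := by group
    rw [e]
    constructor
    · intro h
      rw [h]
    · intro h
      exact mul_left_cancel (mul_right_cancel h)

theorem card_normalizer_grA {α : MulAut ↥S} (hα : α ∈ F.autGroup S) :
    Nat.card (Subgroup.normalizer ((grA S α : Subgroup (↥S × ↥S)) : Set (↥S × ↥S))) =
      Nat.card ↥S * Nat.card (Subgroup.center ↥S) := by
  rw [← Nat.card_prod]
  apply Nat.card_congr
  refine
    { toFun := fun n => (n.1.1, ⟨(α n.1.1)⁻¹ * n.1.2, (mem_normalizer_grA hα).mp n.2⟩)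
      invFun := fun w => ⟨(w.1, α w.1 * w.2.1), (mem_normalizer_grA hα).mpr (by
        show (α w.1)⁻¹ * (α w.1 * w.2.1) ∈ Subgroup.center ↥S
        rw [inv_mul_cancel_left]
        exact w.2.2)⟩
      left_inv := ?_
      right_inv := ?_ }
  · rintro ⟨⟨a, b⟩, hn⟩
    apply Subtype.ext
    simp
  · rintro ⟨a, ⟨z, hz⟩⟩
    simp

theorem fp_grA_self [Finite S] {α : MulAut ↥S} (hα : α ∈ F.autGroup S) :
    fp (grA S α) (grA S α) = Nat.card (Subgroup.center ↥S) := by
  have h1 := fp_self_mul (grA S α)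
  rw [card_normalizer_grA hα, card_grA hα] at h1
  exact Nat.eq_of_mul_eq_mul_left Nat.card_pos h1

theorem grA_le_cj {α t : MulAut ↥S} (hα : α ∈ F.autGroup S) (ht : t ∈ F.autGroup S)
    {g : ↥S × ↥S} (h : grA S α ≤ cj g (grA S t)) :
    ∀ x : ↥S, α x = (g.2 * (t g.1)⁻¹) * t x * (g.2 * (t g.1)⁻¹)⁻¹ := by
  intro x
  have h1 := (le_cj_iff.mp h) (x, α x) ((mem_grA hα).mpr rfl)
  have h2 := (mem_grA ht).mp h1
  simp only [Prod.fst_mul, Prod.snd_mul, Prod.fst_inv, Prod.snd_inv, map_mul, map_inv] at h2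
  calc α x = g.2 * (g.2⁻¹ * α x * g.2) * g.2⁻¹ := by group
    _ = g.2 * ((t g.1)⁻¹ * t x * t g.1) * g.2⁻¹ := by rw [h2]
    _ = _ := by group

theorem grA_eq_cj {α t : MulAut ↥S} (hα : α ∈ F.autGroup S) (ht : t ∈ F.autGroup S) (a : ↥S)
    (h : ∀ x : ↥S, α x = a * t x * a⁻¹) : grA S α = cj ((1, a) : ↥S × ↥S) (grA S t) := by
  ext ⟨x, y⟩
  rw [mem_cj, mem_grA hα, mem_grA ht]
  simp only [Prod.fst_mul, Prod.snd_mul, Prod.fst_inv, Prod.snd_inv, inv_one, one_mul, mul_one]
  rw [h x]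
  constructor
  · intro h1
    rw [← h1]
    group
  · intro h1
    rw [h1]
    group

/-- The top level: a multiplicity function on the graphs of the automorphisms of `S` in `F`. -/
theorem exists_top_mult [Finite S] {p : ℕ} [Fact p.Prime] (hS : IsPGroup p S)
    (hF : F.IsSaturated p) :
    ∃ m₀ : Subgroup (↥S × ↥S) → ℕ,
      Good (IsG F) (RelG F) {D | IsG F D ∧ Nat.card D = Nat.card S} m₀ ∧
      ¬ p ∣ ∑ᶠ E, m₀ E := by
  classical
  have H := bisetHyp hS hF
  obtain ⟨hfa, -⟩ := top_fullyAutomized_receptive hF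
  obtain ⟨-, R, hR⟩ := hfa
  obtain ⟨T, hT, -⟩ := Subgroup.exists_isComplement_right
    ((autInducedBy S S).subgroupOf (F.autGroup S)) 1
  have hTfin : Finite T := Subtype.finite
  let _ : Fintype T := Fintype.ofFinite T
  let _ : Fintype (Subgroup (↥S × ↥S)) := Fintype.ofFinite _
  let m₀ : Subgroup (↥S × ↥S) → ℕ := fun E =>
    Nat.card {t : T // grA S ((t : F.autGroup S) : MulAut ↥S) = E}
  have hm₀ : ∀ E, m₀ E = ∑ t : T, if grA S ((t : F.autGroup S) : MulAut ↥S) = E then 1 else 0 := by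
    intro E
    show Nat.card _ = _
    rw [Nat.card_eq_fintype_card, Fintype.card_subtype, Finset.card_filter]
  have hfixm : ∀ D, fixm m₀ D = ∑ t : T, fp (grA S ((t : F.autGroup S) : MulAut ↥S)) D := by
    intro D
    unfold fixm
    rw [finsum_eq_sum_of_fintype]
    simp_rw [hm₀, Finset.sum_mul]
    rw [Finset.sum_comm]
    apply Finset.sum_congr rfl
    intro t _
    rw [Finset.sum_eq_single (grA S ((t : F.autGroup S) : MulAut ↥S))]
    · simp
    · intro E _ hE
      rw [if_neg (Ne.symm hE), zero_mul]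
    · intro h
      exact absurd (Finset.mem_univ _) h
  have hcount : ∑ᶠ E, m₀ E = Nat.card T := by
    rw [finsum_eq_sum_of_fintype]
    simp_rw [hm₀]
    rw [Finset.sum_comm]
    simp
  -- the value of `fixm m₀` on the top graphs
  have hval : ∀ D : Subgroup (↥S × ↥S), IsG F D → Nat.card D = Nat.card S →
      fixm m₀ D = Nat.card (Subgroup.center ↥S) := by
    rintro D ⟨P, f, hf, rfl⟩ hcard
    rw [card_gr hf] at hcard
    have hPS : P = S := Subgroup.eq_of_le_of_card_ge hf.le hcard.ge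
    subst hPS
    obtain ⟨α, hα, hαf⟩ := exists_aut_of_mor hf (fun x hx => hf.mem hx)
    have hD : gr P P f = grA P α := by
      apply gr_congr
      intro x hx
      rw [autFun_apply' α hx, hαf]
    rw [hD]
    obtain ⟨⟨ι, t₀⟩, hprod, huniq⟩ := hT.existsUnique ⟨α, hα⟩
    have hι : ((ι : F.autGroup P) : MulAut ↥P) ∈ autInducedBy P P := ι.2
    obtain ⟨a, ha, hιa⟩ := (mem_autInducedBy_iff P P _).mp hι
    have hαt : ∀ x : ↥P, α x = ⟨a, ha⟩ * ((t₀ : F.autGroup P) : MulAut ↥P) x * ⟨a, ha⟩⁻¹ := by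
      intro x
      have h1 : α = ((ι : F.autGroup P) : MulAut ↥P) * ((t₀ : F.autGroup P) : MulAut ↥P) :=
        (congrArg Subtype.val hprod).symm
      rw [h1]
      apply Subtype.ext
      show (((ι : F.autGroup P) : MulAut ↥P) (((t₀ : F.autGroup P) : MulAut ↥P) x) : Ω) = _
      rw [hιa]
      rfl
    rw [hfixm, Finset.sum_eq_single t₀]
    · rw [grA_eq_cj hα t₀.1.2 ⟨a, ha⟩ hαt, fp_cj_right, fp_grA_self t₀.1.2]
    · intro t _ htt₀
      by_contra hne
      obtain ⟨g, hg⟩ := exists_of_fp_ne_zero hne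
      have h1 := grA_le_cj hα t.1.2 hg
      set b : ↥P := g.2 * (((t : F.autGroup P) : MulAut ↥P) g.1)⁻¹ with hb
      have h2 : α = MulAut.conj b * ((t : F.autGroup P) : MulAut ↥P) := by
        ext x
        rw [h1 x]
        rfl
      have h3 : MulAut.conj b ∈ autInducedBy P P :=
        (mem_autInducedBy_iff P P _).mpr ⟨b, b.2, fun x => rfl⟩
      have h4 : MulAut.conj b ∈ F.autGroup P := by
        have h5 : MulAut.conj b = α * (((t : F.autGroup P) : MulAut ↥P))⁻¹ := by
          rw [h2, mul_inv_cancel_right]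
        rw [h5]
        exact (F.autGroup P).mul_mem hα ((F.autGroup P).inv_mem t.1.2)
      have h6 := huniq (⟨⟨⟨MulAut.conj b, h4⟩, h3⟩, t⟩ : _ × _) (Subtype.ext h2.symm)
      exact htt₀ (congrArg Prod.snd h6)
    · intro h
      exact absurd (Finset.mem_univ _) h
  refine ⟨m₀, ?_, ?_⟩
  · refine
      { isG := fun E hE => hE.1
        rel_closed := fun D hD D' hrel => ⟨H.rel_isG' hrel, (H.rel_card hrel).symm.trans hD.2⟩
        up := ?_
        supp := ?_
        stable := ?_ }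
    · rintro D hD D' ⟨P', f', hf', rfl⟩ -
      rw [card_gr hf', hD.2]
      exact Subgroup.card_le_of_le hf'.le
    · intro E hE
      have hne : Nonempty {t : T // grA S ((t : F.autGroup S) : MulAut ↥S) = E} := by
        by_contra hemp
        rw [not_nonempty_iff] at hemp
        exact hE Nat.card_of_isEmpty
      obtain ⟨t, rfl⟩ := hne
      exact ⟨isG_grA t.1.2, card_grA t.1.2⟩
    · intro D hD D' hrel
      rw [hval D hD.1 hD.2, hval D' (H.rel_isG' hrel) ((H.rel_card hrel).symm.trans hD.2)]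
  · rw [hcount, hT.card_right, ← hR]
    exact R.not_dvd_index

/-- A characteristic multiplicity function. -/
theorem exists_char_mult [Finite S] {p : ℕ} [Fact p.Prime] (hS : IsPGroup p S)
    (hF : F.IsSaturated p) :
    ∃ m : Subgroup (↥S × ↥S) → ℕ, (∀ E, m E ≠ 0 → IsG F E) ∧
      (∀ D D', RelG F D D' → fixm m D = fixm m D') ∧
      ¬ p ∣ ∑ᶠ E, m E * (pE E).index := by
  classical
  have H := bisetHyp hS hF
  obtain ⟨m₀, hgood, hm₀⟩ := exists_top_mult hS hF
  have hSS : IsPGroup p (↥S × ↥S) := by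
    obtain ⟨n, hn⟩ := IsPGroup.iff_card.mp hS
    apply IsPGroup.of_card (n := n + n)
    rw [Nat.card_prod, hn, pow_add]
  obtain ⟨m, hsupp, hst, hext⟩ := exists_stable_mult hSS H _ m₀ hgood
  refine ⟨m, hsupp, hst, ?_⟩
  let _ : Fintype (Subgroup (↥S × ↥S)) := Fintype.ofFinite _
  rw [finsum_eq_sum_of_fintype] at hm₀ ⊢
  have hterm : ∀ E : Subgroup (↥S × ↥S), (m E * (pE E).index) % p = m₀ E % p := by
    intro E
    by_cases hE : E ∈ {D : Subgroup (↥S × ↥S) | IsG F D ∧ Nat.card D = Nat.card S}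
    · rw [hext E hE]
      have htop : pE E = ⊤ := by
        apply Subgroup.eq_top_of_card_eq
        rw [card_pE (isG_injective hE.1), hE.2]
      rw [htop, Subgroup.index_top, mul_one]
    · have h0 : m₀ E = 0 := by
        by_contra h1
        exact hE (hgood.supp E h1)
      rw [h0]
      by_cases hmE : m E = 0
      · rw [hmE, zero_mul]
      · have hG := hsupp E hmE
        have hne : pE E ≠ ⊤ := by
          intro htop
          apply hE
          refine ⟨hG, ?_⟩
          rw [← card_pE (isG_injective hG), htop, Subgroup.card_top]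
        rw [Nat.zero_mod]
        exact Nat.mod_eq_zero_of_dvd (Dvd.dvd.mul_left (dvd_index_of_ne_top hS hne) _)
  intro hdvd
  apply hm₀
  rw [Nat.dvd_iff_mod_eq_zero] at hdvd ⊢
  rw [Finset.sum_nat_mod] at hdvd ⊢
  rw [← hdvd]
  congr 1
  apply Finset.sum_congr rfl
  intro E _
  exact (hterm E).symm

end Cfsg.Agent.Lib.Helper87
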