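import Mathlib
import Cfsg.Prelude.Def_RootSubgroups
import Cfsg.Agent.Lib.Helper18.Symp
import Cfsg.Agent.Lib.Helper47.SLGen

set_option autoImplicit false

namespace Cfsg.Agent.Lib.Helper87

open Matrix

section SpForm

variable {F : Type*} [Field F] {m : ℕ}

/-- The standard symplectic form. -/
def sf (u v : Fin m ⊕ Fin m → F) : F := u ⬝ᵥ (Matrix.J (Fin m) F *ᵥ v)

theorem sf_add_left (u u' v : Fin m ⊕ Fin m → F) : sf (u + u') v = sf u v + sf u' v :=
  add_dotProduct _ _ _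

theorem sf_smul_left (a : F) (u v : Fin m ⊕ Fin m → F) : sf (a • u) v = a * sf u v :=
  smul_dotProduct _ _ _

theorem sf_add_right (u v v' : Fin m ⊕ Fin m → F) : sf u (v + v') = sf u v + sf u v' := by
  rw [sf, sf, sf, Matrix.mulVec_add, dotProduct_add]

theorem sf_smul_right (a : F) (u v : Fin m ⊕ Fin m → F) : sf u (a • v) = a * sf u v := by
  rw [sf, sf, Matrix.mulVec_smul, dotProduct_smul, smul_eq_mul]

theorem sf_self (u : Fin m ⊕ Fin m → F) : sf u u = 0 :=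
  Cfsg.Agent.Lib.Helper18.J_dotProduct_self m u

theorem sf_swap (u v : Fin m ⊕ Fin m → F) : sf u v = - sf v u := by
  have h := sf_self (u + v)
  rw [sf_add_left, sf_add_right, sf_add_right, sf_self, sf_self, zero_add, add_zero] at h
  exact eq_neg_of_add_eq_zero_left h

theorem sf_zero_left (v : Fin m ⊕ Fin m → F) : sf (0 : Fin m ⊕ Fin m → F) v = 0 :=
  zero_dotProduct _

theorem sf_zero_right (u : Fin m ⊕ Fin m → F) : sf u (0 : Fin m ⊕ Fin m → F) = 0 := by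
  rw [sf_swap, sf_zero_left, neg_zero]

theorem sf_neg_left (u v : Fin m ⊕ Fin m → F) : sf (-u) v = - sf u v := neg_dotProduct _ _

theorem sf_neg_right (u v : Fin m ⊕ Fin m → F) : sf u (-v) = - sf u v := by
  rw [sf, sf, Matrix.mulVec_neg, dotProduct_neg]

theorem sf_sub_left (u u' v : Fin m ⊕ Fin m → F) : sf (u - u') v = sf u v - sf u' v := by
  rw [sub_eq_add_neg, sf_add_left, sf_neg_left, sub_eq_add_neg]

theorem sf_sub_right (u v v' : Fin m ⊕ Fin m → F) : sf u (v - v') = sf u v - sf u v' := by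
  rw [sub_eq_add_neg, sf_add_right, sf_neg_right, sub_eq_add_neg]

/-- Symplectic matrices preserve the form. -/
theorem sf_mulVec (g : Matrix.symplecticGroup (Fin m) F) (u v : Fin m ⊕ Fin m → F) :
    sf ((g : Matrix (Fin m ⊕ Fin m) (Fin m ⊕ Fin m) F) *ᵥ u)
      ((g : Matrix (Fin m ⊕ Fin m) (Fin m ⊕ Fin m) F) *ᵥ v) = sf u v := by
  rw [sf, sf, Matrix.mulVec_mulVec,
    ← Matrix.vecMul_transpose (g : Matrix (Fin m ⊕ Fin m) (Fin m ⊕ Fin m) F) u,
    ← Matrix.dotProduct_mulVec, Matrix.mulVec_mulVec, ← Matrix.mul_assoc,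
    SymplecticGroup.mem_iff'.mp g.2]

/-- The form is non-degenerate. -/
theorem exists_sf_ne_zero {p : Fin m ⊕ Fin m → F} (hp : p ≠ 0) : ∃ r, sf p r ≠ 0 := by
  obtain ⟨i, hi⟩ := Function.ne_iff.mp hp
  refine ⟨-(Matrix.J (Fin m) F *ᵥ Pi.single i 1), ?_⟩
  rw [sf, Matrix.mulVec_neg, Matrix.mulVec_mulVec, Matrix.J_squared, Matrix.neg_mulVec, neg_neg,
    Matrix.one_mulVec, dotProduct_single, mul_one]
  exact hi

theorem sp_coe_mul (g h : Matrix.symplecticGroup (Fin m) F) :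
    ((g * h : Matrix.symplecticGroup (Fin m) F) : Matrix (Fin m ⊕ Fin m) (Fin m ⊕ Fin m) F) =
      (g : Matrix (Fin m ⊕ Fin m) (Fin m ⊕ Fin m) F) * (h : Matrix (Fin m ⊕ Fin m) (Fin m ⊕ Fin m) F) :=
  rfl

theorem sp_coe_one :
    ((1 : Matrix.symplecticGroup (Fin m) F) : Matrix (Fin m ⊕ Fin m) (Fin m ⊕ Fin m) F) = 1 := rfl

theorem sp_mul_mulVec (g h : Matrix.symplecticGroup (Fin m) F) (v : Fin m ⊕ Fin m → F) :
    ((g * h : Matrix.symplecticGroup (Fin m) F) : Matrix (Fin m ⊕ Fin m) (Fin m ⊕ Fin m) F) *ᵥ v =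
      (g : Matrix (Fin m ⊕ Fin m) (Fin m ⊕ Fin m) F) *ᵥ
        ((h : Matrix (Fin m ⊕ Fin m) (Fin m ⊕ Fin m) F) *ᵥ v) := by
  rw [sp_coe_mul, Matrix.mulVec_mulVec]

theorem sp_inv_mulVec (g : Matrix.symplecticGroup (Fin m) F) (v : Fin m ⊕ Fin m → F) :
    ((g⁻¹ : Matrix.symplecticGroup (Fin m) F) : Matrix (Fin m ⊕ Fin m) (Fin m ⊕ Fin m) F) *ᵥ
      ((g : Matrix (Fin m ⊕ Fin m) (Fin m ⊕ Fin m) F) *ᵥ v) = v := by
  rw [← sp_mul_mulVec, inv_mul_cancel, sp_coe_one, Matrix.one_mulVec]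

theorem sp_mulVec_inv (g : Matrix.symplecticGroup (Fin m) F) (v : Fin m ⊕ Fin m → F) :
    (g : Matrix (Fin m ⊕ Fin m) (Fin m ⊕ Fin m) F) *ᵥ
      (((g⁻¹ : Matrix.symplecticGroup (Fin m) F) : Matrix (Fin m ⊕ Fin m) (Fin m ⊕ Fin m) F) *ᵥ v) = v := by
  rw [← sp_mul_mulVec, mul_inv_cancel, sp_coe_one, Matrix.one_mulVec]

/-- Extensionality for symplectic matrices through their action on vectors. -/
theorem sp_ext {g h : Matrix.symplecticGroup (Fin m) F}
    (H : ∀ v : Fin m ⊕ Fin m → F, (g : Matrix (Fin m ⊕ Fin m) (Fin m ⊕ Fin m) F) *ᵥ v =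
      (h : Matrix (Fin m ⊕ Fin m) (Fin m ⊕ Fin m) F) *ᵥ v) : g = h := by
  apply Subtype.ext
  apply Matrix.toLin'.injective
  apply LinearMap.ext
  intro v
  rw [Matrix.toLin'_apply, Matrix.toLin'_apply]
  exact H v

/-- The symplectic transvection `v ↦ v + c f(v, p) p`. -/
def tS (p : Fin m ⊕ Fin m → F) (c : F) : Matrix.symplecticGroup (Fin m) F :=
  ⟨Cfsg.sympTransvection m p c, Cfsg.Agent.Lib.Helper18.sympTransvection_mem m p c⟩

theorem tS_mulVec (p : Fin m ⊕ Fin m → F) (c : F) (v : Fin m ⊕ Fin m → F) :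
    (tS p c : Matrix (Fin m ⊕ Fin m) (Fin m ⊕ Fin m) F) *ᵥ v = v + (c * sf v p) • p := by
  show (1 + c • Matrix.vecMulVec p (Matrix.J (Fin m) F *ᵥ p)) *ᵥ v = v + (c * sf v p) • p
  rw [Matrix.add_mulVec, Matrix.one_mulVec, Matrix.smul_mulVec, Matrix.vecMulVec_mulVec,
    op_smul_eq_smul, smul_smul, dotProduct_comm]
  rfl

theorem tS_zero (p : Fin m ⊕ Fin m → F) : tS p (0 : F) = 1 := by
  apply sp_ext
  intro v
  rw [tS_mulVec, zero_mul, zero_smul, add_zero, sp_coe_one, Matrix.one_mulVec]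

theorem tS_mul (p : Fin m ⊕ Fin m → F) (c d : F) : tS p c * tS p d = tS p (c + d) := by
  apply sp_ext
  intro v
  rw [sp_mul_mulVec, tS_mulVec, tS_mulVec, tS_mulVec, sf_add_left, sf_smul_left, sf_self, mul_zero,
    add_zero, add_assoc, ← add_smul]
  congr 2
  ring

theorem tS_inv (p : Fin m ⊕ Fin m → F) (c : F) : (tS p c)⁻¹ = tS p (-c) := by
  apply inv_eq_of_mul_eq_one_right
  rw [tS_mul, add_neg_cancel, tS_zero]

theorem tS_conj (g : Matrix.symplecticGroup (Fin m) F) (p : Fin m ⊕ Fin m → F) (c : F) :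
    g * tS p c * g⁻¹ = tS ((g : Matrix (Fin m ⊕ Fin m) (Fin m ⊕ Fin m) F) *ᵥ p) c := by
  apply sp_ext
  intro v
  rw [sp_mul_mulVec, sp_mul_mulVec, tS_mulVec, tS_mulVec, Matrix.mulVec_add, sp_mulVec_inv,
    Matrix.mulVec_smul]
  have h1 : sf (((g⁻¹ : Matrix.symplecticGroup (Fin m) F) : Matrix (Fin m ⊕ Fin m) (Fin m ⊕ Fin m) F) *ᵥ v) p =
      sf v ((g : Matrix (Fin m ⊕ Fin m) (Fin m ⊕ Fin m) F) *ᵥ p) := by
    rw [← sf_mulVec g, sp_mulVec_inv]
  rw [h1]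

theorem tS_smul (a : F) (p : Fin m ⊕ Fin m → F) (c : F) : tS (a • p) c = tS p (a ^ 2 * c) := by
  apply sp_ext
  intro v
  rw [tS_mulVec, tS_mulVec, sf_smul_right, smul_smul]
  congr 2
  ring

theorem tS_comm {p q : Fin m ⊕ Fin m → F} (h : sf p q = 0) (c d : F) :
    tS p c * tS q d = tS q d * tS p c := by
  have h' : sf q p = 0 := by rw [sf_swap, h, neg_zero]
  apply sp_ext
  intro v
  rw [sp_mul_mulVec, sp_mul_mulVec, tS_mulVec, tS_mulVec, tS_mulVec, tS_mulVec, sf_add_left,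
    sf_add_left, sf_smul_left, sf_smul_left, h, h', mul_zero, mul_zero, add_zero, add_zero]
  abel

theorem tS_ne_one {p : Fin m ⊕ Fin m → F} (hp : p ≠ 0) {c : F} (hc : c ≠ 0) : tS p c ≠ 1 := by
  intro h
  obtain ⟨r, hr⟩ := exists_sf_ne_zero hp
  have h1 := tS_mulVec p c r
  rw [h, sp_coe_one, Matrix.one_mulVec] at h1
  have h2 : (c * sf r p) • p = 0 := by
    have h3 : r + 0 = r + (c * sf r p) • p := by rw [add_zero]; exact h1
    exact (add_left_cancel h3).symm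
  rcases smul_eq_zero.1 h2 with h3 | h3
  · rcases mul_eq_zero.1 h3 with h4 | h4
    · exact hc h4
    · apply hr
      rw [sf_swap, h4, neg_zero]
  · exact hp h3

end SpForm

section SpSubgroups

variable {F : Type*} [Field F] {m : ℕ}

/-- The transvection group `T(p)`. -/
def TS (p : Fin m ⊕ Fin m → F) : Subgroup (Matrix.symplecticGroup (Fin m) F) where
  carrier := Set.range (tS p)
  one_mem' := ⟨0, tS_zero p⟩
  mul_mem' := by
    rintro _ _ ⟨c, rfl⟩ ⟨d, rfl⟩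
    exact ⟨c + d, (tS_mul p c d).symm⟩
  inv_mem' := by
    rintro _ ⟨c, rfl⟩
    exact ⟨-c, (tS_inv p c).symm⟩

theorem mem_TS (p : Fin m ⊕ Fin m → F) (g : Matrix.symplecticGroup (Fin m) F) :
    g ∈ TS p ↔ ∃ c, tS p c = g := Iff.rfl

theorem tS_mem_TS (p : Fin m ⊕ Fin m → F) (c : F) : tS p c ∈ TS p := ⟨c, rfl⟩

theorem closure_eq_TS (p : Fin m ⊕ Fin m → F) :
    Subgroup.closure {g : Matrix.symplecticGroup (Fin m) F | ∃ c : F, ∀ v : Fin m ⊕ Fin m → F,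
      (g : Matrix (Fin m ⊕ Fin m) (Fin m ⊕ Fin m) F) *ᵥ v =
        v + (c * (v ⬝ᵥ (Matrix.J (Fin m) F *ᵥ p))) • p} = TS p := by
  have h : {g : Matrix.symplecticGroup (Fin m) F | ∃ c : F, ∀ v : Fin m ⊕ Fin m → F,
      (g : Matrix (Fin m ⊕ Fin m) (Fin m ⊕ Fin m) F) *ᵥ v =
        v + (c * (v ⬝ᵥ (Matrix.J (Fin m) F *ᵥ p))) • p} = (TS p : Set _) := by
    ext g
    constructor
    · rintro ⟨c, hc⟩
      refine ⟨c, sp_ext (fun v => ?_)⟩
      rw [tS_mulVec, hc]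
      rfl
    · rintro ⟨c, rfl⟩
      exact ⟨c, fun v => tS_mulVec p c v⟩
  rw [h, Subgroup.closure_eq]

/-- The set of all transvection groups. -/
def SigS (F : Type*) [Field F] (m : ℕ) : Set (Subgroup (Matrix.symplecticGroup (Fin m) F)) :=
  {A | ∃ p : Fin m ⊕ Fin m → F, p ≠ 0 ∧ A = TS p}

theorem sigS_eq (F : Type*) [Field F] (m : ℕ) :
    {A : Subgroup ↥(Matrix.symplecticGroup (Fin m) F) | ∃ p : Fin m ⊕ Fin m → F, p ≠ 0 ∧
        A = Subgroup.closure {g : ↥(Matrix.symplecticGroup (Fin m) F) | ∃ c : F, ∀ v : Fin m ⊕ Fin m → F,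
          (g : Matrix (Fin m ⊕ Fin m) (Fin m ⊕ Fin m) F) *ᵥ v =
            v + (c * (v ⬝ᵥ (Matrix.J (Fin m) F *ᵥ p))) • p}} = SigS F m := by
  ext A
  constructor
  · rintro ⟨p, hp, hA⟩
    exact ⟨p, hp, hA.trans (closure_eq_TS p)⟩
  · rintro ⟨p, hp, hA⟩
    exact ⟨p, hp, hA.trans (closure_eq_TS p).symm⟩

theorem TS_smul {a : F} (ha : a ≠ 0) (p : Fin m ⊕ Fin m → F) : TS (a • p) = TS p := by
  ext g
  constructor
  · rintro ⟨c, rfl⟩
    exact ⟨a ^ 2 * c, (tS_smul a p c).symm⟩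
  · rintro ⟨c, rfl⟩
    refine ⟨c / a ^ 2, ?_⟩
    rw [tS_smul]
    congr 1
    field_simp

theorem conjBy_TS (g : Matrix.symplecticGroup (Fin m) F) (p : Fin m ⊕ Fin m → F) :
    Cfsg.conjBy (TS p) g = TS ((g : Matrix (Fin m ⊕ Fin m) (Fin m ⊕ Fin m) F) *ᵥ p) := by
  ext x
  constructor
  · rintro ⟨_, ⟨c, rfl⟩, rfl⟩
    exact ⟨c, (tS_conj g p c).symm⟩
  · rintro ⟨c, rfl⟩
    exact ⟨tS p c, tS_mem_TS p c, tS_conj g p c⟩

theorem TS_comm {p q : Fin m ⊕ Fin m → F} (h : sf p q = 0) {a b : Matrix.symplecticGroup (Fin m) F}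
    (ha : a ∈ TS p) (hb : b ∈ TS q) : a * b = b * a := by
  obtain ⟨c, rfl⟩ := ha
  obtain ⟨d, rfl⟩ := hb
  exact tS_comm h c d

theorem TS_commutator_eq_bot {p q : Fin m ⊕ Fin m → F} (h : sf p q = 0) : ⁅TS p, TS q⁆ = ⊥ := by
  rw [Subgroup.commutator_eq_bot_iff_le_centralizer]
  intro a ha
  rw [Subgroup.mem_centralizer_iff]
  intro b hb
  exact (TS_comm h ha hb).symm

theorem TS_isMulCommutative (p : Fin m ⊕ Fin m → F) : IsMulCommutative ↥(TS p) := by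
  rw [isMulCommutative_iff]
  intro a b
  apply Subtype.ext
  exact TS_comm (sf_self p) a.2 b.2

theorem TS_isNilpotent (p : Fin m ⊕ Fin m → F) : Group.IsNilpotent ↥(TS p) := by
  have h := TS_isMulCommutative p
  rw [isMulCommutative_iff] at h
  let _ : CommGroup ↥(TS p) := { (inferInstance : Group ↥(TS p)) with mul_comm := h }
  exact CommGroup.isNilpotent

theorem TS_ne_bot {p : Fin m ⊕ Fin m → F} (hp : p ≠ 0) : TS p ≠ ⊥ := by
  intro h
  have h1 : tS p (1 : F) ∈ (⊥ : Subgroup (Matrix.symplecticGroup (Fin m) F)) := h ▸ tS_mem_TS p 1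
  exact tS_ne_one hp one_ne_zero (Subgroup.mem_bot.1 h1)

theorem ne_zero_of_sf_left {p q : Fin m ⊕ Fin m → F} (h : sf p q ≠ 0) : p ≠ 0 := by
  rintro rfl
  exact h (sf_zero_left q)

theorem ne_zero_of_sf_right {p q : Fin m ⊕ Fin m → F} (h : sf p q ≠ 0) : q ≠ 0 := by
  rintro rfl
  exact h (sf_zero_right p)

theorem TS_ne {p q : Fin m ⊕ Fin m → F} (h : sf p q ≠ 0) : TS p ≠ TS q := by
  intro hpq
  have h1 : tS q (1 : F) ∈ TS p := hpq ▸ tS_mem_TS q 1
  obtain ⟨c, hc⟩ := h1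
  have h2 := congrArg (fun g : Matrix.symplecticGroup (Fin m) F =>
    (g : Matrix (Fin m ⊕ Fin m) (Fin m ⊕ Fin m) F) *ᵥ p) hc
  simp only [tS_mulVec, sf_self, mul_zero, zero_smul, add_zero, one_mul] at h2
  have h3 : sf p q • q = 0 := by
    have h4 : p + 0 = p + sf p q • q := by rw [add_zero]; exact h2
    exact (add_left_cancel h4).symm
  rcases smul_eq_zero.1 h3 with h4 | h4
  · exact h h4
  · exact ne_zero_of_sf_right h h4

/-- The rank one condition for two transvection groups with non-perpendicular centres. -/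
theorem rankOneCondition_TS {p q : Fin m ⊕ Fin m → F} (h : sf p q ≠ 0) :
    Cfsg.RankOneCondition (TS p) (TS q) := by
  rintro a ⟨c, rfl⟩ ha
  have hc : c ≠ 0 := by
    rintro rfl
    exact ha (tS_zero p)
  have hqp : sf q p = - sf p q := sf_swap q p
  refine ⟨tS q (-(c * sf p q ^ 2)⁻¹), tS_mem_TS q _, ?_, ?_⟩
  · exact tS_ne_one (ne_zero_of_sf_right h) (neg_ne_zero.2 (inv_ne_zero (mul_ne_zero hc (pow_ne_zero 2 h))))
  · have hv : q + (-c * sf q p) • p =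
        (c * sf p q) • (p + (- -(c * sf p q ^ 2)⁻¹ * sf p q) • q) := by
      have e1 : c * sf p q * (- -(c * sf p q ^ 2)⁻¹ * sf p q) = 1 := by field_simp
      have e2 : -c * -sf p q = c * sf p q := by ring
      rw [hqp, smul_add, smul_smul, e1, one_smul, e2, add_comm]
    rw [conjBy_TS, conjBy_TS, tS_inv, tS_inv, tS_mulVec, tS_mulVec, hv, TS_smul (mul_ne_zero hc h)]

theorem isRankOnePair_TS {p q : Fin m ⊕ Fin m → F} (h : sf p q ≠ 0) :
    Cfsg.IsRankOnePair (TS p) (TS q) := by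
  have h' : sf q p ≠ 0 := by
    rw [sf_swap]
    exact neg_ne_zero.2 h
  exact ⟨TS_ne h, TS_isNilpotent p, TS_isNilpotent q, rankOneCondition_TS h, rankOneCondition_TS h'⟩

theorem tS_zero_vec (c : F) : tS (0 : Fin m ⊕ Fin m → F) c = 1 := by
  apply sp_ext
  intro v
  rw [tS_mulVec, smul_zero, add_zero, sp_coe_one, Matrix.one_mulVec]

theorem iSup_sigS (F : Type*) [Field F] (m : ℕ) : (⨆ A ∈ SigS F m, A) = ⊤ := by
  rw [eq_top_iff, ← Cfsg.Agent.Lib.Helper18.closure_sympTransvection_eq_top m, Subgroup.closure_le]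
  rintro g ⟨w, c, hg⟩
  have hg' : g = tS w c := Subtype.ext hg
  by_cases hw : w = 0
  · rw [hg', hw, tS_zero_vec]
    exact Subgroup.one_mem _
  · have h1 : TS w ≤ ⨆ A ∈ SigS F m, A :=
      le_iSup₂ (f := fun (A : Subgroup (Matrix.symplecticGroup (Fin m) F)) (_ : A ∈ SigS F m) => A)
        (TS w) ⟨w, hw, rfl⟩
    exact h1 (hg' ▸ tS_mem_TS w c)

theorem isRootSubgroupSet_sigS (F : Type*) [Field F] (m : ℕ) : Cfsg.IsRootSubgroupSet (SigS F m) := by
  refine ⟨?_, ?_, iSup_sigS F m, ?_, ?_⟩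
  · rintro A ⟨p, hp, rfl⟩
    exact TS_isMulCommutative p
  · rintro A ⟨p, hp, rfl⟩
    exact TS_ne_bot hp
  · rintro A ⟨p, hp, rfl⟩ g
    refine ⟨(g : Matrix (Fin m ⊕ Fin m) (Fin m ⊕ Fin m) F) *ᵥ p, ?_, conjBy_TS g p⟩
    intro h0
    apply hp
    have h1 := sp_inv_mulVec g p
    rw [h0, Matrix.mulVec_zero] at h1
    exact h1.symm
  · rintro A ⟨p, hp, rfl⟩ B ⟨q, hq, rfl⟩
    by_cases h : sf p q = 0
    · exact Or.inl (TS_commutator_eq_bot h)
    · exact Or.inr (Or.inl (isRankOnePair_TS h))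

end SpSubgroups

section SpClass

variable {F : Type*} [Field F] {m : ℕ}

theorem exists_sf_mid {p q : Fin m ⊕ Fin m → F} (hp : p ≠ 0) (hq : q ≠ 0) :
    ∃ r, sf p r ≠ 0 ∧ sf r q ≠ 0 := by
  obtain ⟨r₁, h1⟩ := exists_sf_ne_zero hp
  obtain ⟨r₂, h2⟩ := exists_sf_ne_zero hq
  have key : ∀ r, sf q r ≠ 0 → sf r q ≠ 0 := fun r h => by
    rw [sf_swap]
    exact neg_ne_zero.2 h
  by_cases h3 : sf q r₁ = 0
  · by_cases h4 : sf p r₂ = 0
    · refine ⟨r₁ + r₂, ?_, key _ ?_⟩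
      · rw [sf_add_right, h4, add_zero]
        exact h1
      · rw [sf_add_right, h3, zero_add]
        exact h2
    · exact ⟨r₂, h4, key _ h2⟩
  · exact ⟨r₁, h1, key _ h3⟩

theorem exists_move_of_sf {p q : Fin m ⊕ Fin m → F} (h : sf p q ≠ 0) :
    ∃ g : Matrix.symplecticGroup (Fin m) F, ∃ a : F, a ≠ 0 ∧
      (g : Matrix (Fin m ⊕ Fin m) (Fin m ⊕ Fin m) F) *ᵥ p = a • q := by
  refine ⟨tS ((sf p q)⁻¹ • q - p) 1, (sf p q)⁻¹, inv_ne_zero h, ?_⟩
  rw [tS_mulVec, one_mul, sf_sub_right, sf_smul_right, sf_self, inv_mul_cancel₀ h, sub_zero, one_smul,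
    add_sub_cancel]

theorem exists_move {p q : Fin m ⊕ Fin m → F} (hp : p ≠ 0) (hq : q ≠ 0) :
    ∃ g : Matrix.symplecticGroup (Fin m) F, ∃ a : F, a ≠ 0 ∧
      (g : Matrix (Fin m ⊕ Fin m) (Fin m ⊕ Fin m) F) *ᵥ p = a • q := by
  obtain ⟨r, h1, h2⟩ := exists_sf_mid hp hq
  obtain ⟨g₁, a₁, ha₁, hg₁⟩ := exists_move_of_sf h1
  obtain ⟨g₂, a₂, ha₂, hg₂⟩ := exists_move_of_sf h2
  refine ⟨g₂ * g₁, a₁ * a₂, mul_ne_zero ha₁ ha₂, ?_⟩
  rw [sp_mul_mulVec, hg₁, Matrix.mulVec_smul, hg₂, smul_smul]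

theorem isConjClass_sigS (F : Type*) [Field F] (m : ℕ) :
    Cfsg.IsConjClassOfSubgroups (SigS F (m + 1)) := by
  refine ⟨⟨TS (Pi.single (Sum.inl 0) 1), Pi.single (Sum.inl 0) 1, ?_, rfl⟩, ?_⟩
  · intro h
    have h1 := congrFun h (Sum.inl 0)
    rw [Pi.single_eq_same] at h1
    exact one_ne_zero h1
  · rintro A ⟨p, hp, rfl⟩ B ⟨q, hq, rfl⟩
    obtain ⟨g, a, ha, hg⟩ := exists_move hp hq
    refine ⟨g, ?_⟩
    rw [conjBy_TS, hg, TS_smul ha]

theorem isConnected_sigS (F : Type*) [Field F] (m : ℕ) :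
    Cfsg.IsConnectedFamily (Cfsg.FAdj (SigS F m)) (SigS F m) := by
  rintro A ⟨p, hp, rfl⟩ B ⟨q, hq, rfl⟩
  obtain ⟨r, h1, h2⟩ := exists_sf_mid hp hq
  have hr : r ≠ 0 := ne_zero_of_sf_right h1
  exact Relation.ReflTransGen.tail
    (Relation.ReflTransGen.single ⟨⟨p, hp, rfl⟩, ⟨r, hr, rfl⟩, isRankOnePair_TS h1⟩)
    ⟨⟨r, hr, rfl⟩, ⟨q, hq, rfl⟩, isRankOnePair_TS h2⟩

theorem isDegenerate_sigS (F : Type*) [Field F] (m : ℕ) : Cfsg.IsDegenerateRootSet (SigS F m) := by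
  rintro A ⟨p, hp, rfl⟩ B ⟨q, hq, rfl⟩ ⟨hmem, hcent, -, -⟩
  by_cases h : sf p q = 0
  · rw [TS_commutator_eq_bot h] at hmem
    obtain ⟨r, hr, hbot⟩ := hmem
    exact TS_ne_bot hr hbot.symm
  · obtain ⟨q', hq', hTS⟩ : ∃ q' : Fin m ⊕ Fin m → F, sf p q' = 1 ∧ TS q' = TS q :=
      ⟨(sf p q)⁻¹ • q, by rw [sf_smul_right, inv_mul_cancel₀ h], TS_smul (inv_ne_zero h) q⟩
    have hq'p : sf q' p = -1 := by rw [sf_swap, hq']
    have hb : tS q' (1 : F) ∈ TS q := hTS ▸ tS_mem_TS q' 1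
    have hc := hcent _ (Subgroup.commutator_mem_commutator (tS_mem_TS p 1) hb) (tS p 1)
      (Subgroup.mem_sup_left (tS_mem_TS p 1))
    rw [commutatorElement_def, tS_inv, tS_inv] at hc
    have h2 := congrArg (fun g : Matrix.symplecticGroup (Fin m) F =>
      sf ((g : Matrix (Fin m ⊕ Fin m) (Fin m ⊕ Fin m) F) *ᵥ p) q') hc
    simp only [sp_mul_mulVec, tS_mulVec, sf_add_left, sf_smul_left, sf_self, hq', hq'p, mul_zero,
      zero_smul, add_zero, one_mul, mul_one, zero_add, mul_neg, neg_neg] at h2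
    have h3 : (1 : F) = 0 := by linear_combination (-1 : F) * h2
    exact one_ne_zero h3

end SpClass

section Embed

variable {F : Type*} [Field F] {n k : Type*} [Fintype n] [Fintype k] [DecidableEq n] [DecidableEq k]

/-- The embedding of `k × k` matrices into `n × n` matrices attached to `P`, `Q` with `Q P = 1`. -/
def embM (P : Matrix n k F) (Q : Matrix k n F) (M : Matrix k k F) : Matrix n n F :=
  1 + P * (M - 1) * Q

omit [Fintype n] in
theorem embM_one (P : Matrix n k F) (Q : Matrix k n F) : embM P Q 1 = 1 := by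
  rw [embM, sub_self, Matrix.mul_zero, Matrix.zero_mul, add_zero]

theorem embM_mul (P : Matrix n k F) (Q : Matrix k n F) (h : Q * P = 1) (M₁ M₂ : Matrix k k F) :
    embM P Q (M₁ * M₂) = embM P Q M₁ * embM P Q M₂ := by
  have hXY : P * (M₁ - 1) * Q * (P * (M₂ - 1) * Q) = P * ((M₁ - 1) * (M₂ - 1)) * Q := by
    calc P * (M₁ - 1) * Q * (P * (M₂ - 1) * Q)
        = P * (M₁ - 1) * (Q * P) * (M₂ - 1) * Q := by simp only [Matrix.mul_assoc]
      _ = P * ((M₁ - 1) * (M₂ - 1)) * Q := by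
          rw [h, Matrix.mul_one]
          simp only [Matrix.mul_assoc]
  have hM : M₁ * M₂ - 1 = (M₁ - 1) + (M₂ - 1) + (M₁ - 1) * (M₂ - 1) := by noncomm_ring
  have e : (1 + P * (M₁ - 1) * Q) * (1 + P * (M₂ - 1) * Q) =
      1 + (P * (M₁ - 1) * Q + P * (M₂ - 1) * Q + P * (M₁ - 1) * Q * (P * (M₂ - 1) * Q)) := by
    noncomm_ring
  rw [embM, embM, embM, e, hXY, hM, Matrix.mul_add, Matrix.mul_add, Matrix.add_mul, Matrix.add_mul]

theorem embM_eq_one (P : Matrix n k F) (Q : Matrix k n F) (h : Q * P = 1) {M : Matrix k k F}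
    (hM : embM P Q M = 1) : M = 1 := by
  have h1 : P * (M - 1) * Q = 0 := by
    have h2 : (1 : Matrix n n F) + P * (M - 1) * Q = 1 + 0 := by rw [add_zero]; exact hM
    exact add_left_cancel h2
  have h3 : Q * (P * (M - 1) * Q) * P = M - 1 := by
    calc Q * (P * (M - 1) * Q) * P = (Q * P) * (M - 1) * (Q * P) := by simp only [Matrix.mul_assoc]
      _ = M - 1 := by rw [h, Matrix.one_mul, Matrix.mul_one]
  rw [h1, Matrix.mul_zero, Matrix.zero_mul] at h3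
  exact (sub_eq_zero.1 h3.symm)

omit [Fintype n] [DecidableEq n] in
theorem mul_single_mul_apply (P : Matrix n k F) (Q : Matrix k n F) (i j : k) (x : F) (a b : n) :
    (P * Matrix.single i j x * Q) a b = P a i * x * Q j b := by
  rw [Matrix.mul_apply, Finset.sum_eq_single j]
  · rw [Matrix.mul_single_apply_same]
  · intro l _ hl
    rw [Matrix.mul_single_apply_of_ne x i j a l hl P, zero_mul]
  · intro h
    exact absurd (Finset.mem_univ j) h

end Embed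

section SpPSL2

variable {F : Type*} [Field F] {m : ℕ}

/-- The matrix with columns `p`, `q`. -/
def embP (p q : Fin m ⊕ Fin m → F) : Matrix (Fin m ⊕ Fin m) (Fin 2) F := (Matrix.of ![p, q])ᵀ

/-- The matrix with rows `f(·, q)`, `f(p, ·)`. -/
def embQ (p q : Fin m ⊕ Fin m → F) : Matrix (Fin 2) (Fin m ⊕ Fin m) F :=
  Matrix.of ![Matrix.J (Fin m) F *ᵥ q, -(Matrix.J (Fin m) F *ᵥ p)]

theorem embQ_mul_embP {p q : Fin m ⊕ Fin m → F} (h : sf p q = 1) : embQ p q * embP p q = 1 := by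
  have hqp : sf q p = -1 := by rw [sf_swap, h]
  ext i j
  have e : (embQ p q * embP p q) i j = (embQ p q i) ⬝ᵥ (fun a => embP p q a j) := rfl
  rw [e]
  fin_cases i <;> fin_cases j
  · show (Matrix.J (Fin m) F *ᵥ q) ⬝ᵥ p = 1
    rw [dotProduct_comm]
    exact h
  · show (Matrix.J (Fin m) F *ᵥ q) ⬝ᵥ q = 0
    rw [dotProduct_comm]
    exact sf_self q
  · show (-(Matrix.J (Fin m) F *ᵥ p)) ⬝ᵥ p = 0
    rw [neg_dotProduct, dotProduct_comm]
    exact neg_eq_zero.2 (sf_self p)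
  · show (-(Matrix.J (Fin m) F *ᵥ p)) ⬝ᵥ q = 1
    rw [neg_dotProduct, dotProduct_comm]
    show - sf q p = 1
    rw [hqp, neg_neg]

theorem fin2_01 : (0 : Fin 2) ≠ 1 := by decide

theorem fin2_10 : (1 : Fin 2) ≠ 0 := by decide

theorem embM_transv01 (p q : Fin m ⊕ Fin m → F) (x : F) :
    embM (embP p q) (embQ p q) (Matrix.SpecialLinearGroup.transvection fin2_01 x : Matrix (Fin 2) (Fin 2) F) =
      (tS p (-x) : Matrix (Fin m ⊕ Fin m) (Fin m ⊕ Fin m) F) := by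
  rw [embM, Matrix.SpecialLinearGroup.transvection_coe, add_sub_cancel_left]
  ext a b
  rw [Matrix.add_apply, mul_single_mul_apply]
  show (1 : Matrix (Fin m ⊕ Fin m) (Fin m ⊕ Fin m) F) a b + p a * x * (-(Matrix.J (Fin m) F *ᵥ p) b) =
    (1 : Matrix (Fin m ⊕ Fin m) (Fin m ⊕ Fin m) F) a b + (-x) * (p a * (Matrix.J (Fin m) F *ᵥ p) b)
  ring

theorem embM_transv10 (p q : Fin m ⊕ Fin m → F) (y : F) :
    embM (embP p q) (embQ p q) (Matrix.SpecialLinearGroup.transvection fin2_10 y : Matrix (Fin 2) (Fin 2) F) =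
      (tS q y : Matrix (Fin m ⊕ Fin m) (Fin m ⊕ Fin m) F) := by
  rw [embM, Matrix.SpecialLinearGroup.transvection_coe, add_sub_cancel_left]
  ext a b
  rw [Matrix.add_apply, mul_single_mul_apply]
  show (1 : Matrix (Fin m ⊕ Fin m) (Fin m ⊕ Fin m) F) a b + q a * y * ((Matrix.J (Fin m) F *ᵥ q) b) =
    (1 : Matrix (Fin m ⊕ Fin m) (Fin m ⊕ Fin m) F) a b + y * (q a * (Matrix.J (Fin m) F *ᵥ q) b)
  ring

/-- The image of `SL₂` lies in the symplectic group. -/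
theorem embM_mem {p q : Fin m ⊕ Fin m → F} (h : sf p q = 1) (M : Matrix.SpecialLinearGroup (Fin 2) F) :
    embM (embP p q) (embQ p q) (M : Matrix (Fin 2) (Fin 2) F) ∈ Matrix.symplecticGroup (Fin m) F := by
  have hQP := embQ_mul_embP h
  let H : Subgroup (Matrix.SpecialLinearGroup (Fin 2) F) :=
    { carrier := {M | embM (embP p q) (embQ p q) (M : Matrix (Fin 2) (Fin 2) F) ∈
        Matrix.symplecticGroup (Fin m) F}
      one_mem' := by
        show embM (embP p q) (embQ p q) ((1 : Matrix.SpecialLinearGroup (Fin 2) F) : Matrix (Fin 2) (Fin 2) F) ∈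
          Matrix.symplecticGroup (Fin m) F
        rw [Matrix.SpecialLinearGroup.coe_one, embM_one]
        exact Submonoid.one_mem _
      mul_mem' := by
        intro A B hA hB
        show embM (embP p q) (embQ p q) ((A * B : Matrix.SpecialLinearGroup (Fin 2) F) : Matrix (Fin 2) (Fin 2) F) ∈
          Matrix.symplecticGroup (Fin m) F
        rw [Matrix.SpecialLinearGroup.coe_mul, embM_mul _ _ hQP]
        exact Submonoid.mul_mem _ hA hB
      inv_mem' := by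
        intro A hA
        show embM (embP p q) (embQ p q) ((A⁻¹ : Matrix.SpecialLinearGroup (Fin 2) F) : Matrix (Fin 2) (Fin 2) F) ∈
          Matrix.symplecticGroup (Fin m) F
        have h1 : embM (embP p q) (embQ p q) ((A⁻¹ : Matrix.SpecialLinearGroup (Fin 2) F) : Matrix (Fin 2) (Fin 2) F) *
            embM (embP p q) (embQ p q) (A : Matrix (Fin 2) (Fin 2) F) = 1 := by
          rw [← embM_mul _ _ hQP, ← Matrix.SpecialLinearGroup.coe_mul, inv_mul_cancel,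
            Matrix.SpecialLinearGroup.coe_one, embM_one]
        have h2 : ((⟨_, hA⟩ : Matrix.symplecticGroup (Fin m) F) : Matrix (Fin m ⊕ Fin m) (Fin m ⊕ Fin m) F) *
            (((⟨_, hA⟩ : Matrix.symplecticGroup (Fin m) F)⁻¹ : Matrix.symplecticGroup (Fin m) F) :
              Matrix (Fin m ⊕ Fin m) (Fin m ⊕ Fin m) F) = 1 := by
          rw [← sp_coe_mul, mul_inv_cancel, sp_coe_one]
        have h3 : embM (embP p q) (embQ p q) ((A⁻¹ : Matrix.SpecialLinearGroup (Fin 2) F) : Matrix (Fin 2) (Fin 2) F) =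
            (((⟨_, hA⟩ : Matrix.symplecticGroup (Fin m) F)⁻¹ : Matrix.symplecticGroup (Fin m) F) :
              Matrix (Fin m ⊕ Fin m) (Fin m ⊕ Fin m) F) := by
          calc embM (embP p q) (embQ p q) ((A⁻¹ : Matrix.SpecialLinearGroup (Fin 2) F) : Matrix (Fin 2) (Fin 2) F)
              = embM (embP p q) (embQ p q) ((A⁻¹ : Matrix.SpecialLinearGroup (Fin 2) F) : Matrix (Fin 2) (Fin 2) F) *
                (((⟨_, hA⟩ : Matrix.symplecticGroup (Fin m) F) : Matrix (Fin m ⊕ Fin m) (Fin m ⊕ Fin m) F) *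
                (((⟨_, hA⟩ : Matrix.symplecticGroup (Fin m) F)⁻¹ : Matrix.symplecticGroup (Fin m) F) :
                  Matrix (Fin m ⊕ Fin m) (Fin m ⊕ Fin m) F)) := by rw [h2, Matrix.mul_one]
            _ = (((⟨_, hA⟩ : Matrix.symplecticGroup (Fin m) F)⁻¹ : Matrix.symplecticGroup (Fin m) F) :
                  Matrix (Fin m ⊕ Fin m) (Fin m ⊕ Fin m) F) := by
                rw [← Matrix.mul_assoc, h1, Matrix.one_mul]
        rw [h3]
        exact Subtype.property _ }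
  have hH : H = ⊤ := by
    apply Cfsg.Agent.Lib.Helper47.eq_top_of_transvection_mem
    intro i j hij c
    show embM (embP p q) (embQ p q) ((Matrix.SpecialLinearGroup.transvection hij c :
      Matrix.SpecialLinearGroup (Fin 2) F) : Matrix (Fin 2) (Fin 2) F) ∈ Matrix.symplecticGroup (Fin m) F
    fin_cases i <;> fin_cases j
    · exact absurd rfl hij
    · have e := embM_transv01 p q c
      rw [show Matrix.SpecialLinearGroup.transvection hij c =
        Matrix.SpecialLinearGroup.transvection fin2_01 c from rfl, e]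
      exact Subtype.property _
    · have e := embM_transv10 p q c
      rw [show Matrix.SpecialLinearGroup.transvection hij c =
        Matrix.SpecialLinearGroup.transvection fin2_10 c from rfl, e]
      exact Subtype.property _
    · exact absurd rfl hij
  have hM : M ∈ H := by
    rw [hH]
    trivial
  exact hM

/-- The homomorphism `SL₂(F) → Sp` attached to a hyperbolic pair. -/
noncomputable def spEmb {p q : Fin m ⊕ Fin m → F} (h : sf p q = 1) :
    Matrix.SpecialLinearGroup (Fin 2) F →* Matrix.symplecticGroup (Fin m) F :=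
  MonoidHom.mk' (fun M => ⟨embM (embP p q) (embQ p q) (M : Matrix (Fin 2) (Fin 2) F), embM_mem h M⟩)
    (fun M₁ M₂ => Subtype.ext (by
      show embM (embP p q) (embQ p q) ((M₁ * M₂ : Matrix.SpecialLinearGroup (Fin 2) F) : Matrix (Fin 2) (Fin 2) F) =
        embM (embP p q) (embQ p q) (M₁ : Matrix (Fin 2) (Fin 2) F) *
          embM (embP p q) (embQ p q) (M₂ : Matrix (Fin 2) (Fin 2) F)
      rw [Matrix.SpecialLinearGroup.coe_mul, embM_mul _ _ (embQ_mul_embP h)]))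

theorem spEmb_coe {p q : Fin m ⊕ Fin m → F} (h : sf p q = 1) (M : Matrix.SpecialLinearGroup (Fin 2) F) :
    (spEmb h M : Matrix (Fin m ⊕ Fin m) (Fin m ⊕ Fin m) F) =
      embM (embP p q) (embQ p q) (M : Matrix (Fin 2) (Fin 2) F) := rfl

theorem spEmb_transv01 {p q : Fin m ⊕ Fin m → F} (h : sf p q = 1) (x : F) :
    spEmb h (Matrix.SpecialLinearGroup.transvection fin2_01 x) = tS p (-x) :=
  Subtype.ext (embM_transv01 p q x)

theorem spEmb_transv10 {p q : Fin m ⊕ Fin m → F} (h : sf p q = 1) (y : F) :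
    spEmb h (Matrix.SpecialLinearGroup.transvection fin2_10 y) = tS q y :=
  Subtype.ext (embM_transv10 p q y)

theorem spEmb_ker {p q : Fin m ⊕ Fin m → F} (h : sf p q = 1) : (spEmb h).ker = ⊥ := by
  rw [eq_bot_iff]
  intro M hM
  rw [Subgroup.mem_bot]
  have h1 : (spEmb h M : Matrix (Fin m ⊕ Fin m) (Fin m ⊕ Fin m) F) = 1 := by
    rw [MonoidHom.mem_ker.1 hM]
    rfl
  rw [spEmb_coe] at h1
  exact Subtype.ext (embM_eq_one _ _ (embQ_mul_embP h) h1)

theorem upper_eq_range (F : Type*) [Field F] :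
    {g : Matrix.SpecialLinearGroup (Fin 2) F | (g : Matrix (Fin 2) (Fin 2) F) 1 0 = 0 ∧
      (g : Matrix (Fin 2) (Fin 2) F) 0 0 = 1 ∧ (g : Matrix (Fin 2) (Fin 2) F) 1 1 = 1} =
    Set.range (fun x : F => Matrix.SpecialLinearGroup.transvection fin2_01 x) := by
  ext g
  constructor
  · rintro ⟨h10, h00, h11⟩
    refine ⟨(g : Matrix (Fin 2) (Fin 2) F) 0 1, ?_⟩
    apply Subtype.ext
    rw [Matrix.SpecialLinearGroup.transvection_coe]
    ext i j
    fin_cases i <;> fin_cases j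
    · simp [h00]
    · simp
    · simp [h10]
    · simp [h11]
  · rintro ⟨x, rfl⟩
    refine ⟨?_, ?_, ?_⟩ <;> simp [Matrix.SpecialLinearGroup.transvection_coe]

theorem lower_eq_range (F : Type*) [Field F] :
    {g : Matrix.SpecialLinearGroup (Fin 2) F | (g : Matrix (Fin 2) (Fin 2) F) 0 1 = 0 ∧
      (g : Matrix (Fin 2) (Fin 2) F) 0 0 = 1 ∧ (g : Matrix (Fin 2) (Fin 2) F) 1 1 = 1} =
    Set.range (fun x : F => Matrix.SpecialLinearGroup.transvection fin2_10 x) := by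
  ext g
  constructor
  · rintro ⟨h01, h00, h11⟩
    refine ⟨(g : Matrix (Fin 2) (Fin 2) F) 1 0, ?_⟩
    apply Subtype.ext
    rw [Matrix.SpecialLinearGroup.transvection_coe]
    ext i j
    fin_cases i <;> fin_cases j
    · simp [h00]
    · simp [h01]
    · simp
    · simp [h11]
  · rintro ⟨x, rfl⟩
    refine ⟨?_, ?_, ?_⟩ <;> simp [Matrix.SpecialLinearGroup.transvection_coe]

theorem upper_sup_lower (F : Type*) [Field F] :
    Cfsg.upperUnipotentSL2 F ⊔ Cfsg.lowerUnipotentSL2 F = ⊤ := by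
  apply Cfsg.Agent.Lib.Helper47.eq_top_of_transvection_mem
  intro i j hij c
  fin_cases i <;> fin_cases j
  · exact absurd rfl hij
  · apply Subgroup.mem_sup_left
    show _ ∈ Subgroup.closure _
    rw [upper_eq_range]
    exact Subgroup.subset_closure ⟨c, rfl⟩
  · apply Subgroup.mem_sup_right
    show _ ∈ Subgroup.closure _
    rw [lower_eq_range]
    exact Subgroup.subset_closure ⟨c, rfl⟩
  · exact absurd rfl hij

theorem map_upper {p q : Fin m ⊕ Fin m → F} (h : sf p q = 1) :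
    (Cfsg.upperUnipotentSL2 F).map (spEmb h) = TS p := by
  show (Subgroup.closure _).map (spEmb h) = TS p
  rw [upper_eq_range, MonoidHom.map_closure]
  apply le_antisymm
  · rw [Subgroup.closure_le]
    rintro _ ⟨_, ⟨x, rfl⟩, rfl⟩
    exact ⟨-x, (spEmb_transv01 h x).symm⟩
  · rintro _ ⟨c, rfl⟩
    apply Subgroup.subset_closure
    refine ⟨_, ⟨-c, rfl⟩, ?_⟩
    rw [spEmb_transv01, neg_neg]

theorem map_lower {p q : Fin m ⊕ Fin m → F} (h : sf p q = 1) :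
    (Cfsg.lowerUnipotentSL2 F).map (spEmb h) = TS q := by
  show (Subgroup.closure _).map (spEmb h) = TS q
  rw [lower_eq_range, MonoidHom.map_closure]
  apply le_antisymm
  · rw [Subgroup.closure_le]
    rintro _ ⟨_, ⟨x, rfl⟩, rfl⟩
    exact ⟨x, (spEmb_transv10 h x).symm⟩
  · rintro _ ⟨c, rfl⟩
    apply Subgroup.subset_closure
    exact ⟨_, ⟨c, rfl⟩, spEmb_transv10 h c⟩

theorem isPSL2Pair_TS {p q : Fin m ⊕ Fin m → F} (h : sf p q = 1) :
    Cfsg.IsPSL2PairOver F (TS p) (TS q) := by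
  refine ⟨spEmb h, ?_, ?_, map_upper h, map_lower h⟩
  · rw [MonoidHom.range_eq_map, ← upper_sup_lower F, Subgroup.map_sup, map_upper h, map_lower h]
  · rw [spEmb_ker h]
    exact bot_le

theorem isKRoot_sigS (F : Type*) [Field F] (m : ℕ) : Cfsg.IsKRootSubgroupSet F (SigS F m) := by
  refine ⟨isRootSubgroupSet_sigS F m, ?_⟩
  rintro A ⟨p, hp, rfl⟩ B ⟨q, hq, rfl⟩ hpair
  have hne : sf p q ≠ 0 := by
    intro h0
    obtain ⟨b, ⟨d, rfl⟩, -, hb⟩ := hpair.cond_left (tS p 1) (tS_mem_TS p 1) (tS_ne_one hp one_ne_zero)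
    have h0' : sf q p = 0 := by rw [sf_swap, h0, neg_zero]
    rw [conjBy_TS, conjBy_TS, tS_inv, tS_inv, tS_mulVec, tS_mulVec, h0, h0', mul_zero, mul_zero,
      zero_smul, zero_smul, add_zero, add_zero] at hb
    exact hpair.ne hb
  have h1 : sf p ((sf p q)⁻¹ • q) = 1 := by rw [sf_smul_right, inv_mul_cancel₀ hne]
  have h2 := isPSL2Pair_TS h1
  rw [TS_smul (inv_ne_zero hne)] at h2
  exact h2

/-- S5070. -/
theorem sp_root_class (F : Type*) [Field F] (m : ℕ) :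
    Cfsg.IsRootSubgroupClass (SigS F (m + 1)) ∧ Cfsg.IsDegenerateRootSet (SigS F (m + 1)) ∧
    Cfsg.IsKRootSubgroupSet F (SigS F (m + 1)) ∧
    Cfsg.IsConnectedFamily (Cfsg.FAdj (SigS F (m + 1))) (SigS F (m + 1)) :=
  ⟨⟨isRootSubgroupSet_sigS F (m + 1), isConjClass_sigS F m⟩, isDegenerate_sigS F (m + 1),
    isKRoot_sigS F (m + 1), isConnected_sigS F (m + 1)⟩

/-- S5070 in the form of the statement. -/
theorem sp_root_statement (F : Type*) [Field F] (m : ℕ) :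
    Cfsg.IsRootSubgroupClass {A : Subgroup ↥(Matrix.symplecticGroup (Fin (m + 1)) F) | ∃ p : Fin (m + 1) ⊕ Fin (m + 1) → F, p ≠ 0 ∧
        A = Subgroup.closure {g : ↥(Matrix.symplecticGroup (Fin (m + 1)) F) | ∃ c : F, ∀ v : Fin (m + 1) ⊕ Fin (m + 1) → F,
          (g : Matrix (Fin (m + 1) ⊕ Fin (m + 1)) (Fin (m + 1) ⊕ Fin (m + 1)) F) *ᵥ v =
            v + (c * (v ⬝ᵥ (Matrix.J (Fin (m + 1)) F *ᵥ p))) • p}} ∧
    Cfsg.IsDegenerateRootSet {A : Subgroup ↥(Matrix.symplecticGroup (Fin (m + 1)) F) | ∃ p : Fin (m + 1) ⊕ Fin (m + 1) → F, p ≠ 0 ∧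
        A = Subgroup.closure {g : ↥(Matrix.symplecticGroup (Fin (m + 1)) F) | ∃ c : F, ∀ v : Fin (m + 1) ⊕ Fin (m + 1) → F,
          (g : Matrix (Fin (m + 1) ⊕ Fin (m + 1)) (Fin (m + 1) ⊕ Fin (m + 1)) F) *ᵥ v =
            v + (c * (v ⬝ᵥ (Matrix.J (Fin (m + 1)) F *ᵥ p))) • p}} ∧
    Cfsg.IsKRootSubgroupSet F {A : Subgroup ↥(Matrix.symplecticGroup (Fin (m + 1)) F) | ∃ p : Fin (m + 1) ⊕ Fin (m + 1) → F, p ≠ 0 ∧
        A = Subgroup.closure {g : ↥(Matrix.symplecticGroup (Fin (m + 1)) F) | ∃ c : F, ∀ v : Fin (m + 1) ⊕ Fin (m + 1) → F,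
          (g : Matrix (Fin (m + 1) ⊕ Fin (m + 1)) (Fin (m + 1) ⊕ Fin (m + 1)) F) *ᵥ v =
            v + (c * (v ⬝ᵥ (Matrix.J (Fin (m + 1)) F *ᵥ p))) • p}} ∧
    Cfsg.IsConnectedFamily (Cfsg.FAdj {A : Subgroup ↥(Matrix.symplecticGroup (Fin (m + 1)) F) | ∃ p : Fin (m + 1) ⊕ Fin (m + 1) → F, p ≠ 0 ∧
        A = Subgroup.closure {g : ↥(Matrix.symplecticGroup (Fin (m + 1)) F) | ∃ c : F, ∀ v : Fin (m + 1) ⊕ Fin (m + 1) → F,
          (g : Matrix (Fin (m + 1) ⊕ Fin (m + 1)) (Fin (m + 1) ⊕ Fin (m + 1)) F) *ᵥ v =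
            v + (c * (v ⬝ᵥ (Matrix.J (Fin (m + 1)) F *ᵥ p))) • p}})
      {A : Subgroup ↥(Matrix.symplecticGroup (Fin (m + 1)) F) | ∃ p : Fin (m + 1) ⊕ Fin (m + 1) → F, p ≠ 0 ∧
        A = Subgroup.closure {g : ↥(Matrix.symplecticGroup (Fin (m + 1)) F) | ∃ c : F, ∀ v : Fin (m + 1) ⊕ Fin (m + 1) → F,
          (g : Matrix (Fin (m + 1) ⊕ Fin (m + 1)) (Fin (m + 1) ⊕ Fin (m + 1)) F) *ᵥ v =
            v + (c * (v ⬝ᵥ (Matrix.J (Fin (m + 1)) F *ᵥ p))) • p}} := by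
  rw [sigS_eq F (m + 1)]
  exact sp_root_class F m

end SpPSL2

end Cfsg.Agent.Lib.Helper87
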