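import Mathlib
import Cfsg.Agent.Lib.Helper22.HPDefs
import Cfsg.Agent.Lib.Helper83.IrrBasic
import Cfsg.Agent.Lib.Helper87.BFFIDX
import Cfsg.Agent.Lib.Helper64.HPMOMA
import Cfsg.Agent.Lib.Helper35.BFFIXB

/-!
# S4504 / HP-MOMENT (helper64), sub-piece J2 = MOM-FIBER (helper87)
-/

set_option autoImplicit false
set_option linter.unusedSectionVars false

namespace Cfsg.Agent.Lib.Helper87.HPT

open Cfsg Cfsg.Agent.Lib.Helper22.BFD Cfsg.Agent.Lib.Helper22.HPD Cfsg.Agent.Lib.Helper64.HPT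
open scoped ComplexConjugate

universe u

variable {G : Type u} [Group G] [Fintype G]

theorem fiber_pow_mul (p : ℕ) [Fact p.Prime] (z : G) (hz : orderOf z = p) (a b : ZMod p) :
    z ^ (a.val * b.val) = z ^ (a * b).val := by
  apply pow_eq_pow_iff_modEq.mpr
  rw [hz, ZMod.val_mul]
  exact (Nat.mod_modEq _ _).symm

theorem fiber_key (p : ℕ) [Fact p.Prime]
    (hnn : ∀ H : Subgroup G, H.Normal → Nat.card H ≠ p) (z : G) (hz : orderOf z = p) (x : G)
    (t t₀ : ZMod p) (u u₀ : G) (hu : u ∈ Subgroup.center G) (hu₀ : u₀ ∈ Subgroup.center G)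
    (h : x * (z ^ t.val * u) * x⁻¹ = z ^ t₀.val * u₀) :
    u = u₀ ∧ x * z ^ t.val * x⁻¹ = z ^ t₀.val := by
  have hp : p.Prime := Fact.out
  have hzp : z ^ p = 1 := hz ▸ pow_orderOf_eq_one z
  have hc : x⁻¹ * u = u * x⁻¹ := Subgroup.mem_center_iff.mp hu x⁻¹
  have h1 : x * (z ^ t.val * u) * x⁻¹ = (x * z ^ t.val * x⁻¹) * u := by
    calc x * (z ^ t.val * u) * x⁻¹ = x * z ^ t.val * (u * x⁻¹) := by group
      _ = x * z ^ t.val * (x⁻¹ * u) := by rw [hc]
      _ = (x * z ^ t.val * x⁻¹) * u := by group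
  rw [h1] at h
  have ha : x * z ^ t.val * x⁻¹ = z ^ t₀.val * (u₀ * u⁻¹) := by
    rw [← mul_assoc, ← h]; group
  have hw : u₀ * u⁻¹ ∈ Subgroup.center G := Subgroup.mul_mem _ hu₀ (Subgroup.inv_mem _ hu)
  have hap : (x * z ^ t.val * x⁻¹) ^ p = 1 := by
    rw [conj_pow, ← pow_mul, mul_comm, pow_mul, hzp, one_pow]; group
  have hwp : (u₀ * u⁻¹) ^ p = 1 := by
    have hcomm : Commute (z ^ t₀.val) (u₀ * u⁻¹) := Subgroup.mem_center_iff.mp hw (z ^ t₀.val)
    rw [ha, hcomm.mul_pow, ← pow_mul, mul_comm t₀.val, pow_mul, hzp, one_pow, one_mul] at hap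
    exact hap
  have hw1 : u₀ * u⁻¹ = 1 := by
    have hdvd : orderOf (u₀ * u⁻¹) ∣ p := orderOf_dvd_of_pow_eq_one hwp
    rcases (Nat.dvd_prime hp).mp hdvd with h2 | h2
    · exact orderOf_eq_one_iff.mp h2
    · exact (mom_no_central p hnn _ hw h2).elim
  have huu : u = u₀ := (mul_inv_eq_one.mp hw1).symm
  refine ⟨huu, ?_⟩
  rw [ha, hw1, mul_one]

theorem fiber_norm (p : ℕ) [Fact p.Prime] (z : G) (hz : orderOf z = p) (x : G)
    (t t₀ : ZMod p) (ht : t ≠ 0) (h : x * z ^ t.val * x⁻¹ = z ^ t₀.val) :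
    x ∈ Subgroup.normalizer ((Subgroup.zpowers z : Subgroup G) : Set G) := by
  have hp : p.Prime := Fact.out
  have h1 : z = (z ^ t.val) ^ (t⁻¹).val := by
    rw [← pow_mul, fiber_pow_mul p z hz t t⁻¹, mul_inv_cancel₀ ht]
    have h0 : (1 : ZMod p).val = 1 := by
      have : Fact (1 < p) := ⟨hp.one_lt⟩
      exact ZMod.val_one p
    rw [h0, pow_one]
  have h2 : x * z * x⁻¹ = z ^ (t₀.val * (t⁻¹).val) := by
    conv_lhs => rw [h1]
    rw [← conj_pow, h, ← pow_mul]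
  have h3 : x⁻¹ ∈ Subgroup.normalizer ((Subgroup.zpowers z : Subgroup G) : Set G) :=
    Cfsg.Agent.Lib.Helper87.BFT.h87_mem_norm_of_conj z x⁻¹ _ (by rw [inv_inv]; exact h2)
  exact (Subgroup.inv_mem_iff _).mp h3

open Classical in
/-- for fixed `x`: exactly one pair `(t, u)`, `t ≠ 0`, `u` central, with
`x (z^t u) x⁻¹ = z^t₀ u₀` if `x` normalizes `⟨z⟩`, none otherwise -/
theorem mom_fiber (p : ℕ) [Fact p.Prime]
    (hnn : ∀ H : Subgroup G, H.Normal → Nat.card H ≠ p) (χ : G → ℂ) (z : G) (ζ : ℂ)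
    (hHP : HP p ζ z χ) (t₀ : ZMod p) (ht₀ : t₀ ≠ 0) (u₀ : G) (hu₀ : u₀ ∈ Subgroup.center G)
    (x : G) :
    ((Finset.univ.filter (fun q : ZMod p × G => q.1 ≠ 0 ∧ q.2 ∈ Subgroup.center G ∧
        x * (z ^ q.1.val * q.2) * x⁻¹ = z ^ t₀.val * u₀)).card : ℝ) =
      if x ∈ Subgroup.normalizer ((Subgroup.zpowers z : Subgroup G) : Set G) then 1 else 0 := by
  have hp : p.Prime := Fact.out
  have hz := hHP.hz
  by_cases hx : x ∈ Subgroup.normalizer ((Subgroup.zpowers z : Subgroup G) : Set G)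
  · rw [if_pos hx]
    have h1 : x * z * x⁻¹ ∈ Subgroup.zpowers z :=
      (Subgroup.mem_normalizer_iff.mp hx z).mp (Subgroup.mem_zpowers z)
    obtain ⟨k, hk⟩ := (Cfsg.Agent.Lib.Helper35.BFT.mem_zpowers_iff_val p z hz _).mp h1
    have hk0 : k ≠ 0 := by
      rintro rfl
      simp only [ZMod.val_zero, pow_zero] at hk
      have hz1 : z = 1 := by
        have h2 := congrArg (fun y => x⁻¹ * y * x) hk
        simp only [mul_one, inv_mul_cancel] at h2
        rw [h2]; group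
      rw [hz1, orderOf_one] at hz
      exact hp.one_lt.ne hz
    have hconj : ∀ t : ZMod p, x * z ^ t.val * x⁻¹ = z ^ (k * t).val := by
      intro t
      rw [← conj_pow, ← hk, ← pow_mul]
      exact fiber_pow_mul p z hz k t
    have hS : Finset.univ.filter (fun q : ZMod p × G => q.1 ≠ 0 ∧ q.2 ∈ Subgroup.center G ∧
        x * (z ^ q.1.val * q.2) * x⁻¹ = z ^ t₀.val * u₀) = {(t₀ * k⁻¹, u₀)} := by
      ext ⟨t, u⟩
      simp only [Finset.mem_filter, Finset.mem_univ, true_and, Finset.mem_singleton,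
        Prod.mk.injEq]
      constructor
      · rintro ⟨ht, hu, h⟩
        obtain ⟨huu, h2⟩ := fiber_key p hnn z hz x t t₀ u u₀ hu hu₀ h
        rw [hconj t] at h2
        have h3 := Cfsg.Agent.Lib.Helper87.BFT.h87_pow_val_inj p z hz _ _ h2
        refine ⟨?_, huu⟩
        rw [← h3, mul_comm k t, mul_assoc, mul_inv_cancel₀ hk0, mul_one]
      · rintro ⟨rfl, rfl⟩
        refine ⟨mul_ne_zero ht₀ (inv_ne_zero hk0), hu₀, ?_⟩
        have hc : x⁻¹ * u = u * x⁻¹ := Subgroup.mem_center_iff.mp hu₀ x⁻¹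
        have h4 : k * (t₀ * k⁻¹) = t₀ := by
          rw [mul_comm t₀, ← mul_assoc, mul_inv_cancel₀ hk0, one_mul]
        calc x * (z ^ (t₀ * k⁻¹).val * u) * x⁻¹
            = x * z ^ (t₀ * k⁻¹).val * (u * x⁻¹) := by group
          _ = x * z ^ (t₀ * k⁻¹).val * (x⁻¹ * u) := by rw [hc]
          _ = (x * z ^ (t₀ * k⁻¹).val * x⁻¹) * u := by group
          _ = z ^ t₀.val * u := by rw [hconj, h4]
    rw [hS, Finset.card_singleton]
    simp
  · rw [if_neg hx]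
    have hS : Finset.univ.filter (fun q : ZMod p × G => q.1 ≠ 0 ∧ q.2 ∈ Subgroup.center G ∧
        x * (z ^ q.1.val * q.2) * x⁻¹ = z ^ t₀.val * u₀) = ∅ := by
      rw [Finset.filter_eq_empty_iff]
      rintro ⟨t, u⟩ _ ⟨ht, hu, h⟩
      apply hx
      obtain ⟨huu, h2⟩ := fiber_key p hnn z hz x t t₀ u u₀ hu hu₀ h
      exact fiber_norm p z hz x t t₀ ht h2
    rw [hS]
    simp

end Cfsg.Agent.Lib.Helper87.HPT
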