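import Mathlib

/-!
# S2075 (helper70), second round, piece CENT

Proved by helper87: centralisers in `C(z)` computed in tables (abstract statement, Mathlib only).
-/

set_option autoImplicit false

namespace Cfsg.Agent.Lib.Helper87.HeOCENT

theorem cent_aux {α β : Type} (R : α → β → Prop) (l : List α) (l' : List β)
    (h : List.Forall₂ R l l') : ∀ b ∈ l', ∃ a ∈ l, R a b := by
  induction h with
  | nil =>
    intro b hb
    simp at hb
  | cons hab _ ih =>
    intro b hb
    rcases List.mem_cons.mp hb with rfl | hb'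
    · exact ⟨_, List.mem_cons_self, hab⟩
    · obtain ⟨a, ha, hR⟩ := ih b hb'
      exact ⟨a, List.mem_cons_of_mem _ ha, hR⟩

/-- PIECE CENT.  Centralisers in `C(z)` computed in tables. -/
theorem cent_list {G : Type} [Group G] {T : Type} (tc : T → T → T)
    (Rp : G → T → Prop) (z : G) (allT : List T)
    (Rm : ∀ g h N M, Rp g N → Rp h M → Rp (g * h) (tc N M))
    (Rinj : ∀ g h N, Rp g N → Rp h N → g = h) (Rfun : ∀ g N M, Rp g N → Rp g M → N = M)
    (Rex : ∀ g, g * z = z * g → ∃ N ∈ allT, Rp g N)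
    (ys : List G) (ysT : List T) (hys : List.Forall₂ Rp ys ysT)
    (zs : List G) (zsT : List T) (hzs : List.Forall₂ Rp zs zsT)
    (hk : ∀ N ∈ allT, (∀ Y ∈ ysT, tc N Y = tc Y N) → N ∈ zsT) :
    ∀ c : G, c * z = z * c → (∀ y ∈ ys, c * y = y * c) → c ∈ zs := by
  intro c hcz hcy
  obtain ⟨N, hN, hcN⟩ := Rex c hcz
  have hcomm : ∀ Y ∈ ysT, tc N Y = tc Y N := by
    intro Y hY
    obtain ⟨y, hy, hyY⟩ := cent_aux Rp ys ysT hys Y hY
    have h1 : Rp (c * y) (tc N Y) := Rm c y N Y hcN hyY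
    have h2 : Rp (y * c) (tc Y N) := Rm y c Y N hyY hcN
    rw [hcy y hy] at h1
    exact Rfun _ _ _ h1 h2
  have hNz : N ∈ zsT := hk N hN hcomm
  obtain ⟨z', hz', hzN⟩ := cent_aux Rp zs zsT hzs N hNz
  have e : c = z' := Rinj c z' N hcN hzN
  rw [e]
  exact hz'

end Cfsg.Agent.Lib.Helper87.HeOCENT
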