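import Cfsg.Agent.Lib.Helper15.BG13CDefs

/-!
# S1428 project BG13C (helper15), piece C-F0 (the focal lemma)

Proved by helper87.
-/

set_option autoImplicit false

namespace Cfsg.Agent.Lib.Helper15.BG13C

open scoped commutatorElement

universe u

variable {G : Type u} [Group G] [Finite G]

theorem f0 : F0Stmt G := by
  intro p H B N _hp hBH hNH hHB hHBN hB hN
  have hNB : N ≤ Subgroup.normalizer (B : Set G) := hNH.trans hHB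
  have hN'N : ⁅N, N⁆ ≤ N := by
    rw [Subgroup.commutator_le]
    intro g₁ hg₁ g₂ hg₂
    rw [commutatorElement_def]
    exact N.mul_mem (N.mul_mem (N.mul_mem hg₁ hg₂) (N.inv_mem hg₁)) (N.inv_mem hg₂)
  have hN'B : ⁅N, N⁆ ≤ Subgroup.normalizer (B : Set G) := hN'N.trans hNB
  have hcop : (Nat.card ↥(B ⊔ ⁅N, N⁆)).Coprime p :=
    Cfsg.Agent.Lib.Helper3.BG13T.coprime_card_sup hN'B hB hN
  have hconj : ∀ g ∈ N, ∀ b ∈ B, g * b * g⁻¹ ∈ B := fun g hg b hb =>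
    (Subgroup.mem_normalizer_iff.mp (hNB hg) b).mp hb
  have hdec : ∀ h ∈ H, ∃ n ∈ N, ∃ b ∈ B, h = n * b := by
    intro h hh
    have h1 : h ∈ N ⊔ B := by
      have := hHBN hh
      rwa [sup_comm] at this
    exact Cfsg.Agent.Lib.Helper32.BG10.mem_sup_of_le_normalizer hNB h1
  have hle : ⁅H, H⁆ ≤ B ⊔ ⁅N, N⁆ := by
    rw [Subgroup.commutator_le]
    intro h₁ hh₁ h₂ hh₂
    obtain ⟨n₁, hn₁, b₁, hb₁, rfl⟩ := hdec h₁ hh₁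
    obtain ⟨n₂, hn₂, b₂, hb₂, rfl⟩ := hdec h₂ hh₂
    have hB1 : ⁅n₁ * b₁, n₂ * b₂⁆ * ⁅n₁, n₂⁆⁻¹ ∈ B := by
      have e : ⁅n₁ * b₁, n₂ * b₂⁆ * ⁅n₁, n₂⁆⁻¹
          = (n₁ * b₁ * n₁⁻¹) * ((n₁ * n₂) * (b₂ * b₁⁻¹) * (n₁ * n₂)⁻¹)
            * ((n₁ * n₂ * n₁⁻¹) * b₂⁻¹ * (n₁ * n₂ * n₁⁻¹)⁻¹) := by
        simp only [commutatorElement_def]
        group
      rw [e]
      refine B.mul_mem (B.mul_mem (hconj _ hn₁ _ hb₁) ?_) ?_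
      · exact hconj _ (N.mul_mem hn₁ hn₂) _ (B.mul_mem hb₂ (B.inv_mem hb₁))
      · exact hconj _ (N.mul_mem (N.mul_mem hn₁ hn₂) (N.inv_mem hn₁)) _ (B.inv_mem hb₂)
    have hN1 : ⁅n₁, n₂⁆ ∈ ⁅N, N⁆ := Subgroup.commutator_mem_commutator hn₁ hn₂
    have e2 : ⁅n₁ * b₁, n₂ * b₂⁆ = (⁅n₁ * b₁, n₂ * b₂⁆ * ⁅n₁, n₂⁆⁻¹) * ⁅n₁, n₂⁆ := by
      group
    rw [e2]
    exact Subgroup.mul_mem _ (Subgroup.mem_sup_left hB1) (Subgroup.mem_sup_right hN1)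
  exact Nat.Coprime.coprime_dvd_left (Subgroup.card_dvd_of_le hle) hcop

end Cfsg.Agent.Lib.Helper15.BG13C
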