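import Cfsg.Agent.Lib.Helper87.Marks

set_option autoImplicit false

/-!
Abstract construction of a "characteristic" multiplicity function on the subgroups of a finite
`p`-group `G`: given a class `IsG` of subgroups with an equivalence relation `Rel` satisfying the
hypotheses `BisetHyp` (abstracting the graphs of the maps of a saturated fusion system inside
`S × S`), there is `m : Subgroup G → ℕ` supported on `IsG` whose weighted fixed point count
`fixm m` is constant on `Rel`-classes, extending any given such function on an up-closed family.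
-/

namespace Cfsg.Agent.Lib.Helper87

variable {G : Type*} [Group G]

/-- The weighted number of fixed points of `D` on `⊔_E m(E) · G ⧸ E`. -/
noncomputable def fixm (m : Subgroup G → ℕ) (D : Subgroup G) : ℕ :=
  ∑ᶠ E : Subgroup G, m E * fp E D

theorem fixm_cj [Finite G] (m : Subgroup G → ℕ) (g : G) (D : Subgroup G) :
    fixm m (cj g D) = fixm m D := by
  unfold fixm
  congr 1
  funext E
  rw [fp_cj_right]

theorem burnside_fixm [Finite G] (m : Subgroup G → ℕ) (D M : Subgroup G)
    (hM : M ≤ Subgroup.normalizer (D : Set G)) :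
    Nat.card M ∣ ∑ᶠ n : M, fixm m (D ⊔ Subgroup.zpowers (n : G)) := by
  classical
  let _ : Fintype M := Fintype.ofFinite M
  let _ : Fintype (Subgroup G) := Fintype.ofFinite _
  unfold fixm
  rw [finsum_eq_sum_of_fintype]
  simp_rw [finsum_eq_sum_of_fintype]
  rw [Finset.sum_comm]
  apply Finset.dvd_sum
  intro E _
  rw [← Finset.mul_sum]
  apply Dvd.dvd.mul_left
  have := burnside_fp E D M hM
  rw [finsum_eq_sum_of_fintype] at this
  exact this

/-- The hypotheses on the class `IsG` of "graph" subgroups and the relation `Rel`. -/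
structure BisetHyp (IsG : Subgroup G → Prop) (Rel : Subgroup G → Subgroup G → Prop) : Prop where
  rel_symm : ∀ {D D' : Subgroup G}, Rel D D' → Rel D' D
  rel_trans : ∀ {D D' D'' : Subgroup G}, Rel D D' → Rel D' D'' → Rel D D''
  rel_isG : ∀ {D D' : Subgroup G}, Rel D D' → IsG D
  rel_card : ∀ {D D' : Subgroup G}, Rel D D' → Nat.card D = Nat.card D'
  conj : ∀ {D : Subgroup G} (g : G), IsG D → Rel D (cj g D)
  sub : ∀ {D E : Subgroup G}, IsG E → D ≤ E → IsG D
  sat : ∀ D : Subgroup G, IsG D → ∃ D₀ : Subgroup G, Rel D D₀ ∧ ∀ D' : Subgroup G, Rel D' D₀ →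
      ∃ ψ : ↥(Subgroup.normalizer (D' : Set G)) →* G, Function.Injective ψ ∧
        (∀ x, ψ x ∈ Subgroup.normalizer (D₀ : Set G)) ∧
        (D'.subgroupOf (Subgroup.normalizer (D' : Set G))).map ψ = D₀ ∧
        ∀ E : Subgroup G, E ≤ Subgroup.normalizer (D' : Set G) →
          (IsG E ↔ IsG ((E.subgroupOf (Subgroup.normalizer (D' : Set G))).map ψ)) ∧
          (IsG E → Rel E ((E.subgroupOf (Subgroup.normalizer (D' : Set G))).map ψ))

theorem BisetHyp.rel_refl {IsG : Subgroup G → Prop} {Rel : Subgroup G → Subgroup G → Prop}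
    (H : BisetHyp IsG Rel) {D : Subgroup G} (hD : IsG D) : Rel D D := by
  have := H.conj 1 hD
  rwa [cj_one] at this

theorem BisetHyp.rel_isG' {IsG : Subgroup G → Prop} {Rel : Subgroup G → Subgroup G → Prop}
    (H : BisetHyp IsG Rel) {D D' : Subgroup G} (h : Rel D D') : IsG D' :=
  H.rel_isG (H.rel_symm h)

theorem fixm_eq_zero_of_not_isG [Finite G] {IsG : Subgroup G → Prop}
    {Rel : Subgroup G → Subgroup G → Prop} (H : BisetHyp IsG Rel) {m : Subgroup G → ℕ}
    (hsupp : ∀ E, m E ≠ 0 → IsG E) {D : Subgroup G} (hD : ¬ IsG D) : fixm m D = 0 := by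
  unfold fixm
  apply finsum_eq_zero_of_forall_eq_zero
  intro E
  by_cases hm : m E = 0
  · rw [hm, zero_mul]
  · have hE := hsupp E hm
    by_cases hf : fp E D = 0
    · rw [hf, mul_zero]
    · exfalso
      obtain ⟨g, hg⟩ := exists_of_fp_ne_zero hf
      exact hD (H.sub (H.rel_isG' (H.conj g hE)) hg)

/-- Data maintained through the induction: `T` is the set of subgroups already treated. -/
structure Good (IsG : Subgroup G → Prop) (Rel : Subgroup G → Subgroup G → Prop)
    (T : Set (Subgroup G)) (m : Subgroup G → ℕ) : Prop where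
  isG : ∀ E ∈ T, IsG E
  rel_closed : ∀ D ∈ T, ∀ D', Rel D D' → D' ∈ T
  up : ∀ D ∈ T, ∀ D', IsG D' → D' ∉ T → Nat.card D' ≤ Nat.card D
  supp : ∀ E, m E ≠ 0 → E ∈ T
  stable : ∀ D ∈ T, ∀ D', Rel D D' → fixm m D = fixm m D'

theorem subgroupOf_zpowers {N : Subgroup G} (n : N) :
    (Subgroup.zpowers (n : G)).subgroupOf N = Subgroup.zpowers n := by
  ext x
  rw [Subgroup.mem_subgroupOf, Subgroup.mem_zpowers_iff, Subgroup.mem_zpowers_iff]
  constructor
  · rintro ⟨k, hk⟩
    exact ⟨k, Subtype.ext (by simpa using hk)⟩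
  · rintro ⟨k, hk⟩
    exact ⟨k, by simpa using congrArg Subtype.val hk⟩

theorem map_sup_zpowers {G' : Type*} [Group G'] {N : Subgroup G} (ψ : N →* G') (D : Subgroup G)
    (hD : D ≤ N) (n : N) :
    ((D ⊔ Subgroup.zpowers (n : G)).subgroupOf N).map ψ =
      (D.subgroupOf N).map ψ ⊔ Subgroup.zpowers (ψ n) := by
  have h1 : (D ⊔ Subgroup.zpowers (n : G)).subgroupOf N =
      D.subgroupOf N ⊔ Subgroup.zpowers n := by
    rw [← subgroupOf_zpowers]
    apply le_antisymm
    · intro x hx
      rw [Subgroup.mem_subgroupOf] at hx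
      have hx' : (x : G) ∈ (D.subgroupOf N ⊔ (Subgroup.zpowers (n : G)).subgroupOf N).map N.subtype := by
        rw [Subgroup.map_sup, Subgroup.map_subgroupOf_eq_of_le hD,
          Subgroup.map_subgroupOf_eq_of_le (by rw [Subgroup.zpowers_le]; exact n.2)]
        exact hx
      obtain ⟨y, hy, hyx⟩ := hx'
      have : y = x := Subtype.ext hyx
      rw [← this]
      exact hy
    · apply sup_le
      · intro x hx
        rw [Subgroup.mem_subgroupOf] at hx ⊢
        exact (le_sup_left : D ≤ D ⊔ Subgroup.zpowers (n : G)) hx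
      · intro x hx
        rw [Subgroup.mem_subgroupOf] at hx ⊢
        exact (le_sup_right : Subgroup.zpowers (n : G) ≤ D ⊔ Subgroup.zpowers (n : G)) hx
  rw [h1, Subgroup.map_sup, MonoidHom.map_zpowers]

/-- The setoid of conjugacy of subgroups. -/
def conjSetoid (G : Type*) [Group G] : Setoid (Subgroup G) where
  r D D' := ∃ g : G, D' = cj g D
  iseqv :=
    ⟨fun D => ⟨1, (cj_one D).symm⟩,
     fun {D D'} ⟨g, h⟩ => ⟨g⁻¹, by rw [h, cj_inv_cj]⟩,
     fun {D D' D''} ⟨g, h⟩ ⟨g', h'⟩ => ⟨g' * g, by rw [h', h, cj_mul]⟩⟩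

/-- A chosen representative of the conjugacy class of a subgroup. -/
noncomputable def crep (D : Subgroup G) : Subgroup G :=
  (Quotient.mk (conjSetoid G) D).out

theorem crep_conj (D : Subgroup G) : ∃ g : G, D = cj g (crep D) :=
  Quotient.mk_out (s := conjSetoid G) D

theorem crep_cj (g : G) (D : Subgroup G) : crep (cj g D) = crep D := by
  unfold crep
  congr 1
  apply Quotient.sound
  exact ⟨g⁻¹, by rw [cj_inv_cj]⟩

theorem crep_crep (D : Subgroup G) : crep (crep D) = crep D := by
  obtain ⟨g, hg⟩ := crep_conj D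
  conv_rhs => rw [hg]
  rw [crep_cj]

section Step

variable [Finite G] {p : ℕ} [Fact p.Prime] {IsG : Subgroup G → Prop}
  {Rel : Subgroup G → Subgroup G → Prop}

theorem fp_self_eq_pow (hG : IsPGroup p G) (D : Subgroup G) : ∃ a : ℕ, fp D D = p ^ a := by
  obtain ⟨n, hn⟩ := IsPGroup.iff_card.mp hG
  have h1 : fp D D ∣ Nat.card (Subgroup.normalizer (D : Set G)) :=
    Dvd.intro_left _ (fp_self_mul D)
  have h2 : Nat.card (Subgroup.normalizer (D : Set G)) ∣ Nat.card G :=
    Subgroup.card_subgroup_dvd_card _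
  have h3 : fp D D ∣ p ^ n := hn ▸ h1.trans h2
  obtain ⟨a, -, ha⟩ := (Nat.dvd_prime_pow (Fact.out : p.Prime)).mp h3
  exact ⟨a, ha⟩

/-- Comparison of the normalizer quotients along the map `ψ`. -/
theorem fp_self_dvd (hG : IsPGroup p G) {D D₀ : Subgroup G} (hcard : Nat.card D = Nat.card D₀)
    (ψ : ↥(Subgroup.normalizer (D : Set G)) →* G) (hinj : Function.Injective ψ)
    (hψ : ∀ x, ψ x ∈ Subgroup.normalizer (D₀ : Set G)) : fp D D ∣ fp D₀ D₀ := by
  obtain ⟨a, ha⟩ := fp_self_eq_pow hG D
  obtain ⟨b, hb⟩ := fp_self_eq_pow hG D₀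
  have hle : Nat.card (Subgroup.normalizer (D : Set G)) ≤
      Nat.card (Subgroup.normalizer (D₀ : Set G)) := by
    apply Nat.card_le_card_of_injective (fun x => (⟨ψ x, hψ x⟩ : Subgroup.normalizer (D₀ : Set G)))
    intro x y hxy
    exact hinj (congrArg Subtype.val hxy)
  rw [← fp_self_mul D, ← fp_self_mul D₀, hcard] at hle
  have hle' : fp D D ≤ fp D₀ D₀ := Nat.le_of_mul_le_mul_left hle Nat.card_pos
  rw [ha, hb] at hle' ⊢
  have hp : 1 < p := (Fact.out : p.Prime).one_lt
  exact pow_dvd_pow p ((Nat.pow_le_pow_iff_right hp).mp hle')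

/-- The key congruence. -/
theorem fixm_congr (H : BisetHyp IsG Rel) {T : Set (Subgroup G)} {m : Subgroup G → ℕ}
    (hgood : Good IsG Rel T m) {D D₀ : Subgroup G}
    (hbig : ∀ E, IsG E → Nat.card D < Nat.card E → E ∈ T)
    (N : Subgroup G) (hN : N = Subgroup.normalizer (D : Set G))
    (ψ : N →* G) (hinj : Function.Injective ψ)
    (hψ : ∀ x, ψ x ∈ Subgroup.normalizer (D₀ : Set G))
    (hmap : (D.subgroupOf N).map ψ = D₀)
    (hE : ∀ E : Subgroup G, E ≤ N →
          (IsG E ↔ IsG ((E.subgroupOf N).map ψ)) ∧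
          (IsG E → Rel E ((E.subgroupOf N).map ψ))) :
    (fp D D : ℤ) ∣ (fixm m D : ℤ) - fixm m D₀ := by
  classical
  have hDN : D ≤ N := hN ▸ Subgroup.le_normalizer
  let _ : Fintype N := Fintype.ofFinite N
  have hsupp : ∀ E, m E ≠ 0 → IsG E := fun E hE' => hgood.isG E (hgood.supp E hE')
  -- first Burnside congruence
  have hA := burnside_fixm m D N hN.le
  rw [finsum_eq_sum_of_fintype] at hA
  -- second Burnside congruence, for the image of `ψ`
  have hMle : ψ.range ≤ Subgroup.normalizer (D₀ : Set G) := by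
    rintro _ ⟨x, rfl⟩
    exact hψ x
  have hB := burnside_fixm m D₀ ψ.range hMle
  have hcardM : Nat.card ψ.range = Nat.card N :=
    (Nat.card_congr (MonoidHom.ofInjective hinj).toEquiv).symm
  have hB' : Nat.card N ∣ ∑ n : N, fixm m (D₀ ⊔ Subgroup.zpowers (ψ n)) := by
    rw [hcardM] at hB
    have e : ∑ᶠ n : ψ.range, fixm m (D₀ ⊔ Subgroup.zpowers (n : G)) =
        ∑ᶠ n : N, fixm m (D₀ ⊔ Subgroup.zpowers (ψ n)) := by
      rw [← finsum_comp_equiv (MonoidHom.ofInjective hinj).toEquiv]
      rfl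
    rw [e, finsum_eq_sum_of_fintype] at hB
    exact hB
  -- termwise comparison
  have hterm : ∀ n : N, ((fixm m (D ⊔ Subgroup.zpowers (n : G)) : ℤ) -
      fixm m (D₀ ⊔ Subgroup.zpowers (ψ n))) =
      if (n : G) ∈ D then ((fixm m D : ℤ) - fixm m D₀) else 0 := by
    intro n
    by_cases hn : (n : G) ∈ D
    · rw [if_pos hn]
      have h1 : D ⊔ Subgroup.zpowers (n : G) = D := by
        rw [sup_eq_left, Subgroup.zpowers_le]
        exact hn
      have h2 : D₀ ⊔ Subgroup.zpowers (ψ n) = D₀ := by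
        rw [sup_eq_left, Subgroup.zpowers_le, ← hmap]
        exact ⟨n, Subgroup.mem_subgroupOf.mpr hn, rfl⟩
      rw [h1, h2]
    · rw [if_neg hn]
      have hEN : D ⊔ Subgroup.zpowers (n : G) ≤ N := by
        apply sup_le hDN
        rw [Subgroup.zpowers_le]
        exact n.2
      have hmap' := map_sup_zpowers ψ D hDN n
      rw [hmap] at hmap'
      obtain ⟨hiff, hrel⟩ := hE _ hEN
      rw [hmap'] at hiff hrel
      by_cases hG' : IsG (D ⊔ Subgroup.zpowers (n : G))
      · have hlt : Nat.card D < Nat.card (D ⊔ Subgroup.zpowers (n : G) : Subgroup G) := by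
          by_contra hle
          have heq : D = D ⊔ Subgroup.zpowers (n : G) :=
            Subgroup.eq_of_le_of_card_ge le_sup_left (not_lt.mp hle)
          apply hn
          rw [heq]
          exact (le_sup_right : Subgroup.zpowers (n : G) ≤ D ⊔ Subgroup.zpowers (n : G))
            (Subgroup.mem_zpowers _)
        have hT := hbig _ hG' hlt
        rw [hgood.stable _ hT _ (hrel hG')]
        simp
      · have hG'' : ¬ IsG (D₀ ⊔ Subgroup.zpowers (ψ n)) := fun h => hG' (hiff.mpr h)
        rw [fixm_eq_zero_of_not_isG H hsupp hG', fixm_eq_zero_of_not_isG H hsupp hG'']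
        simp
  have hcount : ((Finset.univ.filter (fun n : N => (n : G) ∈ D)).card : ℤ) = Nat.card D := by
    have : (Finset.univ.filter (fun n : N => (n : G) ∈ D)).card = Nat.card (D.subgroupOf N) := by
      rw [Nat.card_eq_fintype_card, Fintype.card_subtype]
      rfl
    rw [this, Nat.card_congr (Subgroup.subgroupOfEquivOfLe hDN).toEquiv]
  have hsum : (∑ n : N, ((fixm m (D ⊔ Subgroup.zpowers (n : G)) : ℤ) -
      fixm m (D₀ ⊔ Subgroup.zpowers (ψ n)))) = (Nat.card D : ℤ) * ((fixm m D : ℤ) - fixm m D₀) := by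
    rw [Finset.sum_congr rfl (fun n _ => hterm n), Finset.sum_ite, Finset.sum_const,
      Finset.sum_const_zero, add_zero, nsmul_eq_mul, hcount]
  have hdvd : (Nat.card N : ℤ) ∣ (Nat.card D : ℤ) * ((fixm m D : ℤ) - fixm m D₀) := by
    rw [← hsum, Finset.sum_sub_distrib]
    apply dvd_sub
    · have := Int.natCast_dvd_natCast.mpr hA
      rwa [Nat.cast_sum] at this
    · have := Int.natCast_dvd_natCast.mpr hB'
      rwa [Nat.cast_sum] at this
  have hNeq : (Nat.card N : ℤ) = (Nat.card D : ℤ) * (fp D D : ℤ) := by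
    rw [← Nat.cast_mul, fp_self_mul D, hN]
  rw [hNeq] at hdvd
  have hD0 : (Nat.card D : ℤ) ≠ 0 := by
    have : 0 < Nat.card D := Nat.card_pos
    omega
  exact (mul_dvd_mul_iff_left hD0).mp hdvd

theorem fixm_add (m w : Subgroup G → ℕ) (D : Subgroup G) :
    fixm (fun E => m E + w E) D = fixm m D + fixm w D := by
  classical
  let _ : Fintype (Subgroup G) := Fintype.ofFinite _
  unfold fixm
  rw [finsum_eq_sum_of_fintype, finsum_eq_sum_of_fintype, finsum_eq_sum_of_fintype,
    ← Finset.sum_add_distrib]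
  apply Finset.sum_congr rfl
  intro E _
  rw [add_mul]

/-- One step of the induction: treating the `Rel`-class of a maximal untreated subgroup. -/
theorem step (hG : IsPGroup p G) (H : BisetHyp IsG Rel) {T : Set (Subgroup G)}
    {m : Subgroup G → ℕ} (hgood : Good IsG Rel T m) {Ds : Subgroup G} (hDs : IsG Ds)
    (hnot : Ds ∉ T) (hmax : ∀ D, IsG D → D ∉ T → Nat.card D ≤ Nat.card Ds) :
    ∃ m' : Subgroup G → ℕ, Good IsG Rel (T ∪ {D | Rel D Ds}) m' ∧ ∀ E ∈ T, m' E = m E := by
  classical
  let _ : Fintype (Subgroup G) := Fintype.ofFinite _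
  obtain ⟨D₀, hD₀, hsat⟩ := H.sat Ds hDs
  have hC_not : ∀ D, Rel D Ds → D ∉ T := fun D hD hDT => hnot (hgood.rel_closed D hDT Ds hD)
  have hC_card : ∀ D, Rel D Ds → Nat.card D = Nat.card Ds := fun D hD => H.rel_card hD
  have hbig : ∀ D, Rel D Ds → ∀ E, IsG E → Nat.card D < Nat.card E → E ∈ T := by
    intro D hD E hE hlt
    by_contra hET
    have := hmax E hE hET
    rw [hC_card D hD] at hlt
    omega
  have hcong : ∀ D, Rel D Ds → (fp D D : ℤ) ∣ (fixm m D : ℤ) - fixm m D₀ := by
    intro D hD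
    obtain ⟨ψ, hinj, hψ, hmap, hE⟩ := hsat D (H.rel_trans hD hD₀)
    exact fixm_congr H hgood (hbig D hD) _ rfl ψ hinj hψ hmap hE
  have hqdvd : ∀ D, Rel D Ds → fp D D ∣ fp D₀ D₀ := by
    intro D hD
    obtain ⟨ψ, hinj, hψ, hmap, hE⟩ := hsat D (H.rel_trans hD hD₀)
    exact fp_self_dvd hG ((hC_card D hD).trans (H.rel_card hD₀)) ψ hinj hψ
  obtain ⟨K, hK⟩ : ∃ K : ℕ, K = fixm m D₀ + fp D₀ D₀ * ∑ D : Subgroup G, fixm m D := ⟨_, rfl⟩
  have hKge : ∀ D, fixm m D ≤ K := by
    intro D
    have h1 : fixm m D ≤ ∑ D : Subgroup G, fixm m D :=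
      Finset.single_le_sum (fun _ _ => Nat.zero_le _) (Finset.mem_univ D)
    have h2 : ∑ D : Subgroup G, fixm m D ≤ fp D₀ D₀ * ∑ D : Subgroup G, fixm m D :=
      Nat.le_mul_of_pos_left _ (fp_self_pos D₀)
    omega
  have hKdvd : ∀ D, Rel D Ds → fp D D ∣ K - fixm m D := by
    intro D hD
    have h1 := hcong D hD
    have h2 : (fp D D : ℤ) ∣ (fp D₀ D₀ : ℤ) := Int.natCast_dvd_natCast.mpr (hqdvd D hD)
    have h3 : ((K - fixm m D : ℕ) : ℤ) = -((fixm m D : ℤ) - fixm m D₀) +
        (fp D₀ D₀ : ℤ) * ((∑ D : Subgroup G, fixm m D : ℕ) : ℤ) := by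
      rw [Nat.cast_sub (hKge D), hK]
      push_cast
      ring
    rw [← Int.natCast_dvd_natCast, h3]
    exact dvd_add (dvd_neg.mpr h1) (Dvd.dvd.mul_right h2 _)
  let w : Subgroup G → ℕ := fun E =>
    if Rel E Ds ∧ crep E = E then (K - fixm m E) / fp E E else 0
  have hw0 : ∀ E, ¬ Rel E Ds → w E = 0 := by
    intro E hE
    simp only [w]
    rw [if_neg (fun h => hE h.1)]
  -- the contribution of the new orbits at a member of the class
  have hfixC : ∀ D, Rel D Ds → fixm w D = K - fixm m D := by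
    intro D hD
    obtain ⟨g, hg⟩ := crep_conj D
    have hcD : crep D = cj g⁻¹ D := by
      conv_rhs => rw [hg]
      rw [cj_inv_cj]
    have hRc : Rel (crep D) Ds := by
      have h1 : Rel D (crep D) := by
        rw [hcD]
        exact H.conj g⁻¹ (H.rel_isG hD)
      exact H.rel_trans (H.rel_symm h1) hD
    rw [show fixm w D = ∑ᶠ E : Subgroup G, w E * fp E D from rfl,
      finsum_eq_sum_of_fintype, Finset.sum_eq_single (crep D)]
    · have hwc : w (crep D) = (K - fixm m (crep D)) / fp (crep D) (crep D) := by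
        simp only [w]
        rw [if_pos ⟨hRc, crep_crep D⟩]
      have hfp : fp (crep D) D = fp (crep D) (crep D) := by
        have := fp_cj_right (crep D) (crep D) g
        rw [← hg] at this
        exact this
      have hfm : fixm m (crep D) = fixm m D := by
        have := fixm_cj m g (crep D)
        rw [← hg] at this
        exact this.symm
      rw [hwc, hfp, Nat.div_mul_cancel (hKdvd _ hRc), hfm]
    · intro E _ hne
      by_cases hE : Rel E Ds ∧ crep E = E
      · have hfp : fp E D = 0 := by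
          apply fp_eq_zero_of_card
          · rw [hC_card E hE.1, hC_card D hD]
          · intro g' hg'
            apply hne
            rw [← hE.2, hg', crep_cj]
        rw [hfp, mul_zero]
      · have : w E = 0 := by
          simp only [w]
          rw [if_neg hE]
        rw [this, zero_mul]
    · intro h
      exact absurd (Finset.mem_univ _) h
  -- no contribution at the subgroups already treated
  have hfixT : ∀ D ∈ T, fixm w D = 0 := by
    intro D hD
    unfold fixm
    apply finsum_eq_zero_of_forall_eq_zero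
    intro E
    by_cases hE : Rel E Ds
    · have hfp : fp E D = 0 := by
        by_contra hf
        obtain ⟨g', hg'⟩ := exists_of_fp_ne_zero hf
        have hle1 : Nat.card D ≤ Nat.card E := by
          have := Subgroup.card_le_of_le hg'
          rwa [card_cj] at this
        have hle2 : Nat.card E ≤ Nat.card D := hgood.up D hD E (H.rel_isG hE) (hC_not E hE)
        have heq : D = cj g' E :=
          Subgroup.eq_of_le_of_card_ge hg' (by rw [card_cj]; exact hle2)
        have h1 : Rel E D := by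
          rw [heq]
          exact H.conj g' (H.rel_isG hE)
        exact hC_not E hE (hgood.rel_closed D hD E (H.rel_symm h1))
      rw [hfp, mul_zero]
    · rw [hw0 E hE, zero_mul]
  refine ⟨fun E => m E + w E, ⟨?_, ?_, ?_, ?_, ?_⟩, ?_⟩
  · rintro E (hE | hE)
    · exact hgood.isG E hE
    · exact H.rel_isG hE
  · rintro D (hD | hD) D' hDD'
    · exact Or.inl (hgood.rel_closed D hD D' hDD')
    · exact Or.inr (H.rel_trans (H.rel_symm hDD') hD)
  · rintro D (hD | hD) D' hD' hD'T
    · exact hgood.up D hD D' hD' (fun h => hD'T (Or.inl h))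
    · rw [hC_card D hD]
      exact hmax D' hD' (fun h => hD'T (Or.inl h))
  · intro E hE
    by_cases hm : m E = 0
    · right
      by_contra hR
      apply hE
      rw [hm, hw0 E hR]
    · exact Or.inl (hgood.supp E hm)
  · rintro D (hD | hD) D' hDD'
    · have hD' := hgood.rel_closed D hD D' hDD'
      rw [fixm_add, fixm_add, hfixT D hD, hfixT D' hD', hgood.stable D hD D' hDD']
    · have hD' : Rel D' Ds := H.rel_trans (H.rel_symm hDD') hD
      rw [fixm_add, fixm_add, hfixC D hD, hfixC D' hD']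
      have h1 := hKge D
      have h2 := hKge D'
      omega
  · intro E hE
    change m E + w E = m E
    rw [hw0 E (fun h => hC_not E h hE), add_zero]

/-- Existence of a stable multiplicity function extending a given one. -/
theorem exists_stable_mult (hG : IsPGroup p G) (H : BisetHyp IsG Rel) (T₀ : Set (Subgroup G))
    (m₀ : Subgroup G → ℕ) (h₀ : Good IsG Rel T₀ m₀) :
    ∃ m : Subgroup G → ℕ, (∀ E, m E ≠ 0 → IsG E) ∧
      (∀ D D', Rel D D' → fixm m D = fixm m D') ∧ ∀ E ∈ T₀, m E = m₀ E := by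
  classical
  have key : ∀ n : ℕ, ∀ (T : Set (Subgroup G)) (m : Subgroup G → ℕ), Good IsG Rel T m →
      T₀ ⊆ T → (∀ E ∈ T₀, m E = m₀ E) → Set.ncard {D : Subgroup G | IsG D ∧ D ∉ T} = n →
      ∃ m : Subgroup G → ℕ, (∀ E, m E ≠ 0 → IsG E) ∧
        (∀ D D', Rel D D' → fixm m D = fixm m D') ∧ ∀ E ∈ T₀, m E = m₀ E := by
    intro n
    induction n using Nat.strong_induction_on with
    | _ n ih =>
      intro T m hgood hT₀ hm hn
      by_cases hne : {D : Subgroup G | IsG D ∧ D ∉ T} = ∅
      · refine ⟨m, fun E hE => hgood.isG E (hgood.supp E hE), ?_, hm⟩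
        intro D D' hDD'
        have hD : D ∈ T := by
          by_contra hDT
          have : D ∈ {D : Subgroup G | IsG D ∧ D ∉ T} := ⟨H.rel_isG hDD', hDT⟩
          rw [hne] at this
          exact this
        exact hgood.stable D hD D' hDD'
      · have hfin : ({D : Subgroup G | IsG D ∧ D ∉ T}).Finite := Set.toFinite _
        obtain ⟨Ds, hDsmem, hDsmax⟩ :=
          Set.exists_max_image _ (fun D : Subgroup G => Nat.card D) hfin
            (Set.nonempty_iff_ne_empty.mpr hne)
        obtain ⟨m', hgood', hm'⟩ := step hG H hgood hDsmem.1 hDsmem.2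
          (fun D hD hDT => hDsmax D ⟨hD, hDT⟩)
        have hlt : Set.ncard {D : Subgroup G | IsG D ∧ D ∉ T ∪ {D | Rel D Ds}} < n := by
          rw [← hn]
          apply Set.ncard_lt_ncard _ hfin
          constructor
          · rintro D ⟨hD, hDT⟩
            exact ⟨hD, fun h => hDT (Or.inl h)⟩
          · intro hsub
            have := hsub hDsmem
            exact this.2 (Or.inr (H.rel_refl hDsmem.1))
        exact ih _ hlt _ m' hgood' (fun E hE => Or.inl (hT₀ hE))
          (fun E hE => (hm' E (hT₀ hE)).trans (hm E hE)) rfl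
  exact key _ T₀ m₀ h₀ le_rfl (fun _ _ => rfl) rfl

end Step

end Cfsg.Agent.Lib.Helper87
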