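import Cfsg.Agent.Lib.Helper87.GraphSub
import Cfsg.Agent.Lib.Helper87.BisetTransfer

set_option autoImplicit false

/-!
The transfer of a characteristic multiplicity function of a saturated fusion system `F` over `S`:
it is constant on the classes of `F`-conjugate elements and is a power map on the centre of `F`.
-/

namespace Cfsg.Agent.Lib.Helper87

open Cfsg Cfsg.FusionSystem Cfsg.Agent.Lib.Helper90

variable {Ω : Type*} [Group Ω] {S : Subgroup Ω} {F : FusionSystem S}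
  {P Q : Subgroup Ω} {f g : Ω → Ω}

theorem mor_map_zpow (h : Mor F P f) {x : Ω} (hx : x ∈ P) (n : ℤ) : f (x ^ n) = f x ^ n := by
  obtain ⟨φ, -, hφ⟩ := id h
  have h1 := hφ (⟨x, hx⟩ ^ n)
  rw [map_zpow, hφ ⟨x, hx⟩] at h1
  exact h1.symm

theorem mor_map_pow (h : Mor F P f) {x : Ω} (hx : x ∈ P) (n : ℕ) : f (x ^ n) = f x ^ n := by
  obtain ⟨φ, -, hφ⟩ := id h
  have h1 := hφ (⟨x, hx⟩ ^ n)
  rw [map_pow, hφ ⟨x, hx⟩] at h1
  exact h1.symm

theorem img_zpowers (h : Mor F P f) {x : Ω} (hx : x ∈ P) :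
    img (Subgroup.zpowers x) f = Subgroup.zpowers (f x) := by
  have hle : Subgroup.zpowers x ≤ P := by
    rw [Subgroup.zpowers_le]; exact hx
  have h' := h.restrict hle
  ext y
  rw [h'.mem_img]
  constructor
  · rintro ⟨z, hz, rfl⟩
    obtain ⟨n, rfl⟩ := Subgroup.mem_zpowers_iff.mp hz
    rw [mor_map_zpow h hx]
    exact Subgroup.zpow_mem_zpowers _ _
  · intro hy
    obtain ⟨n, rfl⟩ := Subgroup.mem_zpowers_iff.mp hy
    exact ⟨x ^ n, Subgroup.zpow_mem_zpowers _ _, mor_map_zpow h hx n⟩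

theorem pr1_zpowers (z : ↥S × ↥S) :
    pr1 (Subgroup.zpowers z) = Subgroup.zpowers ((z.1 : ↥S) : Ω) := by
  unfold pr1
  rw [MonoidHom.map_zpowers, MonoidHom.map_zpowers]
  rfl

theorem isG_injective {E : Subgroup (↥S × ↥S)} (hE : IsG F E) : Function.Injective (fstE E) := by
  obtain ⟨P, f, hf, rfl⟩ := hE
  intro e e' hee'
  have h1 := ((mem_gr hf).mp e.2).2
  have h2 := ((mem_gr hf).mp e'.2).2
  have h3 : (e : ↥S × ↥S).1 = (e' : ↥S × ↥S).1 := hee'
  apply Subtype.ext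
  apply Prod.ext h3
  apply Subtype.ext
  rw [← h1, ← h2, h3]

/-- If the cyclic subgroup generated by `(x ^ k, s)` is a graph then so is the one generated by
`(f(x) ^ k, s)`, for any map `f` of the system defined at `x`, and they are related. -/
theorem relG_zpowers (hf : Mor F P f) {x y : ↥S} (hx : (x : Ω) ∈ P) (hy : (y : Ω) = f x)
    (k : ℕ) (s : ↥S) (hD : IsG F (Subgroup.zpowers ((x ^ k, s) : ↥S × ↥S))) :
    RelG F (Subgroup.zpowers ((x ^ k, s) : ↥S × ↥S))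
      (Subgroup.zpowers ((y ^ k, s) : ↥S × ↥S)) := by
  obtain ⟨Q, g, hg, hDeq⟩ := id hD
  have hQ : Q = Subgroup.zpowers ((x : Ω) ^ k) := by
    have h1 := pr1_gr hg
    rw [← hDeq, pr1_zpowers] at h1
    rw [← h1]
    rfl
  subst hQ
  have hxk : (x : Ω) ^ k ∈ P := P.pow_mem hx k
  have hQP : Subgroup.zpowers ((x : Ω) ^ k) ≤ P := by
    rw [Subgroup.zpowers_le]; exact hxk
  have hgx : g ((x : Ω) ^ k) = s := by
    have h1 : ((x ^ k, s) : ↥S × ↥S) ∈ gr S (Subgroup.zpowers ((x : Ω) ^ k)) g := by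
      rw [← hDeq]; exact Subgroup.mem_zpowers _
    exact ((mem_gr hg).mp h1).2
  have hf₀ : Mor F (Subgroup.zpowers ((x : Ω) ^ k)) f := hf.restrict hQP
  have hg' : Mor F (img (Subgroup.zpowers ((x : Ω) ^ k)) f)
      (g ∘ invFn (Subgroup.zpowers ((x : Ω) ^ k)) f) :=
    hf₀.inv.comp hg (fun z hz => hf₀.invFn_mem hz)
  have e1 : (((y ^ k : ↥S)) : Ω) = f ((x : Ω) ^ k) := by
    rw [mor_map_pow hf hx, ← hy]
    rfl
  have hmem : ((y ^ k, s) : ↥S × ↥S) ∈ gr S (img (Subgroup.zpowers ((x : Ω) ^ k)) f)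
      (g ∘ invFn (Subgroup.zpowers ((x : Ω) ^ k)) f) := by
    rw [mem_gr hg']
    refine ⟨?_, ?_⟩
    · show (((y ^ k : ↥S)) : Ω) ∈ _
      rw [e1]
      exact hf₀.mem_img_of_mem (Subgroup.mem_zpowers _)
    · show g (invFn _ f (((y ^ k : ↥S)) : Ω)) = s
      rw [e1, hf₀.invFn_apply (Subgroup.mem_zpowers _), hgx]
  have hle : Subgroup.zpowers ((y ^ k, s) : ↥S × ↥S) ≤
      gr S (img (Subgroup.zpowers ((x : Ω) ^ k)) f)
        (g ∘ invFn (Subgroup.zpowers ((x : Ω) ^ k)) f) := by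
    rw [Subgroup.zpowers_le]; exact hmem
  have hD' : IsG F (Subgroup.zpowers ((y ^ k, s) : ↥S × ↥S)) :=
    isG_of_le ⟨_, _, hg', rfl⟩ hle
  refine ⟨hD, hD', ?_⟩
  rw [pr1_zpowers, pr1_zpowers]
  show F.IsConj (Subgroup.zpowers ((x : Ω) ^ k)) (Subgroup.zpowers (((y ^ k : ↥S)) : Ω))
  rw [e1, ← img_zpowers hf hxk]
  exact isConj_of_mor hf₀

theorem fixm_zpowers_eq [Finite S] {p : ℕ} [Fact p.Prime] (hS : IsPGroup p S)
    (hF : F.IsSaturated p) {m : Subgroup (↥S × ↥S) → ℕ} (hsupp : ∀ E, m E ≠ 0 → IsG F E)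
    (hst : ∀ D D', RelG F D D' → fixm m D = fixm m D')
    (hf : Mor F P f) {x y : ↥S} (hx : (x : Ω) ∈ P) (hy : (y : Ω) = f x) (k : ℕ) (s : ↥S) :
    fixm m (Subgroup.zpowers ((x ^ k, s) : ↥S × ↥S)) =
      fixm m (Subgroup.zpowers ((y ^ k, s) : ↥S × ↥S)) := by
  have H := bisetHyp hS hF
  by_cases hD : IsG F (Subgroup.zpowers ((x ^ k, s) : ↥S × ↥S))
  · exact hst _ _ (relG_zpowers hf hx hy k s hD)
  · have hD' : ¬ IsG F (Subgroup.zpowers ((y ^ k, s) : ↥S × ↥S)) := by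
      intro hD'
      apply hD
      have hyimg : (y : Ω) ∈ img P f := by
        rw [hy]; exact hf.mem_img_of_mem hx
      have hxy : (x : Ω) = invFn P f y := by
        rw [hy, hf.invFn_apply hx]
      exact H.rel_isG' (relG_zpowers hf.inv hyimg hxy k s hD')
    rw [fixm_eq_zero_of_not_isG H hsupp hD, fixm_eq_zero_of_not_isG H hsupp hD']

/-- The transfer of a stable multiplicity function is constant on classes of elements conjugate in
the system. -/
theorem bT_stable [Finite S] {p : ℕ} [Fact p.Prime] (hS : IsPGroup p S)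
    (hF : F.IsSaturated p) {A : Type*} [CommGroup A] [Finite A] (lam : ↥S →* A)
    {m : Subgroup (↥S × ↥S) → ℕ} (hsupp : ∀ E, m E ≠ 0 → IsG F E)
    (hst : ∀ D D', RelG F D D' → fixm m D = fixm m D')
    (hf : Mor F P f) {x y : ↥S} (hx : (x : Ω) ∈ P) (hy : (y : Ω) = f x) :
    bT lam m x = bT lam m y := by
  apply bT_eq_of_fixm lam m (fun E hE => isG_injective (hsupp E hE))
  intro k _ s
  exact fixm_zpowers_eq hS hF hsupp hst hf hx hy k s

/-- Every element of the centre of the system is fixed by every map of the system defined on it. -/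
theorem center_fixed {z : Ω} (hz : z ∈ F.center) :
    ∀ (P : Subgroup Ω) (f : Ω → Ω), Mor F P f → z ∈ P → f z = z := by
  have key : ∀ (P : Subgroup Ω) (f : Ω → Ω), Mor F P f →
      ∃ f' : Ω → Ω, Mor F (P ⊔ Subgroup.zpowers z) f' ∧ (∀ y ∈ P, f' y = f y) ∧ f' z = z := by
    unfold FusionSystem.center at hz
    rw [sSup_eq_iSup'] at hz
    refine Subgroup.iSup_induction (C := fun z => ∀ (P : Subgroup Ω) (f : Ω → Ω), Mor F P f →
      ∃ f' : Ω → Ω, Mor F (P ⊔ Subgroup.zpowers z) f' ∧ (∀ y ∈ P, f' y = f y) ∧ f' z = z)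
      _ hz ?_ ?_ ?_
    · rintro ⟨Q, hQ⟩ x hx P f hf
      obtain ⟨φ, hφ, hφf⟩ := id hf
      obtain ⟨ψ, hψ, hψP, hψQ⟩ := hQ.2 P φ hφ
      have hle : P ⊔ Subgroup.zpowers x ≤ P ⊔ Q := by
        apply sup_le_sup_left
        rw [Subgroup.zpowers_le]; exact hx
      refine ⟨extFun (P ⊔ Q) ψ, (mor_of_hom hψ).restrict hle, ?_, ?_⟩
      · intro y hy
        rw [extFun_apply' (P ⊔ Q) ψ ((le_sup_left : P ≤ P ⊔ Q) hy), ← hφf ⟨y, hy⟩, ← hψP]
        rfl
      · rw [extFun_apply' (P ⊔ Q) ψ ((le_sup_right : Q ≤ P ⊔ Q) hx)]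
        exact hψQ ⟨x, hx⟩
    · intro P f hf
      refine ⟨f, ?_, fun y _ => rfl, hf.map_one⟩
      rw [Subgroup.zpowers_one_eq_bot, sup_bot_eq]
      exact hf
    · intro x y hx hy P f hf
      obtain ⟨f₁, hf₁, hf₁P, hf₁x⟩ := hx P f hf
      obtain ⟨f₂, hf₂, hf₂P, hf₂y⟩ := hy _ f₁ hf₁
      have hxm : x ∈ P ⊔ Subgroup.zpowers x :=
        (le_sup_right : Subgroup.zpowers x ≤ P ⊔ Subgroup.zpowers x) (Subgroup.mem_zpowers x)
      have hxm' : x ∈ P ⊔ Subgroup.zpowers x ⊔ Subgroup.zpowers y := le_sup_left (a := P ⊔ Subgroup.zpowers x) hxm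
      have hym' : y ∈ P ⊔ Subgroup.zpowers x ⊔ Subgroup.zpowers y :=
        (le_sup_right : Subgroup.zpowers y ≤ _) (Subgroup.mem_zpowers y)
      have hle : P ⊔ Subgroup.zpowers (x * y) ≤ P ⊔ Subgroup.zpowers x ⊔ Subgroup.zpowers y := by
        apply sup_le
        · exact le_sup_left.trans le_sup_left
        · rw [Subgroup.zpowers_le]
          exact mul_mem hxm' hym'
      refine ⟨f₂, hf₂.restrict hle, ?_, ?_⟩
      · intro w hw
        rw [hf₂P w (le_sup_left (a := P) hw), hf₁P w hw]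
      · rw [hf₂.map_mul hxm' hym', hf₂y, hf₂P x hxm, hf₁x]
  intro P f hf hzP
  obtain ⟨f', -, hf'P, hf'z⟩ := key P f hf
  rw [← hf'P z hzP, hf'z]

theorem center_le (F : FusionSystem S) : F.center ≤ S := by
  unfold FusionSystem.center
  apply sSup_le
  intro Q hQ
  exact hQ.1

theorem center_comm {z : Ω} (hz : z ∈ F.center) {a : Ω} (ha : a ∈ S) : a * z = z * a := by
  have h1 := center_fixed hz S _ (mor_conj F le_rfl ha) (center_le F hz)
  calc a * z = (a * z * a⁻¹) * a := by group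
    _ = z * a := by rw [h1]

theorem center_mem_center {z : Ω} (hz : z ∈ F.center) :
    (⟨z, center_le F hz⟩ : ↥S) ∈ Subgroup.center ↥S := by
  rw [Subgroup.mem_center_iff]
  intro a
  apply Subtype.ext
  exact center_comm hz a.2

/-- The transfer of a multiplicity function supported on graphs is a power map on the centre. -/
theorem bT_center [Finite S] {A : Type*} [CommGroup A] (lam : ↥S →* A)
    [Fintype (Subgroup (↥S × ↥S))]
    {m : Subgroup (↥S × ↥S) → ℕ} (hsupp : ∀ E, m E ≠ 0 → IsG F E) {z : Ω} (hz : z ∈ F.center) :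
    bT lam m ⟨z, center_le F hz⟩ =
      lam ⟨z, center_le F hz⟩ ^ (∑ E : Subgroup (↥S × ↥S), m E * (pE E).index) := by
  apply bT_central lam m (fun E hE => isG_injective (hsupp E hE)) (center_mem_center hz)
  intro E hE a b hab ha
  obtain ⟨P, f, hf, rfl⟩ := hsupp E hE
  obtain ⟨haP, hfa⟩ := (mem_gr hf).mp hab
  obtain ⟨n, rfl⟩ := Subgroup.mem_zpowers_iff.mp ha
  have h1 : (((⟨z, center_le F hz⟩ : ↥S) ^ n : ↥S) : Ω) ∈ F.center := by
    show z ^ n ∈ F.center
    exact F.center.zpow_mem hz n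
  apply Subtype.ext
  rw [← hfa]
  exact center_fixed h1 P f hf haP

end Cfsg.Agent.Lib.Helper87
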