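import Cfsg.Agent.Lib.Helper92.FT12Defs
import Cfsg.Agent.Lib.Helper32.Uniq1
import Cfsg.Agent.S1415
import Cfsg.Agent.S1417
import Cfsg.Agent.S1418
import Cfsg.Agent.S1419
import Cfsg.Agent.S3745

/-!
# S1421 piece FT-KEY (helper87 for helper92)
-/

set_option autoImplicit false

open Cfsg Cfsg.Agent.Lib.Helper92.FT

namespace Cfsg.Agent.Lib.Helper87.FT12

universe u

/-- an element centralizing `A` normalizes every subgroup of `A` -/
theorem key_cent_norm {G : Type*} [Group G] {A X : Subgroup G} (hXA : X ≤ A) {g : G}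
    (hg : g ∈ Subgroup.centralizer (A : Set G)) : g ∈ Subgroup.normalizer (X : Set G) :=
  Subgroup.centralizer_le_normalizer _ (Subgroup.centralizer_le (fun _ hx => hXA hx) hg)

/-- an element of `B` normalizing `A`, with `A` normalizing `B` and `A ∩ B = 1`,
centralizes `A` -/
theorem key_comm_of_disjoint {G : Type*} [Group G] {A B : Subgroup G} (hd : Disjoint B A) {g : G}
    (hgB : g ∈ B) (hgA : g ∈ Subgroup.normalizer (A : Set G))
    (hAB : A ≤ Subgroup.normalizer (B : Set G)) :
    g ∈ Subgroup.centralizer (A : Set G) := by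
  rw [Subgroup.mem_centralizer_iff]
  intro a ha
  have h1 : g * a * g⁻¹ * a⁻¹ ∈ A :=
    mul_mem ((Subgroup.mem_normalizer_iff.mp hgA a).mp ha) (inv_mem ha)
  have h2 : g * a * g⁻¹ * a⁻¹ ∈ B := by
    have h := (Subgroup.mem_normalizer_iff.mp (hAB ha) g⁻¹).mp (inv_mem hgB)
    have h' := mul_mem hgB h
    simpa [mul_assoc] using h'
  have h3 : g * a * g⁻¹ * a⁻¹ = 1 := Subgroup.disjoint_def.mp hd h2 h1
  calc a * g = (g * a * g⁻¹ * a⁻¹)⁻¹ * (g * a) := by group
    _ = g * a := by rw [h3]; simp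

theorem key_of (ht : TauStmt.{u}) (hnorm : NormStmt.{u}) (hl : LinAStmt.{u}) (hb : NBarStmt.{u})
    (hs : NSylStmt.{u}) (h2 : Key2Stmt.{u}) : KeyStmt.{u} := by
  intro G _ _ hG M E hH p _ A hT hS hσ y hyE q hq hqy
  by_contra hno
  have hno' : ∀ X : Subgroup G, X ≤ A → Nat.card X = p →
      y ∉ Subgroup.normalizer (X : Set G) := fun X hXA hX hy => hno ⟨X, hXA, hX, hy⟩
  obtain ⟨hM, hE, hh⟩ := hH
  have hT' := hT
  obtain ⟨hp2, hAE, hAel, hA2⟩ := hT
  have hpp : p.Prime := Fact.out
  have hqF : Fact q.Prime := ⟨hq⟩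
  obtain ⟨⟨hEN, hlines⟩, -, -⟩ :=
    Cfsg.Agent.S1418.result hG M hM E hE p hp2 A ⟨hAE, hAel, hA2⟩
  obtain ⟨ht1, ht2, ht3⟩ := ht G hG M E hM hE
  have hEM : E ≤ M := hE.1
  have hAM : A ≤ M := hAE.trans hEM
  have hAp : IsPGroup p ↥A := IsPGroup.of_card hA2
  -- a line exists
  obtain ⟨X0, hX0A, hX0⟩ : ∃ X : Subgroup G, X ≤ A ∧ Nat.card X = p := by
    have hdvd : p ^ 1 ∣ Nat.card ↥A := by
      rw [hA2]; exact Dvd.intro p (by ring)
    obtain ⟨K, hK⟩ := Sylow.exists_subgroup_card_pow_prime (G := ↥A) p hdvd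
    refine ⟨K.map A.subtype, Subgroup.map_subtype_le K, ?_⟩
    rw [Subgroup.card_subtype]
    simpa using hK
  have hyC : y ∉ Subgroup.centralizer (A : Set G) :=
    fun hy => hno' X0 hX0A hX0 (key_cent_norm hX0A hy)
  have hy1 : y ≠ 1 := by
    rintro rfl
    exact hyC (one_mem _)
  obtain ⟨k, hk⟩ := hqy
  have hk0 : k ≠ 0 := by
    rintro rfl
    rw [pow_zero, orderOf_eq_one_iff] at hk
    exact hy1 hk
  have hyN : y ∈ Subgroup.normalizer (A : Set G) := hEN hyE
  have hqdvd : q ∣ orderOf y := by rw [hk]; exact dvd_pow_self q hk0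
  have hqE : q ∣ Nat.card ↥E := hqdvd.trans (E.orderOf_dvd_natCard hyE)
  have hq2 : q ≠ 2 := by
    rintro rfl
    have hodd : Odd (Nat.card G) := hG.1
    have h2d : 2 ∣ Nat.card G := hqdvd.trans (orderOf_dvd_natCard y)
    exact (Nat.not_even_iff_odd.mpr hodd) (even_iff_two_dvd.mpr h2d)
  have hypos : orderOf y ≠ 0 := by rw [hk]; exact pow_ne_zero _ hq.ne_zero
  have hzE : y ^ (orderOf y / q) ∈ E := pow_mem hyE _
  have hzord : orderOf (y ^ (orderOf y / q)) = q := by
    have h1 : orderOf y / q ≠ 0 := by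
      intro h0
      have := Nat.div_mul_cancel hqdvd
      rw [h0, zero_mul] at this
      exact hypos this.symm
    have h2' : orderOf y / q ∣ orderOf y := Nat.div_dvd_of_dvd hqdvd
    rw [orderOf_pow_of_dvd h1 h2']
    exact Nat.div_div_self hqdvd hypos
  have hz1 : y ^ (orderOf y / q) ≠ 1 := by
    intro h
    rw [h, orderOf_one] at hzord
    exact hq.one_lt.ne hzord
  -- Step 1: `z` normalizes some line
  have hzline : ∃ X : Subgroup G, X ≤ A ∧ Nat.card X = p ∧
      y ^ (orderOf y / q) ∈ Subgroup.normalizer (X : Set G) := by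
    rcases ht1 q hq hqE with h13 | h22
    · by_contra hcon
      have hfix : Fix M (y ^ (orderOf y / q)) :=
        hnorm G hG M E hM hE p A hT' hσ _ hzE (by rw [hzord]; exact hq)
          (fun X hXA hX hzX => hcon ⟨X, hXA, hX, hzX⟩)
      apply hfix
      apply hh _ hzE hz1
      intro r hr hrz
      rw [hzord] at hrz
      have hrq : r = q := (Nat.prime_dvd_prime_iff_eq hr hq).mp hrz
      rw [hrq]; exact h13
    · have hzC : y ^ (orderOf y / q) ∈ Subgroup.centralizer (A : Set G) := by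
        obtain ⟨Aq, hTq⟩ := ht2 q h22
        obtain ⟨⟨hENq, hlinesq⟩, -, -⟩ :=
          Cfsg.Agent.S1418.result hG M hM E hE q h22 Aq ⟨hTq.hAE, hTq.hA, hTq.hA2⟩
        have hzcard : Nat.card ↥(Subgroup.zpowers (y ^ (orderOf y / q))) = q := by
          rw [Nat.card_zpowers, hzord]
        have hzpE : Subgroup.zpowers (y ^ (orderOf y / q)) ≤ E := (Subgroup.zpowers_le).mpr hzE
        by_cases hqp : q = p
        · have hzA : y ^ (orderOf y / q) ∈ A :=
            hlines _ hzpE (hzcard.trans hqp) (Subgroup.mem_zpowers _)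
          rw [Subgroup.mem_centralizer_iff]
          intro a ha
          have hc := hAel.1.is_comm.comm ⟨a, ha⟩ ⟨_, hzA⟩
          exact congrArg Subtype.val hc
        · have hzAq : y ^ (orderOf y / q) ∈ Aq :=
            hlinesq _ hzpE hzcard (Subgroup.mem_zpowers _)
          have hAqq : IsPGroup q ↥Aq := IsPGroup.of_card hTq.hA2
          have hdisj : Disjoint Aq A := IsPGroup.disjoint_of_ne q p hqp Aq A hAqq hAp
          exact key_comm_of_disjoint hdisj hzAq (hEN hzE) (hAE.trans hENq)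
      exact ⟨X0, hX0A, hX0, key_cent_norm hX0A hzC⟩
  -- Step 2
  have hzC : y ^ (orderOf y / q) ∈ Subgroup.centralizer (A : Set G) :=
    hl G p A hAel hA2 y hyN q hq hq2 ⟨k, hk⟩ hno' (orderOf y / q) hzline
  -- Step 3: `q ∈ τ₁(M)`
  have hq1 : q ∈ tau1 M := by
    rcases ht1 q hq hqE with (h1 | h3) | h22
    · exact h1
    · exfalso
      have hEtop : E ≠ ⊤ := by
        intro h
        have hMtop : M = ⊤ := top_le_iff.mp (h ▸ hEM)
        exact hM.1 hMtop
      have hsolv : Group.IsSolvable ↥E := Cfsg.Agent.Lib.Helper32.minSimple_solvable hG hEtop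
      obtain ⟨E3, hE3, -, hyE3⟩ := (Cfsg.Agent.S3745.result (⊥ : Subgroup G) E bot_le
        (by rw [Subgroup.card_bot]; exact Nat.coprime_one_left _) hsolv (tau3 M)).2.2
        (Subgroup.zpowers y) ((Subgroup.zpowers_le).mpr hyE) bot_le (by
          intro r hr hrd
          rw [Nat.card_zpowers, hk] at hrd
          have hrq : r = q := (Nat.prime_dvd_prime_iff_eq hr hq).mp (hr.dvd_of_dvd_pow hrd)
          rw [hrq]; exact h3)
      have h15 := (Cfsg.Agent.S1415.result hG M hM E hE).2.2 E3 hE3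
      have hyD : y ∈ ⁅E, E⁆ := h15.2.1 (hyE3 (Subgroup.mem_zpowers y))
      have hDC : ⁅E, E⁆ ≤ Subgroup.centralizer (A : Set G) := by
        rw [Subgroup.commutator_le]
        intro g1 hg1 g2 hg2
        rw [commutatorElement_def]
        exact hb G hG M E hM hE p A hT' hS g1 (hEN hg1) g2 (hEN hg2)
      exact hyC (hDC hyD)
    · exfalso
      by_cases hqp : q = p
      · obtain ⟨-, h17, -⟩ := Cfsg.Agent.S1417.result hG M hM p hp2 A ⟨hAM, hAel, hA2⟩
        have hYp : IsPGroup p ↥(Subgroup.zpowers y) :=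
          IsPGroup.of_card (n := k) (by rw [Nat.card_zpowers, hk, hqp])
        have hYN : Subgroup.zpowers y ≤ Subgroup.normalizer (A : Set G) :=
          (Subgroup.zpowers_le).mpr hyN
        have hBp : IsPGroup p ↥(Subgroup.zpowers y ⊔ A : Subgroup G) :=
          hYp.to_sup_of_normal_right' hAp hYN
        have hB'p : IsPGroup p ↥((Subgroup.zpowers y ⊔ A).subgroupOf M) := hBp.comap_subtype
        obtain ⟨P, hP⟩ := hB'p.exists_le_sylow
        have hPc := (h17 P).1
        apply hyC
        rw [Subgroup.mem_centralizer_iff]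
        intro a ha
        have hyP : (⟨y, hEM hyE⟩ : ↥M) ∈ (P : Subgroup ↥M) := hP (by
          rw [Subgroup.mem_subgroupOf]
          exact Subgroup.mem_sup_left (Subgroup.mem_zpowers y))
        have haP : (⟨a, hAM ha⟩ : ↥M) ∈ (P : Subgroup ↥M) := hP (by
          rw [Subgroup.mem_subgroupOf]
          exact Subgroup.mem_sup_right ha)
        have hc := hPc.is_comm.comm ⟨_, haP⟩ ⟨_, hyP⟩
        have hc' := congrArg (fun t : ↥(P : Subgroup ↥M) => ((t : ↥M) : G)) hc
        exact hc'
      · by_cases hSq : ∃ S : Sylow q G, IsMulCommutative (S : Subgroup G)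
        · have hY'q : IsPGroup q ↥((Subgroup.zpowers y).subgroupOf E) :=
            (IsPGroup.of_card (n := k) (by rw [Nat.card_zpowers, hk])).comap_subtype
          obtain ⟨Q', hQ'⟩ := hY'q.exists_le_sylow
          have hQE : (Q' : Subgroup ↥E).map E.subtype ≤ E := Subgroup.map_subtype_le _
          have hQq : IsPGroup q ↥((Q' : Subgroup ↥E).map E.subtype) := Q'.isPGroup'.map E.subtype
          have hQidx : ¬ q ∣ ((Q' : Subgroup ↥E).map E.subtype).relIndex E := by
            have hrel : ((Q' : Subgroup ↥E).map E.subtype).relIndex E =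
                (Q' : Subgroup ↥E).index := by
              rw [Subgroup.relIndex]
              congr 1
              exact Subgroup.comap_map_eq_self_of_injective (Subgroup.subtype_injective E) _
            rw [hrel]
            exact Q'.not_dvd_index
          have hQN : E ≤ Subgroup.normalizer (((Q' : Subgroup ↥E).map E.subtype : Subgroup G) : Set G) :=
            hs G hG M E hM hE q h22 hSq _ ⟨hQE, hQq, hQidx⟩
          have hyQ : y ∈ (Q' : Subgroup ↥E).map E.subtype :=
            ⟨⟨y, hyE⟩, hQ' (by rw [Subgroup.mem_subgroupOf]; exact Subgroup.mem_zpowers y), rfl⟩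
          have hdisj : Disjoint ((Q' : Subgroup ↥E).map E.subtype) A :=
            IsPGroup.disjoint_of_ne q p hqp _ A hQq hAp
          exact hyC (key_comm_of_disjoint hdisj hyQ hyN (hAE.trans hQN))
        · have hSq' : ∀ S : Sylow q G, ¬ IsMulCommutative (S : Subgroup G) :=
            fun S hS' => hSq ⟨S, hS'⟩
          obtain ⟨Aq, hTq⟩ := ht2 q h22
          have h19 := Cfsg.Agent.S1419.result hG M hM E hE q h22 hSq' Aq
            ⟨hTq.hAE, hTq.hA, hTq.hA2⟩
          have hpq : p ∈ ({q} : Set ℕ) := h19.1 ▸ hp2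
          exact hqp (Set.mem_singleton_iff.mp hpq).symm
  -- Step 4
  exact h2 G hG M E hM hE p A hT' hS y hyE q hq1 ⟨k, hk⟩ hno' hzC

end Cfsg.Agent.Lib.Helper87.FT12
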