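import Mathlib
import Cfsg.Prelude.Def_FusionSystem
import Cfsg.Prelude.Def_FusionComponents
import Cfsg.Agent.Lib.Helper88.FusQuot
import Cfsg.Agent.Lib.Helper91.KLGen
import Cfsg.Agent.Lib.Helper91.KLCtrlA
import Cfsg.Agent.Lib.Helper87.Fusion8
import Cfsg.Agent.S5098
import Cfsg.Agent.S5132
import Cfsg.Agent.S5134

set_option autoImplicit false
universe u

/-!
# Properness of the focal subgroup from control of transfer

If a positive characteristic functor `W` controls transfer in every saturated fusion system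
(the conclusion of the control-of-transfer theorem), then a saturated fusion system over a
nontrivial `p`-group `S` whose `Aut_F(S)` is a `p`-group has a proper focal subgroup.
-/

namespace Cfsg.Agent.Lib.Helper87

open Cfsg Cfsg.FusionSystem Cfsg.Agent.Lib.Helper90 Cfsg.Agent.Lib.Helper88
  Cfsg.Agent.Lib.Helper91

open scoped commutatorElement

section basics

variable {Ω : Type*} [Group Ω] {S : Subgroup Ω} {F : FusionSystem S}

theorem fp_mem_focal {P : Subgroup Ω} {f : Ω → Ω} (hf : Mor F P f) {x : Ω} (hx : x ∈ P) :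
    x⁻¹ * f x ∈ F.focalSubgroup := by
  obtain ⟨φ, hφ, hφf⟩ := hf
  exact Subgroup.subset_closure ⟨P, φ, ⟨x, hx⟩, hφ, by rw [hφf]⟩

theorem fp_focal_le {K : Subgroup Ω}
    (h : ∀ (P : Subgroup Ω) (f : Ω → Ω), Mor F P f → ∀ x ∈ P, x⁻¹ * f x ∈ K) :
    F.focalSubgroup ≤ K := by
  unfold FusionSystem.focalSubgroup
  rw [Subgroup.closure_le]
  rintro y ⟨P, φ, x, hφ, rfl⟩
  have h1 := h P (extFun P φ) (mor_of_hom hφ) x x.2
  rwa [extFun_apply] at h1

theorem fp_focal_le_top (F : FusionSystem S) : F.focalSubgroup ≤ S :=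
  fp_focal_le (fun _ _ hf _ hx => S.mul_mem (S.inv_mem (hf.le hx)) (hf.mem hx))

/-- If `S` is normal in a saturated `F` and `Aut_F(S)` is a `p`-group, the focal subgroup is
inside the derived subgroup of `S`, hence proper. -/
theorem fp_focal_lt_of_normal_top [Finite S] {p : ℕ} [Fact p.Prime] (hS : IsPGroup p S)
    (hF : F.IsSaturated p) (hS1 : S ≠ ⊥) (hn : F.IsNormal S)
    (haut : IsPGroup p (F.autGroup S)) : F.focalSubgroup < S := by
  have hfa : F.IsFullyAutomized p S :=
    (fa_rec_of_fullyNormalized hS hF (fullyNormalized_top F)).1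
  obtain ⟨-, R, hR⟩ := hfa
  have hRtop : (⊤ : Subgroup (F.autGroup S)) = (R : Subgroup (F.autGroup S)) :=
    R.is_maximal' (haut.to_subgroup ⊤) le_top
  have hle : F.focalSubgroup ≤ ⁅S, S⁆ := by
    apply fp_focal_le
    intro P f hf x hx
    obtain ⟨f', hf', hf'P, hf'S⟩ := extQ_of_isNormal hn hf
    have hPS : P ⊔ S = S := sup_eq_right.2 hf.le
    rw [hPS] at hf'
    obtain ⟨α, hα, hαf⟩ := exists_aut_of_mor hf' hf'S
    have hmem : (⟨α, hα⟩ : F.autGroup S) ∈ (R : Subgroup (F.autGroup S)) := by
      rw [← hRtop]; exact Subgroup.mem_top _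
    rw [hR, Subgroup.mem_subgroupOf] at hmem
    obtain ⟨a, ha, hαa⟩ := (Cfsg.Agent.Lib.Helper90.mem_autInducedBy_iff S S α).1 hmem
    have hxS : x ∈ S := hf.le hx
    have e : x⁻¹ * f x = ⁅x⁻¹, a⁆ := by
      rw [← hf'P x hx, ← hαf ⟨x, hxS⟩, hαa ⟨x, hxS⟩, commutatorElement_def]
      group
    rw [e]
    exact Subgroup.commutator_mem_commutator (S.inv_mem hxS) ha
  have : Nontrivial S := (Subgroup.nontrivial_iff_ne_bot S).2 hS1
  have : Group.IsNilpotent S := hS.isNilpotent
  have h1 : commutator S < ⊤ := Group.IsSolvable.commutator_lt_top_of_nontrivial S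
  have h2 : (commutator S).map S.subtype = ⁅S, S⁆ := Subgroup.map_subtype_commutator S
  refine lt_of_le_of_ne (fp_focal_le_top F) (fun heq => h1.ne ?_)
  rw [eq_top_iff]
  intro x _
  have hx : (x : Ω) ∈ ⁅S, S⁆ := hle (by rw [heq]; exact x.2)
  rw [← h2] at hx
  obtain ⟨y, hy, hyx⟩ := hx
  have : y = x := Subtype.ext hyx
  rw [← this]
  exact hy

variable {Ω' : Type*} [Group Ω'] {S' : Subgroup Ω'} {E : FusionSystem S'} {θ : S →* Ω'}

/-- The automizer of the whole group passes to quotient systems. -/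
theorem fp_isPGroup_aut_quot [Finite S] {p : ℕ} [Fact p.Prime]
    (hsm : F.IsSurjectiveMorphism E θ) (haut : IsPGroup p (F.autGroup S)) :
    IsPGroup p (E.autGroup S') := by
  have h1 : IsPGroup p (E.autGroup (imageAlong θ S)) :=
    haut.of_surjective (rho hsm.1 le_rfl) (rho_surjective hsm le_rfl (kerAlong_le θ))
  have h2 : imageAlong θ S = S' := by
    unfold imageAlong
    rw [Subgroup.subgroupOf_self, ← MonoidHom.range_eq_map]
    exact hsm.2.1
  exact h2 ▸ h1

/-- Properness of the focal subgroup lifts along surjective morphisms. -/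
theorem fp_focal_lt_of_quot (hsm : F.IsSurjectiveMorphism E θ) (h : E.focalSubgroup < S') :
    F.focalSubgroup < S := by
  refine lt_of_le_of_ne (fp_focal_le_top F) (fun heq => h.ne (le_antisymm h.le ?_))
  have key : ∀ y ∈ F.focalSubgroup, y ∈ S ∧ aFun θ y ∈ E.focalSubgroup := by
    intro y hy
    unfold FusionSystem.focalSubgroup at hy
    induction hy using Subgroup.closure_induction with
    | mem y hy =>
      obtain ⟨P, φ, x, hφ, rfl⟩ := hy
      have hf : Mor F P (extFun P φ) := mor_of_hom hφ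
      obtain ⟨f', hf', hff'⟩ := mor_image hsm.1 hf
      have hxS : (x : Ω) ∈ S := hf.le x.2
      have hφS : φ x ∈ S := by
        have h3 := hf.mem x.2
        rwa [extFun_apply] at h3
      refine ⟨S.mul_mem (S.inv_mem hxS) hφS, ?_⟩
      rw [aFun_mul θ (S.inv_mem hxS) hφS, aFun_inv θ hxS]
      have e := hff' x x.2
      rw [extFun_apply] at e
      rw [← e]
      exact fp_mem_focal hf' (mem_imageAlong.2 ⟨x, x.2, hxS, rfl⟩)
    | one => exact ⟨S.one_mem, by rw [aFun_one]; exact Subgroup.one_mem _⟩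
    | mul a b _ _ ha hb =>
      exact ⟨S.mul_mem ha.1 hb.1, by
        rw [aFun_mul θ ha.1 hb.1]; exact Subgroup.mul_mem _ ha.2 hb.2⟩
    | inv a _ ha =>
      exact ⟨S.inv_mem ha.1, by rw [aFun_inv θ ha.1]; exact Subgroup.inv_mem _ ha.2⟩
  intro y' hy'
  obtain ⟨y, hyS, rfl⟩ := exists_aFun_eq hsm hy'
  exact (key y (by rw [heq]; exact hyS)).2

/-- Automizers of a subsystem over the same group. -/
theorem fp_isPGroup_aut_sub {p : ℕ} (T : Subgroup Ω) (hT : T = S) (E : FusionSystem T)
    (hE : ∀ P : Subgroup Ω, E.Hom P ⊆ F.Hom P) (haut : IsPGroup p (F.autGroup S)) :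
    IsPGroup p (E.autGroup T) := by
  subst hT
  have hle : E.autGroup T ≤ F.autGroup T := by
    unfold FusionSystem.autGroup
    exact Subgroup.closure_mono (fun α hα => hE T hα)
  exact haut.to_le hle

end basics

/-- The induction: properness of the focal subgroup from control of transfer. -/
theorem fp_focal_lt_aux {p : ℕ} [Fact p.Prime]
    (W : ∀ (Q : Type u) [Group Q], Subgroup Q)
    (hW1 : ∀ (Q : Type u) [Group Q] [Finite Q], IsPGroup p Q → Nontrivial Q → W Q ≠ ⊥)
    (hW2 : ∀ (Q R : Type u) [Group Q] [Group R] [Finite Q], IsPGroup p Q →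
      ∀ φ : Q ≃* R, (W Q).map φ.toMonoidHom = W R)
    (H : ∀ {Ω : Type u} [Group Ω] {S : Subgroup Ω} [Finite S], IsPGroup p S →
      ∀ (F : FusionSystem S), F.IsSaturated p →
      ∀ (N : FusionSystem (normalizerIn S ((W ↥S).map S.subtype))),
        F.IsNormalizerSystem ((W ↥S).map S.subtype) N → N.focalSubgroup = F.focalSubgroup) :
    ∀ (n : ℕ) (Ω : Type u) [Group Ω] (S : Subgroup Ω) [Finite S] (F : FusionSystem S),
      Nat.card S = n → IsPGroup p S → F.IsSaturated p → S ≠ ⊥ → IsPGroup p (F.autGroup S) →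
      F.focalSubgroup < S := by
  intro n
  induction n using Nat.strong_induction_on with
  | _ n ih =>
    intro Ω _ S _ F hn hS hF hS1 haut
    -- the case of a nontrivial core, for systems over groups of order `n`
    have key : ∀ (T : Subgroup Ω) [Finite T] (E : FusionSystem T), Nat.card T = n →
        IsPGroup p T → E.IsSaturated p → E.core ≠ ⊥ → IsPGroup p (E.autGroup T) →
        E.focalSubgroup < T := by
      intro T _ E hnT hT hE hcore hautE
      have hcn : E.IsNormal E.core := isNormal_core E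
      by_cases hc : E.core = T
      · have hTn : E.IsNormal T := by rwa [hc] at hcn
        have hT1 : T ≠ ⊥ := by rw [← hc]; exact hcore
        exact fp_focal_lt_of_normal_top hT hE hT1 hTn hautE
      · have := normal_subgroupOf_core E
        have hsc := Cfsg.Agent.Lib.Helper90.stronglyClosed_of_isNormal hcn
        obtain ⟨E', hE'⟩ := Cfsg.Agent.S5132.result p hT E E.core hsc
        have hsm := Cfsg.Agent.S5134.result p hT E hE E.core hsc _ E' hE'
        have hE'sat : E'.IsSaturated p := isSaturated_of_surjectiveMorphism hT hE hsm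
        have hlt : Nat.card (⊤ : Subgroup (T ⧸ E.core.subgroupOf T)) < n := by
          rw [← hnT]; exact card_quot_core_lt E hcore
        have haut' := fp_isPGroup_aut_quot hsm hautE
        have hne : (⊤ : Subgroup (T ⧸ E.core.subgroupOf T)) ≠ ⊥ := by
          intro htop
          apply hc
          apply le_antisymm hcn.1
          intro x hx
          have h1 : (QuotientGroup.mk' (E.core.subgroupOf T)) ⟨x, hx⟩ ∈
              (⊤ : Subgroup (T ⧸ E.core.subgroupOf T)) := Subgroup.mem_top _
          rw [htop, Subgroup.mem_bot] at h1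
          exact (hE'.2.1 ⟨x, hx⟩).1 h1
        have hp' : IsPGroup p (⊤ : Subgroup (T ⧸ E.core.subgroupOf T)) :=
          (hT.to_quotient _).to_subgroup ⊤
        have h3 := ih _ hlt (T ⧸ E.core.subgroupOf T) ⊤ E' rfl hp' hE'sat hne haut'
        exact fp_focal_lt_of_quot hsm h3
    -- reduction to the normalizer of `W(S)`
    have hwS : wOf W S ≤ S := wOf_le W S
    have hwn : S ≤ Subgroup.normalizer (wOf W S : Set Ω) :=
      fun s hs => wOf_normalizer W hW2 hS (Subgroup.le_normalizer hs)
    have hw1 : wOf W S ≠ ⊥ := wOf_ne_bot W hW1 hS hS1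
    have hNS : normalizerIn S (wOf W S) = S := normalizerIn_eq_of_normal hwn
    have hN : F.IsNormalizerSystem (wOf W S) (normalizerSys F (wOf W S) hwS) :=
      normalizerSys_isNormalizerSystem hwS
    have hfoc : (normalizerSys F (wOf W S) hwS).focalSubgroup = F.focalSubgroup :=
      H hS F hF (normalizerSys F (wOf W S) hwS) hN
    have hNsat : (normalizerSys F (wOf W S) hwS).IsSaturated p :=
      Cfsg.Agent.S5098.result p hS F hF (wOf W S) (fullyNormalized_of_normal hwS hwn) _ hN
    have hNn : (normalizerSys F (wOf W S) hwS).IsNormal (wOf W S) :=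
      isNormal_normalizerSys hwS hN
    have : Finite (normalizerIn S (wOf W S)) :=
      Cfsg.Agent.Lib.Helper90.finite_of_le (normalizerIn_le_S S _)
    have hcore : (normalizerSys F (wOf W S) hwS).core ≠ ⊥ := by
      intro hbot
      apply hw1
      have h1 := le_core hNn
      rw [hbot] at h1
      exact le_bot_iff.1 h1
    have hsub : ∀ P : Subgroup Ω, (normalizerSys F (wOf W S) hwS).Hom P ⊆ F.Hom P := by
      intro P φ hφ
      rw [hN P] at hφ
      exact hφ.1
    have h4 := key (normalizerIn S (wOf W S)) (normalizerSys F (wOf W S) hwS)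
      (by rw [hNS]; exact hn) (hS.to_le (normalizerIn_le_S S _)) hNsat hcore
      (fp_isPGroup_aut_sub _ hNS _ hsub haut)
    rw [hfoc, hNS] at h4
    exact h4

/-- Properness of the focal subgroup from control of transfer. -/
theorem fp_focal_lt_of_ctrl {p : ℕ} [Fact p.Prime]
    (W : ∀ (Q : Type u) [Group Q], Subgroup Q)
    (hW1 : ∀ (Q : Type u) [Group Q] [Finite Q], IsPGroup p Q → Nontrivial Q → W Q ≠ ⊥)
    (hW2 : ∀ (Q R : Type u) [Group Q] [Group R] [Finite Q], IsPGroup p Q →
      ∀ φ : Q ≃* R, (W Q).map φ.toMonoidHom = W R)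
    (H : ∀ {Ω : Type u} [Group Ω] {S : Subgroup Ω} [Finite S], IsPGroup p S →
      ∀ (F : FusionSystem S), F.IsSaturated p →
      ∀ (N : FusionSystem (normalizerIn S ((W ↥S).map S.subtype))),
        F.IsNormalizerSystem ((W ↥S).map S.subtype) N → N.focalSubgroup = F.focalSubgroup)
    {Ω : Type u} [Group Ω] {S : Subgroup Ω} [Finite S] (hS : IsPGroup p S)
    (F : FusionSystem S) (hF : F.IsSaturated p) (hS1 : S ≠ ⊥)
    (haut : IsPGroup p (F.autGroup S)) : F.focalSubgroup < S :=
  fp_focal_lt_aux W hW1 hW2 H _ Ω S F rfl hS hF hS1 haut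

end Cfsg.Agent.Lib.Helper87
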