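import Cfsg.Agent.Lib.Helper87.CharMult

set_option autoImplicit false

/-!
For a saturated fusion system `F` over a finite `p`-group `S`: `foc(F) ∩ Z(F) = S' ∩ Z(F)`.
-/

namespace Cfsg.Agent.Lib.Helper87

open Cfsg Cfsg.FusionSystem Cfsg.Agent.Lib.Helper90

variable {Ω : Type*} [Group Ω] {S : Subgroup Ω}

/-- The focal subgroup is contained in the kernel of the transfer of any stable multiplicity
function. -/
theorem focal_le_ker [Finite S] {p : ℕ} [Fact p.Prime] (hS : IsPGroup p S)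
    {F : FusionSystem S} (hF : F.IsSaturated p) {A : Type*} [CommGroup A] [Finite A]
    (lam : ↥S →* A) {m : Subgroup (↥S × ↥S) → ℕ} (hsupp : ∀ E, m E ≠ 0 → IsG F E)
    (hst : ∀ D D', RelG F D D' → fixm m D = fixm m D') :
    F.focalSubgroup ≤ (bT lam m).ker.map S.subtype := by
  unfold FusionSystem.focalSubgroup
  rw [Subgroup.closure_le]
  rintro y ⟨P, φ, x, hφ, rfl⟩
  have hf := mor_of_hom hφ
  have hxS : (x : Ω) ∈ S := hf.le x.2
  have hyS : φ x ∈ S := (F.le_of_mem hφ).2 x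
  refine ⟨(⟨x, hxS⟩ : ↥S)⁻¹ * ⟨φ x, hyS⟩, ?_, rfl⟩
  rw [SetLike.mem_coe, MonoidHom.mem_ker, map_mul, map_inv, inv_mul_eq_one]
  exact bT_stable hS hF lam hsupp hst hf (x := ⟨x, hxS⟩) (y := ⟨φ x, hyS⟩) x.2
    (by rw [extFun_apply])

theorem focal_inf_center [Finite S] (p : ℕ) [Fact p.Prime] (hS : IsPGroup p S)
    (F : FusionSystem S) (hF : F.IsSaturated p) :
    F.focalSubgroup ⊓ F.center = ⁅(S : Subgroup Ω), (S : Subgroup Ω)⁆ ⊓ F.center := by
  classical
  apply le_antisymm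
  · rintro z ⟨hzf, hzc⟩
    refine ⟨?_, hzc⟩
    obtain ⟨m, hsupp, hst, hN⟩ := exists_char_mult hS hF
    let _ : Fintype (Subgroup (↥S × ↥S)) := Fintype.ofFinite _
    rw [finsum_eq_sum_of_fintype] at hN
    have : Finite (Abelianization ↥S) :=
      Finite.of_surjective _ (QuotientGroup.mk_surjective (s := commutator ↥S))
    obtain ⟨z', hz', hz'z⟩ := focal_le_ker hS hF (Abelianization.of (G := ↥S)) hsupp hst hzf
    have hzS := center_le F hzc
    have hz'eq : z' = ⟨z, hzS⟩ := Subtype.ext hz'z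
    rw [hz'eq, SetLike.mem_coe, MonoidHom.mem_ker, bT_center _ hsupp hzc] at hz'
    obtain ⟨k, hk⟩ := hS ⟨z, hzS⟩
    have h1 : (Abelianization.of (G := ↥S)) ⟨z, hzS⟩ ^ (p ^ k) = 1 := by
      rw [← map_pow, hk, map_one]
    have h2 := Nat.dvd_gcd (orderOf_dvd_of_pow_eq_one hz') (orderOf_dvd_of_pow_eq_one h1)
    have hp : p.Prime := Fact.out
    have h3 : Nat.gcd (∑ E : Subgroup (↥S × ↥S), m E * (pE E).index) (p ^ k) = 1 :=
      Nat.Coprime.pow_right k ((Nat.Prime.coprime_iff_not_dvd hp).mpr hN).symm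
    rw [h3, Nat.dvd_one, orderOf_eq_one_iff] at h2
    have h4 : (⟨z, hzS⟩ : ↥S) ∈ commutator ↥S := by
      rw [← Abelianization.ker_of]
      exact h2
    have h5 : (commutator ↥S).map S.subtype = ⁅(S : Subgroup Ω), (S : Subgroup Ω)⁆ := by
      rw [commutator_def, Subgroup.map_commutator, ← MonoidHom.range_eq_map, Subgroup.range_subtype]
    rw [← h5]
    exact ⟨_, h4, rfl⟩
  · apply inf_le_inf_right
    rw [Subgroup.commutator_le]
    intro a ha b hb
    apply Subgroup.subset_closure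
    refine ⟨S, Cfsg.conjHom S b, ⟨a⁻¹, S.inv_mem ha⟩, F.conj_mem le_rfl hb, ?_⟩
    show a * b * a⁻¹ * b⁻¹ = (a⁻¹)⁻¹ * (b * a⁻¹ * b⁻¹)
    group

end Cfsg.Agent.Lib.Helper87
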