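import Cfsg.Agent.Lib.Helper87.BisetInd
import Cfsg.Agent.Lib.Helper90.Basic

set_option autoImplicit false

/-!
Graph subgroups of `S × S` for a fusion system `F` over `S`: the subgroups
`Δ(P, f) = {(x, f x) : x ∈ P}` for the maps `f` of the system.  For a saturated system they
satisfy the hypotheses `BisetHyp` of the abstract construction in `BisetInd`.
-/

namespace Cfsg.Agent.Lib.Helper87

open Cfsg Cfsg.FusionSystem Cfsg.Agent.Lib.Helper90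

variable {Ω : Type*} [Group Ω] {S : Subgroup Ω} {F : FusionSystem S}
  {P Q : Subgroup Ω} {f g : Ω → Ω}

/-- The graph of `f` on `P`, as a subgroup of `S × S`. -/
def gr (S P : Subgroup Ω) (f : Ω → Ω) : Subgroup (↥S × ↥S) :=
  Subgroup.closure {x : ↥S × ↥S | (x.1 : Ω) ∈ P ∧ f x.1 = x.2}

theorem mem_gr (h : Mor F P f) {x : ↥S × ↥S} :
    x ∈ gr S P f ↔ (x.1 : Ω) ∈ P ∧ f x.1 = x.2 := by
  constructor
  · intro hx
    unfold gr at hx
    induction hx using Subgroup.closure_induction with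
    | mem y hy => exact hy
    | one => exact ⟨P.one_mem, by simpa using h.map_one⟩
    | mul y z _ _ hy hz =>
      refine ⟨P.mul_mem hy.1 hz.1, ?_⟩
      have := h.map_mul hy.1 hz.1
      simp only [Prod.fst_mul, Prod.snd_mul, Subgroup.coe_mul]
      rw [this, hy.2, hz.2]
    | inv y _ hy =>
      refine ⟨P.inv_mem hy.1, ?_⟩
      have := h.map_inv hy.1
      simp only [Prod.fst_inv, Prod.snd_inv, Subgroup.coe_inv]
      rw [this, hy.2]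
  · intro hx
    exact Subgroup.subset_closure hx

/-- The first projection of a subgroup of `S × S`, as a subgroup of the ambient group. -/
def pr1 (D : Subgroup (↥S × ↥S)) : Subgroup Ω :=
  (D.map (MonoidHom.fst ↥S ↥S)).map S.subtype

theorem mem_pr1 {D : Subgroup (↥S × ↥S)} {a : Ω} : a ∈ pr1 D ↔ ∃ x ∈ D, (x.1 : Ω) = a := by
  unfold pr1
  constructor
  · rintro ⟨y, ⟨x, hx, rfl⟩, rfl⟩
    exact ⟨x, hx, rfl⟩
  · rintro ⟨x, hx, rfl⟩
    exact ⟨x.1, ⟨x, hx, rfl⟩, rfl⟩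

theorem pr1_mono {D E : Subgroup (↥S × ↥S)} (h : D ≤ E) : pr1 D ≤ pr1 E := by
  intro a ha
  obtain ⟨x, hx, rfl⟩ := mem_pr1.mp ha
  exact mem_pr1.mpr ⟨x, h hx, rfl⟩

theorem pr1_le (D : Subgroup (↥S × ↥S)) : pr1 D ≤ S := by
  intro a ha
  obtain ⟨x, _, rfl⟩ := mem_pr1.mp ha
  exact x.1.2

theorem mk_mem_gr (h : Mor F P f) {x : Ω} (hx : x ∈ P) :
    ((⟨x, h.le hx⟩, ⟨f x, h.mem hx⟩) : ↥S × ↥S) ∈ gr S P f :=
  (mem_gr h).mpr ⟨hx, rfl⟩

theorem pr1_gr (h : Mor F P f) : pr1 (gr S P f) = P := by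
  ext a
  rw [mem_pr1]
  constructor
  · rintro ⟨x, hx, rfl⟩
    exact ((mem_gr h).mp hx).1
  · intro ha
    exact ⟨_, mk_mem_gr h ha, rfl⟩

theorem card_gr (h : Mor F P f) : Nat.card (gr S P f) = Nat.card P := by
  apply Nat.card_congr
  refine
    { toFun := fun x => ⟨x.1.1, ((mem_gr h).mp x.2).1⟩
      invFun := fun a => ⟨_, mk_mem_gr h a.2⟩
      left_inv := ?_
      right_inv := ?_ }
  · rintro ⟨x, hx⟩
    apply Subtype.ext
    apply Prod.ext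
    · rfl
    · apply Subtype.ext
      exact ((mem_gr h).mp hx).2
  · rintro ⟨a, ha⟩
    rfl

theorem gr_congr (hfg : ∀ x ∈ P, f x = g x) : gr S P f = gr S P g := by
  unfold gr
  congr 1
  ext x
  constructor
  · rintro ⟨h1, h2⟩
    exact ⟨h1, by rw [← hfg _ h1]; exact h2⟩
  · rintro ⟨h1, h2⟩
    exact ⟨h1, by rw [hfg _ h1]; exact h2⟩

/-- `D` is the graph of a map of the system. -/
def IsG (F : FusionSystem S) (D : Subgroup (↥S × ↥S)) : Prop :=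
  ∃ (P : Subgroup Ω) (f : Ω → Ω), Mor F P f ∧ D = gr S P f

/-- Two graphs are related when their sources are conjugate in the system. -/
def RelG (F : FusionSystem S) (D D' : Subgroup (↥S × ↥S)) : Prop :=
  IsG F D ∧ IsG F D' ∧ F.IsConj (pr1 D) (pr1 D')

theorem isConj_symm' (h : F.IsConj P Q) : F.IsConj Q P := by
  obtain ⟨c, hc, himg⟩ := isConj_iff.mp h
  rw [Cfsg.Agent.Lib.Helper90.isConj_iff]
  refine ⟨invFn P c, ?_, ?_⟩
  · rw [← himg]; exact hc.inv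
  · rw [← himg]; exact hc.img_inv

theorem isConj_trans' {R : Subgroup Ω} (h : F.IsConj P Q) (h' : F.IsConj Q R) :
    F.IsConj P R := by
  obtain ⟨c, hc, himg⟩ := isConj_iff.mp h
  obtain ⟨c', hc', himg'⟩ := isConj_iff.mp h'
  rw [Cfsg.Agent.Lib.Helper90.isConj_iff]
  have hPQ : ∀ x ∈ P, c x ∈ Q := fun x hx => by rw [← himg]; exact hc.mem_img_of_mem hx
  refine ⟨c' ∘ c, hc.comp hc' hPQ, ?_⟩
  rw [hc.img_comp hc' hPQ, himg, himg']

theorem isConj_of_mor (h : Mor F P f) : F.IsConj P (img P f) :=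
  isConj_iff.mpr ⟨f, h, rfl⟩

/-- Subgroups of graphs are graphs. -/
theorem isG_of_le {D E : Subgroup (↥S × ↥S)} (hE : IsG F E) (hDE : D ≤ E) : IsG F D := by
  obtain ⟨P, f, hf, rfl⟩ := hE
  have hle : pr1 D ≤ P := by
    have := pr1_mono hDE
    rwa [pr1_gr hf] at this
  have hf' : Mor F (pr1 D) f := hf.restrict hle
  refine ⟨pr1 D, f, hf', ?_⟩
  ext x
  rw [mem_gr hf']
  constructor
  · intro hx
    exact ⟨mem_pr1.mpr ⟨x, hx, rfl⟩, ((mem_gr hf).mp (hDE hx)).2⟩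
  · rintro ⟨h1, h2⟩
    obtain ⟨y, hy, hy1⟩ := mem_pr1.mp h1
    have hy2 := ((mem_gr hf).mp (hDE hy)).2
    have : y = x := by
      apply Prod.ext
      · exact Subtype.ext hy1
      · apply Subtype.ext
        rw [← hy2, ← h2, hy1]
    rw [← this]
    exact hy

/-- Transport of a graph along a pair of maps of the system. -/
theorem isG_prod_map {A B : Subgroup Ω} {α θ : Ω → Ω} (hα : Mor F A α) (hθ : Mor F B θ)
    {E E' : Subgroup (↥S × ↥S)} (hE : ∀ x ∈ E, (x.1 : Ω) ∈ A ∧ (x.2 : Ω) ∈ B)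
    (hE' : ∀ z : ↥S × ↥S, z ∈ E' ↔ ∃ x ∈ E, (z.1 : Ω) = α x.1 ∧ (z.2 : Ω) = θ x.2)
    (hG : IsG F E) : IsG F E' ∧ RelG F E E' := by
  obtain ⟨P₁, f₁, hf₁, rfl⟩ := hG
  have hP₁A : P₁ ≤ A := by
    intro x hx
    exact (hE _ (mk_mem_gr hf₁ hx)).1
  have hf₁B : ∀ x ∈ P₁, f₁ x ∈ B := by
    intro x hx
    exact (hE _ (mk_mem_gr hf₁ hx)).2
  have hα₁ : Mor F P₁ α := hα.restrict hP₁A
  have hinv : Mor F (img P₁ α) (invFn P₁ α) := hα₁.inv
  have h2 : Mor F (img P₁ α) (f₁ ∘ invFn P₁ α) :=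
    hinv.comp hf₁ (fun y hy => hα₁.invFn_mem hy)
  have h3 : Mor F (img P₁ α) (θ ∘ (f₁ ∘ invFn P₁ α)) :=
    h2.comp hθ (fun y hy => hf₁B _ (hα₁.invFn_mem hy))
  have hEq : E' = gr S (img P₁ α) (θ ∘ (f₁ ∘ invFn P₁ α)) := by
    ext z
    rw [hE', mem_gr h3]
    constructor
    · rintro ⟨x, hx, hz1, hz2⟩
      obtain ⟨hx1, hx2⟩ := (mem_gr hf₁).mp hx
      refine ⟨by rw [hz1]; exact hα₁.mem_img_of_mem hx1, ?_⟩
      rw [hz1, hz2]
      simp only [Function.comp]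
      rw [hα₁.invFn_apply hx1, hx2]
    · rintro ⟨hz1, hz2⟩
      obtain ⟨x, hx, hxz⟩ := hα₁.mem_img.mp hz1
      refine ⟨_, mk_mem_gr hf₁ hx, hxz.symm, ?_⟩
      rw [← hz2]
      simp only [Function.comp]
      rw [← hxz, hα₁.invFn_apply hx]
  have hG' : IsG F E' := ⟨_, _, h3, hEq⟩
  refine ⟨hG', ⟨P₁, f₁, hf₁, rfl⟩, hG', ?_⟩
  rw [pr1_gr hf₁, hEq, pr1_gr h3]
  exact isConj_of_mor hα₁

theorem img_conj_eq_cj (F : FusionSystem S) (hP : P ≤ S) {a : Ω} (ha : a ∈ S) :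
    img P (fun x => a * x * a⁻¹) = cj a P := by
  ext y
  rw [(mor_conj F hP ha).mem_img, mem_cj]
  constructor
  · rintro ⟨x, hx, rfl⟩
    have : a⁻¹ * (a * x * a⁻¹) * a = x := by group
    rw [this]
    exact hx
  · intro h
    exact ⟨_, h, by group⟩

/-- Conjugates of graphs are graphs, in the same class. -/
theorem relG_cj (g : ↥S × ↥S) {D : Subgroup (↥S × ↥S)} (hD : IsG F D) : RelG F D (cj g D) := by
  obtain ⟨P, f, hf, rfl⟩ := hD
  have ha : (g.1 : Ω) ∈ S := g.1.2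
  have hb : (g.2 : Ω) ∈ S := g.2.2
  have hP'S : cj (g.1 : Ω) P ≤ S := by
    intro x hx
    have h1 : (g.1 : Ω)⁻¹ * x * g.1 ∈ S := hf.le (mem_cj.mp hx)
    have : x = (g.1 : Ω) * ((g.1 : Ω)⁻¹ * x * g.1) * (g.1 : Ω)⁻¹ := by group
    rw [this]
    exact S.mul_mem (S.mul_mem ha h1) (S.inv_mem ha)
  have h1 : Mor F (cj (g.1 : Ω) P) (fun x => (g.1 : Ω)⁻¹ * x * g.1) := by
    refine (mor_conj F hP'S (S.inv_mem ha)).congr ?_
    intro x _
    simp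
  have h2 := h1.comp hf (fun x hx => mem_cj.mp hx)
  have h3 : Mor F (img P f) (fun y => (g.2 : Ω) * y * (g.2 : Ω)⁻¹) := mor_conj F hf.img_le hb
  have h4 : Mor F (cj (g.1 : Ω) P)
      (fun x => (g.2 : Ω) * f ((g.1 : Ω)⁻¹ * x * g.1) * (g.2 : Ω)⁻¹) :=
    h2.comp h3 (fun x hx => hf.mem_img_of_mem (mem_cj.mp hx))
  have hEq : cj g (gr S P f) =
      gr S (cj (g.1 : Ω) P) (fun x => (g.2 : Ω) * f ((g.1 : Ω)⁻¹ * x * g.1) * (g.2 : Ω)⁻¹) := by
    ext x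
    rw [mem_cj, mem_gr hf, mem_gr h4, mem_cj]
    have e1 : (((g⁻¹ * x * g).1 : ↥S) : Ω) = (g.1 : Ω)⁻¹ * x.1 * g.1 := by simp
    have e2 : (((g⁻¹ * x * g).2 : ↥S) : Ω) = (g.2 : Ω)⁻¹ * x.2 * g.2 := by simp
    rw [e1, e2]
    constructor
    · rintro ⟨h5, h6⟩
      refine ⟨h5, ?_⟩
      rw [h6]
      group
    · rintro ⟨h5, h6⟩
      refine ⟨h5, ?_⟩
      rw [← h6]
      group
  refine ⟨⟨P, f, hf, rfl⟩, ⟨_, _, h4, hEq⟩, ?_⟩
  rw [pr1_gr hf, hEq, pr1_gr h4, ← img_conj_eq_cj F hf.le ha]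
  exact isConj_of_mor (mor_conj F hf.le ha)

/-- What it means to normalize a graph. -/
theorem normalizer_gr_facts [Finite S] (hf : Mor F P f) {n : ↥S × ↥S}
    (hn : n ∈ Subgroup.normalizer ((gr S P f : Subgroup (↥S × ↥S)) : Set (↥S × ↥S))) :
    (n.1 : Ω) ∈ Subgroup.normalizer (P : Set Ω) ∧ (n.2 : Ω) ∈ normalizerIn S (img P f) ∧
      ∀ x ∈ P, f ((n.1 : Ω) * x * (n.1 : Ω)⁻¹) = (n.2 : Ω) * f x * (n.2 : Ω)⁻¹ := by
  have key : ∀ x ∈ P, (n.1 : Ω) * x * (n.1 : Ω)⁻¹ ∈ P ∧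
      f ((n.1 : Ω) * x * (n.1 : Ω)⁻¹) = (n.2 : Ω) * f x * (n.2 : Ω)⁻¹ := by
    intro x hx
    have h1 := (Subgroup.mem_normalizer_iff.mp hn _).mp (mk_mem_gr hf hx)
    have h2 := (mem_gr hf).mp h1
    simpa using h2
  have : Finite P := finite_of_le hf.le
  have : Finite (img P f) := finite_of_le hf.img_le
  refine ⟨mem_normalizer_of_finite (fun x hx => (key x hx).1), ⟨n.2.2, ?_⟩, fun x hx => (key x hx).2⟩
  apply mem_normalizer_of_finite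
  intro y hy
  obtain ⟨x, hx, rfl⟩ := hf.mem_img.mp hy
  rw [← (key x hx).2]
  exact hf.mem_img_of_mem (key x hx).1

theorem sat_aux [Finite S] {p : ℕ} [Fact p.Prime] (hS : IsPGroup p S)
    {P₀ P' : Subgroup Ω} {f' : Ω → Ω} (hfa : F.IsFullyAutomized p P₀) (hrec : F.IsReceptive P₀)
    (hf' : Mor F P' f') (hconj' : F.IsConj P' P₀)
    (N' : Subgroup (↥S × ↥S))
    (hN' : N' = Subgroup.normalizer ((gr S P' f' : Subgroup (↥S × ↥S)) : Set (↥S × ↥S))) :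
    ∃ ψ : ↥N' →* ↥S × ↥S, Function.Injective ψ ∧
      (∀ x, ψ x ∈ Subgroup.normalizer ((gr S P₀ id : Subgroup (↥S × ↥S)) : Set (↥S × ↥S))) ∧
      ((gr S P' f').subgroupOf N').map ψ = gr S P₀ id ∧
      ∀ E : Subgroup (↥S × ↥S), E ≤ N' →
        (IsG F E ↔ IsG F ((E.subgroupOf N').map ψ)) ∧
        (IsG F E → RelG F E ((E.subgroupOf N').map ψ)) := by
  have hid : Mor F P₀ id := mor_id F hfa.1
  obtain ⟨c, hc, hcimg⟩ := Cfsg.Agent.Lib.Helper90.isConj_iff.mp hconj'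
  have hinv : Mor F (img P' f') (invFn P' f') := hf'.inv
  have hc' : Mor F (img P' f') (c ∘ invFn P' f') :=
    hinv.comp hc (fun y hy => hf'.invFn_mem hy)
  have hc'img : img (img P' f') (c ∘ invFn P' f') = P₀ := by
    rw [hinv.img_comp hc (fun y hy => hf'.invFn_mem hy), hf'.img_inv, hcimg]
  obtain ⟨θ, hθ, hθimg⟩ := exists_normalizer_map hS hfa hrec hc' hc'img
  have hRle : img P' f' ≤ normalizerIn S (img P' f') := le_normalizerIn hf'.img_le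
  have hfR : ∀ x ∈ P', f' x ∈ normalizerIn S (img P' f') :=
    fun x hx => hRle (hf'.mem_img_of_mem hx)
  have hα₀ : Mor F P' (θ ∘ f') := hf'.comp hθ hfR
  have hα₀img : img P' (θ ∘ f') = P₀ := by
    rw [hf'.img_comp hθ hfR, hθimg]
  have hfacts : ∀ n ∈ N', (n.1 : Ω) ∈ Subgroup.normalizer (P' : Set Ω) ∧
      (n.2 : Ω) ∈ normalizerIn S (img P' f') ∧
      ∀ x ∈ P', f' ((n.1 : Ω) * x * (n.1 : Ω)⁻¹) = (n.2 : Ω) * f' x * (n.2 : Ω)⁻¹ := by
    intro n hn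
    exact normalizer_gr_facts hf' (hN' ▸ hn)
  have hDN : gr S P' f' ≤ N' := hN' ▸ Subgroup.le_normalizer
  have hP'H : P' ≤ pr1 N' := by
    intro x hx
    exact mem_pr1.mpr ⟨_, hDN (mk_mem_gr hf' hx), rfl⟩
  -- the relation between conjugation and `θ`
  have hθconj : ∀ n ∈ N', ∀ x ∈ P', θ (f' ((n.1 : Ω) * x * (n.1 : Ω)⁻¹)) =
      θ (n.2 : Ω) * θ (f' x) * (θ (n.2 : Ω))⁻¹ := by
    intro n hn x hx
    obtain ⟨-, h2, h3⟩ := hfacts n hn
    rw [h3 x hx, hθ.map_mul (mul_mem h2 (hfR x hx)) (inv_mem h2), hθ.map_mul h2 (hfR x hx),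
      hθ.map_inv h2]
  obtain ⟨α, hα, hαα₀⟩ := receptive_extend hrec hα₀ hα₀img (pr1 N') hP'H (by
    intro a ha
    obtain ⟨n, hn, rfl⟩ := mem_pr1.mp ha
    obtain ⟨h1, h2, -⟩ := hfacts n hn
    exact ⟨n.1.2, h1, θ n.2, hθ.mem h2, fun x hx => hθconj n hn x hx⟩)
  have hH : ∀ n : ↥N', ((n : ↥S × ↥S).1 : Ω) ∈ pr1 N' := fun n => mem_pr1.mpr ⟨n.1, n.2, rfl⟩
  have hB : ∀ n : ↥N', ((n : ↥S × ↥S).2 : Ω) ∈ normalizerIn S (img P' f') :=
    fun n => (hfacts n.1 n.2).2.1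
  let ψ : ↥N' →* ↥S × ↥S := MonoidHom.mk'
    (fun n => ((⟨α ((n : ↥S × ↥S).1 : Ω), hα.mem (hH n)⟩ : ↥S),
      (⟨θ ((n : ↥S × ↥S).2 : Ω), hθ.mem (hB n)⟩ : ↥S)))
    (by
      intro n n'
      apply Prod.ext
      · apply Subtype.ext
        simpa using hα.map_mul (hH n) (hH n')
      · apply Subtype.ext
        simpa using hθ.map_mul (hB n) (hB n'))
  have hψ1 : ∀ n : ↥N', ((ψ n).1 : Ω) = α ((n : ↥S × ↥S).1 : Ω) := fun n => rfl
  have hψ2 : ∀ n : ↥N', ((ψ n).2 : Ω) = θ ((n : ↥S × ↥S).2 : Ω) := fun n => rfl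
  have hinj : Function.Injective ψ := by
    intro n n' hnn'
    apply Subtype.ext
    apply Prod.ext
    · apply Subtype.ext
      apply hα.inj (hH n) (hH n')
      rw [← hψ1, ← hψ1, hnn']
    · apply Subtype.ext
      apply hθ.inj (hB n) (hB n')
      rw [← hψ2, ← hψ2, hnn']
  -- conjugation by `ψ n` on the diagonal of `P₀`
  have hconjψ : ∀ n : ↥N', ∀ x ∈ P', α ((n : ↥S × ↥S).1 : Ω) * θ (f' x) * (α ((n : ↥S × ↥S).1 : Ω))⁻¹ =
      θ (f' (((n : ↥S × ↥S).1 : Ω) * x * ((n : ↥S × ↥S).1 : Ω)⁻¹)) := by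
    intro n x hx
    have hx' : ((n : ↥S × ↥S).1 : Ω) * x * ((n : ↥S × ↥S).1 : Ω)⁻¹ ∈ P' :=
      conj_mem_of_mem_normalizer (hfacts n.1 n.2).1 hx
    have e1 := hαα₀ _ hx'
    have e2 := hαα₀ x hx
    simp only [Function.comp] at e1 e2
    rw [← e1, ← e2, hα.map_mul (mul_mem (hH n) (hP'H hx)) (inv_mem (hH n)),
      hα.map_mul (hH n) (hP'H hx), hα.map_inv (hH n)]
  refine ⟨ψ, hinj, ?_, ?_, ?_⟩
  · intro n
    have : Finite (gr S P₀ id : Subgroup (↥S × ↥S)) := inferInstance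
    apply mem_normalizer_of_finite
    intro d hd
    obtain ⟨hd1, hd2⟩ := (mem_gr hid).mp hd
    rw [← hα₀img] at hd1
    obtain ⟨x, hx, hxd⟩ := hα₀.mem_img.mp hd1
    simp only [Function.comp] at hxd
    have hx' : ((n : ↥S × ↥S).1 : Ω) * x * ((n : ↥S × ↥S).1 : Ω)⁻¹ ∈ P' :=
      conj_mem_of_mem_normalizer (hfacts n.1 n.2).1 hx
    rw [mem_gr hid]
    have e1 : (((ψ n * d * (ψ n)⁻¹).1 : ↥S) : Ω) =
        θ (f' (((n : ↥S × ↥S).1 : Ω) * x * ((n : ↥S × ↥S).1 : Ω)⁻¹)) := by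
      simp only [Prod.fst_mul, Prod.fst_inv, Subgroup.coe_mul, Subgroup.coe_inv, hψ1]
      rw [← hxd, hconjψ n x hx]
    have e2 : (((ψ n * d * (ψ n)⁻¹).2 : ↥S) : Ω) =
        θ (f' (((n : ↥S × ↥S).1 : Ω) * x * ((n : ↥S × ↥S).1 : Ω)⁻¹)) := by
      simp only [Prod.snd_mul, Prod.snd_inv, Subgroup.coe_mul, Subgroup.coe_inv, hψ2]
      have hd2' : (d.2 : Ω) = θ (f' x) := by
        rw [← hd2, ← hxd]
        rfl
      rw [hd2', hθconj n.1 n.2 x hx]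
    refine ⟨?_, ?_⟩
    · rw [e1, ← hα₀img]
      exact hα₀.mem_img_of_mem hx'
    · rw [e2]
      simp only [id]
      exact e1
  · ext z
    rw [mem_gr hid]
    constructor
    · rintro ⟨n, hn, rfl⟩
      have hn' : (n : ↥S × ↥S) ∈ gr S P' f' := hn
      obtain ⟨hn1, hn2⟩ := (mem_gr hf').mp hn'
      have e1 : ((ψ n).1 : Ω) = θ (f' ((n : ↥S × ↥S).1 : Ω)) := by
        rw [hψ1]
        exact hαα₀ _ hn1
      have e2 : ((ψ n).2 : Ω) = θ (f' ((n : ↥S × ↥S).1 : Ω)) := by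
        rw [hψ2, hn2]
      refine ⟨?_, ?_⟩
      · rw [e1, ← hα₀img]
        exact hα₀.mem_img_of_mem hn1
      · simp only [id]
        rw [e1, e2]
    · rintro ⟨hz1, hz2⟩
      rw [← hα₀img] at hz1
      obtain ⟨x, hx, hxz⟩ := hα₀.mem_img.mp hz1
      simp only [Function.comp] at hxz
      refine ⟨⟨_, hDN (mk_mem_gr hf' hx)⟩, Subgroup.mem_subgroupOf.mpr (mk_mem_gr hf' hx), ?_⟩
      apply Prod.ext
      · apply Subtype.ext
        rw [hψ1]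
        show α x = _
        rw [hαα₀ x hx]
        exact hxz
      · apply Subtype.ext
        rw [hψ2]
        show θ (f' x) = _
        rw [hxz]
        exact hz2
  · intro E hEN
    have hmem : ∀ z : ↥S × ↥S, z ∈ (E.subgroupOf N').map ψ ↔
        ∃ x ∈ E, (z.1 : Ω) = α x.1 ∧ (z.2 : Ω) = θ x.2 := by
      intro z
      constructor
      · rintro ⟨n, hn, rfl⟩
        have hn' : (n : ↥S × ↥S) ∈ E := hn
        exact ⟨n.1, hn', hψ1 n, hψ2 n⟩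
      · rintro ⟨x, hx, h1, h2⟩
        refine ⟨⟨x, hEN hx⟩, Subgroup.mem_subgroupOf.mpr hx, ?_⟩
        apply Prod.ext
        · apply Subtype.ext
          rw [hψ1, h1]
        · apply Subtype.ext
          rw [hψ2, h2]
    have hEAB : ∀ x ∈ E, (x.1 : Ω) ∈ pr1 N' ∧ (x.2 : Ω) ∈ normalizerIn S (img P' f') :=
      fun x hx => ⟨hH ⟨x, hEN hx⟩, hB ⟨x, hEN hx⟩⟩
    have hfwd := fun hG => isG_prod_map hα hθ hEAB hmem hG
    refine ⟨⟨fun hG => (hfwd hG).1, fun hG' => ?_⟩, fun hG => (hfwd hG).2⟩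
    have hE'AB : ∀ z ∈ (E.subgroupOf N').map ψ, (z.1 : Ω) ∈ img (pr1 N') α ∧
        (z.2 : Ω) ∈ img (normalizerIn S (img P' f')) θ := by
      intro z hz
      obtain ⟨x, hx, h1, h2⟩ := (hmem z).mp hz
      rw [h1, h2]
      exact ⟨hα.mem_img_of_mem (hEAB x hx).1, hθ.mem_img_of_mem (hEAB x hx).2⟩
    have hmem' : ∀ x : ↥S × ↥S, x ∈ E ↔ ∃ z ∈ (E.subgroupOf N').map ψ,
        (x.1 : Ω) = invFn (pr1 N') α z.1 ∧
        (x.2 : Ω) = invFn (normalizerIn S (img P' f')) θ z.2 := by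
      intro x
      constructor
      · intro hx
        refine ⟨ψ ⟨x, hEN hx⟩, ⟨_, Subgroup.mem_subgroupOf.mpr hx, rfl⟩, ?_, ?_⟩
        · rw [hψ1, hα.invFn_apply (hEAB x hx).1]
        · rw [hψ2, hθ.invFn_apply (hEAB x hx).2]
      · rintro ⟨z, hz, h1, h2⟩
        obtain ⟨y, hy, h3, h4⟩ := (hmem z).mp hz
        rw [h3, hα.invFn_apply (hEAB y hy).1] at h1
        rw [h4, hθ.invFn_apply (hEAB y hy).2] at h2
        have : x = y := Prod.ext (Subtype.ext h1) (Subtype.ext h2)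
        rw [this]
        exact hy
    exact (isG_prod_map hα.inv hθ.inv hE'AB hmem' hG').1

/-- The saturation hypothesis of `BisetHyp` for the graphs of a saturated fusion system. -/
theorem sat_gr [Finite S] {p : ℕ} [Fact p.Prime] (hS : IsPGroup p S) (hF : F.IsSaturated p)
    (D : Subgroup (↥S × ↥S)) (hD : IsG F D) :
    ∃ D₀ : Subgroup (↥S × ↥S), RelG F D D₀ ∧ ∀ D' : Subgroup (↥S × ↥S), RelG F D' D₀ →
      ∃ ψ : ↥(Subgroup.normalizer (D' : Set (↥S × ↥S))) →* ↥S × ↥S, Function.Injective ψ ∧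
        (∀ x, ψ x ∈ Subgroup.normalizer (D₀ : Set (↥S × ↥S))) ∧
        (D'.subgroupOf (Subgroup.normalizer (D' : Set (↥S × ↥S)))).map ψ = D₀ ∧
        ∀ E : Subgroup (↥S × ↥S), E ≤ Subgroup.normalizer (D' : Set (↥S × ↥S)) →
          (IsG F E ↔ IsG F ((E.subgroupOf (Subgroup.normalizer (D' : Set (↥S × ↥S)))).map ψ)) ∧
          (IsG F E → RelG F E ((E.subgroupOf (Subgroup.normalizer (D' : Set (↥S × ↥S)))).map ψ)) := by
  obtain ⟨P, f, hf, rfl⟩ := hD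
  obtain ⟨P₀, hconj, hfa, hrec⟩ := hF P hf.le
  have hid : Mor F P₀ id := mor_id F hfa.1
  refine ⟨gr S P₀ id, ⟨⟨P, f, hf, rfl⟩, ⟨P₀, id, hid, rfl⟩, ?_⟩, ?_⟩
  · rw [pr1_gr hf, pr1_gr hid]
    exact hconj
  · rintro D' ⟨⟨P', f', hf', rfl⟩, -, hconj'⟩
    rw [pr1_gr hf', pr1_gr hid] at hconj'
    exact sat_aux hS hfa hrec hf' hconj' _ rfl

/-- The graphs of the maps of a saturated fusion system satisfy `BisetHyp`. -/
theorem bisetHyp [Finite S] {p : ℕ} [Fact p.Prime] (hS : IsPGroup p S) (hF : F.IsSaturated p) :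
    BisetHyp (IsG F) (RelG F) where
  rel_symm := fun ⟨h1, h2, h3⟩ => ⟨h2, h1, isConj_symm' h3⟩
  rel_trans := fun ⟨h1, _, h3⟩ ⟨_, h2', h3'⟩ => ⟨h1, h2', isConj_trans' h3 h3'⟩
  rel_isG := fun h => h.1
  rel_card := by
    rintro D D' ⟨⟨P, f, hf, rfl⟩, ⟨P', f', hf', rfl⟩, hc⟩
    rw [pr1_gr hf, pr1_gr hf'] at hc
    rw [card_gr hf, card_gr hf']
    obtain ⟨c, hc1, hc2⟩ := Cfsg.Agent.Lib.Helper90.isConj_iff.mp hc
    rw [← hc2, hc1.card_img]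
  conj := fun g hD => relG_cj g hD
  sub := isG_of_le
  sat := sat_gr hS hF

end Cfsg.Agent.Lib.Helper87
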