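import Cfsg.Agent.Lib.Helper87.TwistTransfer
import Cfsg.Agent.Lib.Helper87.CharMult
import Cfsg.Agent.Lib.Helper87.Fusion10
import Cfsg.Agent.Lib.Helper91.Frattini

set_option autoImplicit false

/-!
Two applications of Alperin induction for a saturated fusion system `F` over `S`:
* if `Aut_F(S)` is inner and `T ≥ [S, S]` is strongly closed, every map of `F` is trivial mod `T`;
* every map of `F` is inner modulo any `S`-invariant subgroup containing the `x⁻¹ α(x)` for the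
  `p'`-automorphisms `α` of `F`.
-/

namespace Cfsg.Agent.Lib.Helper87

open Cfsg Cfsg.FusionSystem Cfsg.Agent.Lib.Helper90

variable {Ω : Type*} [Group Ω] {S : Subgroup Ω} {F : FusionSystem S} {P Q : Subgroup Ω}
  {f g : Ω → Ω}

/-- In a finite `p`-group the derived subgroup lies in the Frattini subgroup. -/
theorem commutator_le_frattini_pgroup {G : Type*} [Group G] [Finite G] {p : ℕ} [Fact p.Prime]
    (hG : IsPGroup p G) : commutator G ≤ frattini G := by
  unfold frattini Order.radical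
  rw [le_iInf_iff]
  intro M
  rw [le_iInf_iff]
  intro hM
  have hnil : Group.IsNilpotent G := hG.isNilpotent
  have hall : ∀ H : Subgroup G, IsCoatom H → H.Normal :=
    ((Group.isNilpotent_of_finite_tfae (G := G)).out 0 2).mp hnil
  have hMn : M.Normal := hall M hM
  have hpq : IsPGroup p (G ⧸ M) := hG.to_quotient M
  have hnt : Nontrivial (G ⧸ M) := by
    obtain ⟨x, hx⟩ : ∃ x : G, x ∉ M := by
      by_contra hcon
      push Not at hcon
      exact hM.1 (top_le_iff.mp (fun y _ => hcon y))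
    exact ⟨⟨(x : G ⧸ M), 1, fun h => hx ((QuotientGroup.eq_one_iff x).mp h)⟩⟩
  have hz := hpq.bot_lt_center
  have hMZ : M ≤ (Subgroup.center (G ⧸ M)).comap (QuotientGroup.mk' M) := by
    intro m hm
    rw [Subgroup.mem_comap]
    have : QuotientGroup.mk' M m = 1 := (QuotientGroup.eq_one_iff m).mpr hm
    rw [this]
    exact Subgroup.one_mem _
  have htop : (Subgroup.center (G ⧸ M)).comap (QuotientGroup.mk' M) = ⊤ := by
    by_contra hne
    have heq : (Subgroup.center (G ⧸ M)).comap (QuotientGroup.mk' M) = M := by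
      by_contra hne2
      exact hne (hM.2 _ (lt_of_le_of_ne hMZ (Ne.symm hne2)))
    have h1 : Subgroup.center (G ⧸ M) = ⊥ := by
      rw [← Subgroup.map_comap_eq_self_of_surjective (QuotientGroup.mk'_surjective M)
        (Subgroup.center (G ⧸ M)), heq, QuotientGroup.map_mk'_self]
    exact hz.ne' h1
  rw [commutator_def, Subgroup.commutator_le]
  intro a _ b _
  have ha : a ∈ (Subgroup.center (G ⧸ M)).comap (QuotientGroup.mk' M) := by
    rw [htop]
    exact Subgroup.mem_top a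
  rw [Subgroup.mem_comap, Subgroup.mem_center_iff] at ha
  rw [← QuotientGroup.eq_one_iff]
  have h2 := ha (QuotientGroup.mk' M b)
  show ((a * b * a⁻¹ * b⁻¹ : G) : G ⧸ M) = 1
  have h3 : ((a * b * a⁻¹ * b⁻¹ : G) : G ⧸ M) =
      (QuotientGroup.mk' M a) * (QuotientGroup.mk' M b) * (QuotientGroup.mk' M a)⁻¹ *
        (QuotientGroup.mk' M b)⁻¹ := rfl
  rw [h3, ← h2]
  group

/-- The automorphisms of `P` acting trivially modulo `T`. -/
def modSub (T P : Subgroup Ω) : Subgroup (MulAut P) where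
  carrier := {β | ∀ x : P, (x : Ω)⁻¹ * ((β x : P) : Ω) ∈ T}
  mul_mem' := by
    intro β γ hβ hγ x
    have e : (x : Ω)⁻¹ * (((β * γ) x : P) : Ω) =
        ((x : Ω)⁻¹ * ((γ x : P) : Ω)) * (((γ x : P) : Ω)⁻¹ * ((β (γ x) : P) : Ω)) := by
      rw [MulAut.mul_apply]
      group
    rw [e]
    exact T.mul_mem (hγ x) (hβ (γ x))
  one_mem' := by
    intro x
    show (x : Ω)⁻¹ * (x : Ω) ∈ T
    rw [inv_mul_cancel]
    exact T.one_mem
  inv_mem' := by
    intro β hβ x
    have h1 := hβ (β⁻¹ x)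
    have e : (x : Ω)⁻¹ * ((β⁻¹ x : P) : Ω) =
        (((β⁻¹ x : P) : Ω)⁻¹ * ((β (β⁻¹ x) : P) : Ω))⁻¹ := by
      rw [MulAut.apply_inv_self]
      group
    rw [e]
    exact T.inv_mem h1

theorem mem_modSub {T P : Subgroup Ω} {β : MulAut P} :
    β ∈ modSub T P ↔ ∀ x : P, (x : Ω)⁻¹ * ((β x : P) : Ω) ∈ T := Iff.rfl

theorem stronglyClosed_mor {T : Subgroup Ω} (hT : F.StronglyClosed T) (hf : Mor F P f) {x : Ω}
    (hx : x ∈ P) (hxT : x ∈ T) : f x ∈ T := by
  have hle : Subgroup.zpowers x ≤ T := by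
    rw [Subgroup.zpowers_le]; exact hxT
  have hle' : Subgroup.zpowers x ≤ P := by
    rw [Subgroup.zpowers_le]; exact hx
  obtain ⟨φ, hφ, hφf⟩ := hf.restrict hle'
  have h1 := hT.2 _ hle φ hφ ⟨x, Subgroup.mem_zpowers x⟩
  rwa [hφf] at h1

/-- If `Aut_F(S)` is inner and `T ≥ [S, S]` is strongly closed, every map is trivial modulo `T`. -/
theorem mor_mod_of_inner [Finite S] {p : ℕ} [Fact p.Prime] (hS : IsPGroup p S)
    (hF : F.IsSaturated p)
    (hInn : ∀ f, Mor F S f → ∃ u ∈ S, ∀ x ∈ S, f x = u * x * u⁻¹)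
    {T : Subgroup Ω} (hT : F.StronglyClosed T)
    (hcomm : ∀ s ∈ S, ∀ t ∈ S, s * t * s⁻¹ * t⁻¹ ∈ T) :
    ∀ (P : Subgroup Ω) (f : Ω → Ω), Mor F P f → ∀ x ∈ P, x⁻¹ * f x ∈ T := by
  refine alperin_induction hS hF (fun P f => ∀ x ∈ P, x⁻¹ * f x ∈ T) ?_ ?_ ?_ ?_ ?_
  · intro P f g hf hfg x hx
    rw [← hfg x hx]
    exact hf x hx
  · intro P P₀ f _ hf h0 x hx
    exact hf x (h0 hx)
  · intro P Q f g _ _ hPQ hf hg x hx
    have e : x⁻¹ * (g ∘ f) x = (x⁻¹ * f x) * ((f x)⁻¹ * g (f x)) := by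
      show x⁻¹ * g (f x) = _
      group
    rw [e]
    exact T.mul_mem (hf x hx) (hg _ (hPQ x hx))
  · intro P f hfm hf y hy
    obtain ⟨x, hx, rfl⟩ := hfm.mem_img.mp hy
    rw [hfm.invFn_apply hx]
    have e : (f x)⁻¹ * x = (x⁻¹ * f x)⁻¹ := by group
    rw [e]
    exact T.inv_mem (hf x hx)
  · intro P hfa hrec hbig f hf hfP
    have hPS : P ≤ S := hfa.1
    rcases eq_or_lt_of_le hPS with heq | hlt
    · rw [heq] at hf
      obtain ⟨u, hu, hfu⟩ := hInn f hf
      intro x hx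
      have hxS : x ∈ S := hPS hx
      rw [hfu x hxS]
      have h1 := hcomm x⁻¹ (S.inv_mem hxS) u hu
      have e : x⁻¹ * (u * x * u⁻¹) = x⁻¹ * u * x⁻¹⁻¹ * u⁻¹ := by group
      rw [e]
      exact h1
    · have hfinP : Finite P := Cfsg.Agent.Lib.Helper90.finite_of_le hPS
      obtain ⟨α, hα, hαf⟩ := exists_aut_of_mor hf hfP
      obtain ⟨-, R, hR⟩ := hfa
      have hNn : ((modSub T P).subgroupOf (F.autGroup P)).Normal := by
        constructor
        intro n hn g
        rw [Subgroup.mem_subgroupOf] at hn ⊢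
        intro x
        have hg : Mor F P (autFun P (g : MulAut P)) :=
          (Cfsg.Agent.Lib.Helper90.mem_autGroup_iff F hPS _).mp g.2
        have h1 := hn ((g : MulAut P)⁻¹ x)
        have h2 := stronglyClosed_mor hT hg
          (P.mul_mem (P.inv_mem ((g : MulAut P)⁻¹ x).2) ((n : MulAut P) ((g : MulAut P)⁻¹ x)).2) h1
        have h3 : autFun P (g : MulAut P) ((((g : MulAut P)⁻¹ x : P) : Ω)⁻¹ *
            (((n : MulAut P) ((g : MulAut P)⁻¹ x) : P) : Ω)) =
            (x : Ω)⁻¹ * (((g : MulAut P) ((n : MulAut P) ((g : MulAut P)⁻¹ x)) : P) : Ω) := by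
          have h4 : (((g : MulAut P)⁻¹ x : P) : Ω)⁻¹ *
              (((n : MulAut P) ((g : MulAut P)⁻¹ x) : P) : Ω) =
              ((((g : MulAut P)⁻¹ x)⁻¹ * (n : MulAut P) ((g : MulAut P)⁻¹ x) : P) : Ω) := rfl
          rw [h4, autFun_apply, map_mul, map_inv, MulAut.apply_inv_self]
          rfl
        rw [h3] at h2
        exact h2
      have hRN : (R : Subgroup (F.autGroup P)) ≤ (modSub T P).subgroupOf (F.autGroup P) := by
        rw [hR]
        intro β hβ
        rw [Subgroup.mem_subgroupOf] at hβ ⊢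
        obtain ⟨a, ha, hβa⟩ := (Cfsg.Agent.Lib.Helper90.mem_autInducedBy_iff S P _).mp hβ
        intro x
        rw [hβa]
        have hxS : (x : Ω) ∈ S := hPS x.2
        have h1 := hcomm (x : Ω)⁻¹ (S.inv_mem hxS) a ha
        have e : (x : Ω)⁻¹ * (a * (x : Ω) * a⁻¹) = (x : Ω)⁻¹ * a * (x : Ω)⁻¹⁻¹ * a⁻¹ := by group
        rw [e]
        exact h1
      have hfinA : Finite (F.autGroup P) := inferInstance
      have hfr := Sylow.normalizer_sup_eq_top' R hRN
      have hmem : (⟨α, hα⟩ : F.autGroup P) ∈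
          Subgroup.normalizer ((R : Subgroup (F.autGroup P)) : Set (F.autGroup P)) ⊔
            (modSub T P).subgroupOf (F.autGroup P) := by
        have h0 : (⟨α, hα⟩ : F.autGroup P) ∈ (⊤ : Subgroup (F.autGroup P)) := Subgroup.mem_top _
        rw [← hfr] at h0
        exact h0
      obtain ⟨y, hy, z, hz, hyz⟩ := Subgroup.mem_sup_of_normal_right.mp hmem
      have hyN : y ∈ (modSub T P).subgroupOf (F.autGroup P) := by
        rw [Subgroup.mem_subgroupOf]
        have hnorm : ∀ τ ∈ autInducedBy S P,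
            (y : MulAut P) * τ * (y : MulAut P)⁻¹ ∈ autInducedBy S P := by
          intro τ hτ
          have hτA : τ ∈ F.autGroup P :=
            Cfsg.Agent.Lib.Helper90.autInducedBy_le_autGroup F hPS hτ
          have hτR : (⟨τ, hτA⟩ : F.autGroup P) ∈ (R : Subgroup (F.autGroup P)) := by
            rw [hR, Subgroup.mem_subgroupOf]
            exact hτ
          have h1 := (Subgroup.mem_normalizer_iff.mp hy ⟨τ, hτA⟩).mp hτR
          rw [hR, Subgroup.mem_subgroupOf] at h1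
          exact h1
        obtain ⟨f', hf', hf'y⟩ :=
          Cfsg.Agent.Lib.Helper91.extend_of_normalizes hrec (y : MulAut P) y.2 hnorm
        have hlt' : P < normalizerIn S P := lt_normalizerIn hS hlt
        have hgood := hbig _ f' hlt' hf'
        intro x
        have h1 := hgood x (hlt'.le x.2)
        rw [hf'y] at h1
        exact h1
      have hαN : (⟨α, hα⟩ : F.autGroup P) ∈ (modSub T P).subgroupOf (F.autGroup P) := by
        rw [← hyz]
        exact Subgroup.mul_mem _ hyN hz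
      rw [Subgroup.mem_subgroupOf] at hαN
      intro x hx
      have h1 := hαN ⟨x, hx⟩
      rw [hαf] at h1
      exact h1

/-- Every map of a saturated system is inner modulo an `S`-invariant subgroup `M` containing the
`x⁻¹ α(x)` for the automorphisms `α` of the system of order prime to `p`. -/
theorem mor_inner_mod [Finite S] {p : ℕ} [Fact p.Prime] (hS : IsPGroup p S)
    (hF : F.IsSaturated p) {M : Subgroup Ω}
    (hMn : ∀ s ∈ S, ∀ h ∈ M, s * h * s⁻¹ ∈ M)
    (hgen : ∀ (P : Subgroup Ω) (α : MulAut P), P ≤ S → α ∈ F.autGroup P →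
      (orderOf α).Coprime p → ∀ x : P, (x : Ω)⁻¹ * ((α x : P) : Ω) ∈ M) :
    ∀ (P : Subgroup Ω) (f : Ω → Ω), Mor F P f →
      ∃ s ∈ S, ∀ x ∈ P, (s * x * s⁻¹)⁻¹ * f x ∈ M := by
  refine alperin_induction hS hF (fun P f => ∃ s ∈ S, ∀ x ∈ P, (s * x * s⁻¹)⁻¹ * f x ∈ M)
    ?_ ?_ ?_ ?_ ?_
  · rintro P f g ⟨s, hs, h⟩ hfg
    exact ⟨s, hs, fun x hx => by rw [← hfg x hx]; exact h x hx⟩
  · rintro P P₀ f _ ⟨s, hs, h⟩ h0
    exact ⟨s, hs, fun x hx => h x (h0 hx)⟩
  · rintro P Q f g _ _ hPQ ⟨s, hs, hf⟩ ⟨t, ht, hg⟩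
    refine ⟨t * s, S.mul_mem ht hs, fun x hx => ?_⟩
    have e : (t * s * x * (t * s)⁻¹)⁻¹ * (g ∘ f) x =
        (t * ((s * x * s⁻¹)⁻¹ * f x) * t⁻¹) * ((t * f x * t⁻¹)⁻¹ * g (f x)) := by
      show (t * s * x * (t * s)⁻¹)⁻¹ * g (f x) = _
      group
    rw [e]
    exact M.mul_mem (hMn t ht _ (hf x hx)) (hg _ (hPQ x hx))
  · rintro P f hfm ⟨s, hs, hf⟩
    refine ⟨s⁻¹, S.inv_mem hs, fun y hy => ?_⟩
    obtain ⟨x, hx, rfl⟩ := hfm.mem_img.mp hy
    rw [hfm.invFn_apply hx]
    have e : (s⁻¹ * f x * s⁻¹⁻¹)⁻¹ * x = s⁻¹ * ((s * x * s⁻¹)⁻¹ * f x)⁻¹ * s⁻¹⁻¹ := by group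
    rw [e]
    exact hMn s⁻¹ (S.inv_mem hs) _ (M.inv_mem (hf x hx))
  · intro P hfa hrec _ f hf hfP
    have hPS : P ≤ S := hfa.1
    have hfinP : Finite P := Cfsg.Agent.Lib.Helper90.finite_of_le hPS
    obtain ⟨α, hα, hαf⟩ := exists_aut_of_mor hf hfP
    obtain ⟨-, R, hR⟩ := hfa
    have hfinA : Finite (F.autGroup P) := inferInstance
    have hres : Cfsg.pResidual p (F.autGroup P) ≤ (modSub M P).subgroupOf (F.autGroup P) := by
      unfold Cfsg.pResidual
      rw [Subgroup.closure_le]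
      intro β hβ
      have hβ' : (orderOf β).Coprime p := hβ
      rw [SetLike.mem_coe, Subgroup.mem_subgroupOf]
      intro x
      refine hgen P (β : MulAut P) hPS β.2 ?_ x
      rw [Subgroup.orderOf_coe]
      exact hβ'
    have hNn : (Cfsg.pResidual p (F.autGroup P)).Normal := pResidual_normal p
    have hmem : (⟨α, hα⟩ : F.autGroup P) ∈
        Cfsg.pResidual p (F.autGroup P) ⊔ (R : Subgroup (F.autGroup P)) := by
      rw [pResidual_sup_sylow p R]
      exact Subgroup.mem_top _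
    obtain ⟨n, hn, r, hr, hnr⟩ := Subgroup.mem_sup_of_normal_left.mp hmem
    rw [hR, Subgroup.mem_subgroupOf] at hr
    obtain ⟨a, ha, hra⟩ := (Cfsg.Agent.Lib.Helper90.mem_autInducedBy_iff S P _).mp hr
    have hn' := hres hn
    rw [Subgroup.mem_subgroupOf] at hn'
    refine ⟨a, ha, fun x hx => ?_⟩
    have h1 := hn' ((r : MulAut P) ⟨x, hx⟩)
    rw [hra] at h1
    have h2 : α = (n : MulAut P) * (r : MulAut P) := by
      rw [← Subgroup.coe_mul, hnr]
    have h3 : f x = (((n : MulAut P) ((r : MulAut P) ⟨x, hx⟩) : P) : Ω) := by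
      rw [← hαf ⟨x, hx⟩, h2, MulAut.mul_apply]
    rw [h3]
    exact h1

end Cfsg.Agent.Lib.Helper87
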