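import Cfsg.Agent.Lib.Helper87.InnerCritA

set_option autoImplicit false

/-!
A saturated fusion system `F` over a finite `p`-group `S` with `Aut_F(S)` inner and `Φ(S)`
strongly closed is the inner system of `S`.
-/

namespace Cfsg.Agent.Lib.Helper87

open Cfsg Cfsg.FusionSystem Cfsg.Agent.Lib.Helper90

section norm

variable {G : Type*} [Group G]

/-- Replacing every point stabilizer `E` by a conjugate `r E`. -/
theorem exists_norm_mult [Finite G] (m : Subgroup G → ℕ) (r : Subgroup G → Subgroup G) :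
    ∃ m' : Subgroup G → ℕ, (∀ E', m' E' ≠ 0 → ∃ E, m E ≠ 0 ∧ r E = E') ∧
      (∀ w : Subgroup G → ℕ, (∀ E, m E ≠ 0 → w (r E) = w E) →
        ∑ᶠ E, m' E * w E = ∑ᶠ E, m E * w E) := by
  classical
  let _ : Fintype (Subgroup G) := Fintype.ofFinite _
  refine ⟨fun E' => ∑ E ∈ Finset.univ.filter (fun E => r E = E'), m E, ?_, ?_⟩
  · intro E' hE'
    obtain ⟨E, hE, hmE⟩ := Finset.exists_ne_zero_of_sum_ne_zero hE'
    rw [Finset.mem_filter] at hE
    exact ⟨E, hmE, hE.2⟩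
  · intro w hw
    rw [finsum_eq_sum_of_fintype, finsum_eq_sum_of_fintype]
    have h1 : ∀ E' : Subgroup G, (∑ E ∈ Finset.univ.filter (fun E => r E = E'), m E) * w E' =
        ∑ E ∈ Finset.univ.filter (fun E => r E = E'), m E * w E := by
      intro E'
      rw [Finset.sum_mul]
      apply Finset.sum_congr rfl
      intro E hE
      rw [Finset.mem_filter] at hE
      by_cases hm : m E = 0
      · rw [hm, zero_mul, zero_mul]
      · rw [← hE.2, hw E hm]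
    rw [Finset.sum_congr rfl (fun E' _ => h1 E')]
    exact Finset.sum_fiberwise Finset.univ r (fun E => m E * w E)

theorem eq_one_of_pow_coprime'' {A : Type*} [Group A] {a : A} {m n : ℕ} (hm : a ^ m = 1)
    (hn : a ^ n = 1) (h : Nat.Coprime m n) : a = 1 := by
  have h1 := orderOf_dvd_of_pow_eq_one hm
  have h2 := orderOf_dvd_of_pow_eq_one hn
  have h3 := Nat.dvd_gcd h1 h2
  rw [Nat.Coprime] at h
  rw [h, Nat.dvd_one] at h3
  exact orderOf_eq_one_iff.mp h3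

end norm

variable {Ω : Type*} [Group Ω] {S : Subgroup Ω} {F : FusionSystem S} {P Q : Subgroup Ω}
  {f g : Ω → Ω}

/-- The elements `x⁻¹ α(x)` for the automorphisms `α` of the system of order prime to `p`. -/
def hypGens (F : FusionSystem S) (p : ℕ) : Set ↥S :=
  {y | ∃ (P : Subgroup Ω) (α : MulAut P) (x : P), P ≤ S ∧ α ∈ F.autGroup P ∧
    (orderOf α).Coprime p ∧ (y : Ω) = (x : Ω)⁻¹ * ((α x : P) : Ω)}

/-- The normal subgroup of `S` generated by `hypGens`. -/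
def hypN (F : FusionSystem S) (p : ℕ) : Subgroup ↥S := Subgroup.normalClosure (hypGens F p)

instance hypN_normal (F : FusionSystem S) (p : ℕ) : (hypN F p).Normal :=
  Subgroup.normalClosure_normal

theorem hypN_le_frattini [Finite S] {p : ℕ} [Fact p.Prime] (hS : IsPGroup p S)
    (hF : F.IsSaturated p)
    (hInn : ∀ f, Mor F S f → ∃ u ∈ S, ∀ x ∈ S, f x = u * x * u⁻¹)
    (hT : F.StronglyClosed ((frattini ↥S).map S.subtype)) : hypN F p ≤ frattini ↥S := by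
  have hcomm : ∀ s ∈ S, ∀ t ∈ S, s * t * s⁻¹ * t⁻¹ ∈ (frattini ↥S).map S.subtype := by
    intro s hs t ht
    refine ⟨(⟨s, hs⟩ : ↥S) * ⟨t, ht⟩ * (⟨s, hs⟩ : ↥S)⁻¹ * (⟨t, ht⟩ : ↥S)⁻¹, ?_, rfl⟩
    exact commutator_le_frattini_pgroup hS
      (Subgroup.commutator_mem_commutator (g₁ := (⟨s, hs⟩ : ↥S)) (g₂ := (⟨t, ht⟩ : ↥S))
        (Subgroup.mem_top _) (Subgroup.mem_top _))
  apply Subgroup.normalClosure_le_normal
  rintro y ⟨P, α, x, hP, hα, -, hy⟩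
  have hm : Mor F P (autFun P α) := (Cfsg.Agent.Lib.Helper90.mem_autGroup_iff F hP α).mp hα
  have h1 := mor_mod_of_inner hS hF hInn hT hcomm P _ hm x x.2
  rw [autFun_apply, ← hy] at h1
  obtain ⟨y', hy', e⟩ := h1
  have : y' = y := Subtype.ext e
  rw [← this]
  exact hy'

theorem mor_inner_mod_hypN [Finite S] {p : ℕ} [Fact p.Prime] (hS : IsPGroup p S)
    (hF : F.IsSaturated p) (P : Subgroup Ω) (f : Ω → Ω) (hf : Mor F P f) :
    ∃ s : ↥S, ∀ x y : ↥S, (x : Ω) ∈ P → (y : Ω) = f x → (s * x * s⁻¹)⁻¹ * y ∈ hypN F p := by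
  have hMn : ∀ s ∈ S, ∀ h ∈ (hypN F p).map S.subtype, s * h * s⁻¹ ∈ (hypN F p).map S.subtype := by
    rintro s hs _ ⟨h', hh', rfl⟩
    exact ⟨(⟨s, hs⟩ : ↥S) * h' * (⟨s, hs⟩ : ↥S)⁻¹, (hypN_normal F p).conj_mem h' hh' _, rfl⟩
  have hgen : ∀ (P : Subgroup Ω) (α : MulAut P), P ≤ S → α ∈ F.autGroup P →
      (orderOf α).Coprime p → ∀ x : P, (x : Ω)⁻¹ * ((α x : P) : Ω) ∈ (hypN F p).map S.subtype := by
    intro P α hP hα hc x
    refine ⟨⟨(x : Ω)⁻¹ * ((α x : P) : Ω), S.mul_mem (S.inv_mem (hP x.2)) (hP (α x).2)⟩, ?_, rfl⟩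
    exact Subgroup.subset_normalClosure ⟨P, α, x, hP, hα, hc, rfl⟩
  obtain ⟨s, hs, h⟩ := mor_inner_mod hS hF hMn hgen P f hf
  refine ⟨⟨s, hs⟩, fun x y hx hy => ?_⟩
  obtain ⟨h', hh', e⟩ := h x hx
  have : h' = ((⟨s, hs⟩ : ↥S) * x * (⟨s, hs⟩ : ↥S)⁻¹)⁻¹ * y := by
    apply Subtype.ext
    have e' : (h' : Ω) = (s * (x : Ω) * s⁻¹)⁻¹ * f x := e
    rw [e']
    show (s * (x : Ω) * s⁻¹)⁻¹ * f x = (s * (x : Ω) * s⁻¹)⁻¹ * (y : Ω)
    rw [hy]
  rw [← this]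
  exact hh'

/-- A characteristic multiplicity function all of whose point stabilizers lie in the fibre
product over `S / hypN`. -/
theorem exists_char_mult_Kt [Finite S] {p : ℕ} [Fact p.Prime] (hS : IsPGroup p S)
    (hF : F.IsSaturated p) :
    ∃ m : Subgroup (↥S × ↥S) → ℕ, (∀ E, m E ≠ 0 → IsG F E ∧ E ≤ Kt (hypN F p)) ∧
      (∀ D D', RelG F D D' → fixm m D = fixm m D') ∧
      ¬ p ∣ ∑ᶠ E, m E * (pE E).index := by
  classical
  obtain ⟨m₀, hsupp, hst, hN⟩ := exists_char_mult hS hF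
  have hex : ∀ E, IsG F E → ∃ g : ↥S × ↥S, cj g E ≤ Kt (hypN F p) := by
    rintro E ⟨P, f, hf, rfl⟩
    obtain ⟨s, hs⟩ := mor_inner_mod_hypN (p := p) hS hF P f hf
    refine ⟨(1, s⁻¹), ?_⟩
    intro z hz
    rw [mem_cj, mem_gr hf] at hz
    have h1 := hs _ _ hz.1 hz.2.symm
    have h2 : (s * ((1 : ↥S)⁻¹ * z.1 * 1) * s⁻¹)⁻¹ * (s⁻¹⁻¹ * z.2 * s⁻¹) ∈ hypN F p := h1
    have e : (s * ((1 : ↥S)⁻¹ * z.1 * 1) * s⁻¹)⁻¹ * (s⁻¹⁻¹ * z.2 * s⁻¹) =
        s * (z.1⁻¹ * z.2) * s⁻¹ := by group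
    rw [e] at h2
    have h3 := (hypN_normal F p).conj_mem _ h2 s⁻¹
    have e2 : s⁻¹ * (s * (z.1⁻¹ * z.2) * s⁻¹) * s⁻¹⁻¹ = z.1⁻¹ * z.2 := by group
    rw [e2] at h3
    exact h3
  let r : Subgroup (↥S × ↥S) → Subgroup (↥S × ↥S) := fun E =>
    if h : ∃ g : ↥S × ↥S, cj g E ≤ Kt (hypN F p) then cj h.choose E else E
  have hr : ∀ E, IsG F E → r E ≤ Kt (hypN F p) ∧ ∃ g : ↥S × ↥S, r E = cj g E := by
    intro E hE
    have h := hex E hE
    have hrE : r E = cj h.choose E := dif_pos h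
    rw [hrE]
    exact ⟨h.choose_spec, h.choose, rfl⟩
  obtain ⟨m, hm1, hm2⟩ := exists_norm_mult m₀ r
  have hfix : ∀ D, fixm m D = fixm m₀ D := by
    intro D
    unfold fixm
    apply hm2 (fun E => fp E D)
    intro E hE
    obtain ⟨-, g, hg⟩ := hr E (hsupp E hE)
    show fp (r E) D = fp E D
    rw [hg, fp_cj_left]
  refine ⟨m, ?_, ?_, ?_⟩
  · intro E' hE'
    obtain ⟨E, hE, rfl⟩ := hm1 E' hE'
    obtain ⟨h1, g, hg⟩ := hr E (hsupp E hE)
    refine ⟨?_, h1⟩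
    rw [hg]
    exact (relG_cj g (hsupp E hE)).2.1
  · intro D D' hDD'
    rw [hfix, hfix]
    exact hst D D' hDD'
  · have h1 : ∑ᶠ E, m E * (pE E).index = ∑ᶠ E, m₀ E * (pE E).index := by
      apply hm2 (fun E => (pE E).index)
      intro E hE
      obtain ⟨-, g, hg⟩ := hr E (hsupp E hE)
      show (pE (r E)).index = (pE E).index
      have hG1 : IsG F (r E) := by
        rw [hg]
        exact (relG_cj g (hsupp E hE)).2.1
      have hc1 : Nat.card (pE (r E)) = Nat.card (pE E) := by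
        rw [card_pE (isG_injective hG1), card_pE (isG_injective (hsupp E hE)), hg, card_cj]
      have h2 := (pE (r E)).card_mul_index
      have h3 := (pE E).card_mul_index
      rw [hc1, ← h3] at h2
      exact Nat.eq_of_mul_eq_mul_left Nat.card_pos h2
    rw [h1]
    exact hN

/-- An invariant multiplicative map on `hypN ≤ Φ(S)` is constant on the classes of the system. -/
theorem nu_stable [Finite S] {p : ℕ} [Fact p.Prime] (hS : IsPGroup p S)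
    (hF : F.IsSaturated p) (hfr : hypN F p ≤ frattini ↥S)
    {nu : ↥S → Multiplicative (ZMod p)} (hnu : NuHyp (hypN F p) nu)
    (hf : Mor F P f) {x y : ↥S} (hx : (x : Ω) ∈ P) (hy : (y : Ω) = f x)
    (hxH : x ∈ hypN F p) (hyH : y ∈ hypN F p) : nu x = nu y := by
  obtain ⟨m, hsupp, hst, hN⟩ := exists_char_mult_Kt (p := p) hS hF
  have h1 := nu_pow_eq_of_fixm hfr hnu m
    (fun E hE => ⟨(hsupp E hE).2, isG_injective (hsupp E hE).1⟩) hxH hyH
    (fun k _ s => fixm_zpowers_eq hS hF (fun E hE => (hsupp E hE).1) hst hf hx hy k s)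
  have hp : p.Prime := Fact.out
  have h2 : (nu x * (nu y)⁻¹) ^ (∑ᶠ E, m E * (pE E).index) = 1 := by
    rw [mul_pow, inv_pow, h1, mul_inv_cancel]
  have h3 : (nu x * (nu y)⁻¹) ^ p = 1 := Cfsg.Agent.Lib.Helper88.pow_p_mult_zmod p _
  have h4 := eq_one_of_pow_coprime'' h2 h3
    (Nat.Coprime.symm ((Nat.Prime.coprime_iff_not_dvd hp).mpr hN))
  exact mul_inv_eq_one.mp h4

/-- Such a map is trivial on the generators. -/
theorem nu_gens {p : ℕ} [Fact p.Prime] {nu : ↥S → Multiplicative (ZMod p)}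
    (hnu : NuHyp (hypN F p) nu)
    (hstable : ∀ (P : Subgroup Ω) (f : Ω → Ω), Mor F P f → ∀ x y : ↥S, (x : Ω) ∈ P →
      (y : Ω) = f x → x ∈ hypN F p → y ∈ hypN F p → nu x = nu y) :
    ∀ y ∈ hypGens F p, nu y = 1 := by
  rintro y ⟨P, α, x₀, hP, hα, hc, hy⟩
  have hwS : ∀ β : MulAut P, ∀ z : P, (z : Ω)⁻¹ * ((β z : P) : Ω) ∈ S := fun β z =>
    S.mul_mem (S.inv_mem (hP z.2)) (hP (β z).2)
  have hcj : ∀ j : ℕ, (orderOf (α ^ j)).Coprime p := fun j =>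
    Nat.Coprime.coprime_dvd_left (orderOf_pow_dvd j) hc
  have hgen : ∀ (z : P), (⟨(z : Ω)⁻¹ * ((α z : P) : Ω), hwS α z⟩ : ↥S) ∈ hypN F p := fun z =>
    Subgroup.subset_normalClosure ⟨P, α, z, hP, hα, hc, rfl⟩
  have hw : ∀ j : ℕ, (⟨(x₀ : Ω)⁻¹ * (((α ^ j) x₀ : P) : Ω), hwS (α ^ j) x₀⟩ : ↥S) ∈ hypN F p :=
    fun j => Subgroup.subset_normalClosure ⟨P, α ^ j, x₀, hP, pow_mem hα j, hcj j, rfl⟩
  have hy' : y = ⟨(x₀ : Ω)⁻¹ * ((α x₀ : P) : Ω), hwS α x₀⟩ := Subtype.ext hy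
  have hv : ∀ j : ℕ, nu (⟨(((α ^ j) x₀ : P) : Ω)⁻¹ * ((α ((α ^ j) x₀) : P) : Ω),
      hwS α ((α ^ j) x₀)⟩ : ↥S) = nu y := by
    intro j
    have hm : Mor F P (autFun P (α ^ j)) :=
      (Cfsg.Agent.Lib.Helper90.mem_autGroup_iff F hP _).mp (pow_mem hα j)
    refine (hstable P _ hm y _ ?_ ?_ ?_ (hgen _)).symm
    · rw [hy]
      exact P.mul_mem (P.inv_mem x₀.2) (α x₀).2
    · rw [hy]
      have h1 : (x₀ : Ω)⁻¹ * ((α x₀ : P) : Ω) = ((x₀⁻¹ * α x₀ : P) : Ω) := rfl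
      rw [h1, autFun_apply, map_mul, map_inv]
      have h2 : (α ^ j) (α x₀) = α ((α ^ j) x₀) := by
        rw [← MulAut.mul_apply, ← MulAut.mul_apply, ← pow_succ, ← pow_succ']
      rw [h2]
      rfl
    · rw [hy']
      exact hgen x₀
  have hind : ∀ j : ℕ, nu (⟨(x₀ : Ω)⁻¹ * (((α ^ j) x₀ : P) : Ω), hwS (α ^ j) x₀⟩ : ↥S) =
      nu y ^ j := by
    intro j
    induction j with
    | zero =>
      have h1 : (⟨(x₀ : Ω)⁻¹ * (((α ^ 0) x₀ : P) : Ω), hwS (α ^ 0) x₀⟩ : ↥S) = 1 := by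
        apply Subtype.ext
        show (x₀ : Ω)⁻¹ * (((α ^ 0) x₀ : P) : Ω) = 1
        rw [pow_zero, MulAut.one_apply, inv_mul_cancel]
      rw [h1, hnu.one, pow_zero]
    | succ j ih =>
      have h1 : (⟨(x₀ : Ω)⁻¹ * (((α ^ (j + 1)) x₀ : P) : Ω), hwS (α ^ (j + 1)) x₀⟩ : ↥S) =
          (⟨(x₀ : Ω)⁻¹ * (((α ^ j) x₀ : P) : Ω), hwS (α ^ j) x₀⟩ : ↥S) *
          (⟨(((α ^ j) x₀ : P) : Ω)⁻¹ * ((α ((α ^ j) x₀) : P) : Ω), hwS α ((α ^ j) x₀)⟩ : ↥S) := by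
        apply Subtype.ext
        show (x₀ : Ω)⁻¹ * (((α ^ (j + 1)) x₀ : P) : Ω) =
          ((x₀ : Ω)⁻¹ * (((α ^ j) x₀ : P) : Ω)) *
            ((((α ^ j) x₀ : P) : Ω)⁻¹ * ((α ((α ^ j) x₀) : P) : Ω))
        rw [pow_succ', MulAut.mul_apply]
        group
      rw [h1, hnu.mul _ (hw j) _ (hgen _), ih, hv j, pow_succ]
  have h1 := hind (orderOf α)
  have h2 : (⟨(x₀ : Ω)⁻¹ * (((α ^ orderOf α) x₀ : P) : Ω), hwS (α ^ orderOf α) x₀⟩ : ↥S) = 1 := by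
    apply Subtype.ext
    show (x₀ : Ω)⁻¹ * (((α ^ orderOf α) x₀ : P) : Ω) = 1
    rw [pow_orderOf_eq_one, MulAut.one_apply, inv_mul_cancel]
  rw [h2, hnu.one] at h1
  exact eq_one_of_pow_coprime'' h1.symm (Cfsg.Agent.Lib.Helper88.pow_p_mult_zmod p _) hc

/-- A saturated fusion system over a finite `p`-group `S` in which every automorphism of `S` of
the system is inner and `Φ(S)` is strongly closed consists of conjugations by elements of `S`. -/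
theorem inner_of_frattini [Finite S] {p : ℕ} [Fact p.Prime] (hS : IsPGroup p S)
    (hF : F.IsSaturated p)
    (hInn : ∀ f, Mor F S f → ∃ u ∈ S, ∀ x ∈ S, f x = u * x * u⁻¹)
    (hT : F.StronglyClosed ((frattini ↥S).map S.subtype)) :
    ∀ (P : Subgroup Ω) (f : Ω → Ω), Mor F P f → ∃ s ∈ S, ∀ x ∈ P, f x = s * x * s⁻¹ := by
  have hfr := hypN_le_frattini hS hF hInn hT
  have hbot : hypN F p = ⊥ := by
    by_contra hne
    have hS' : IsPGroup p ↥(⊤ : Subgroup ↥S) := hS.to_subgroup ⊤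
    have hYn : ∀ s ∈ (⊤ : Subgroup ↥S), ∀ y ∈ hypN F p, s * y * s⁻¹ ∈ hypN F p :=
      fun s _ y hy => (hypN_normal F p).conj_mem y hy s
    obtain ⟨nu, hmul, hinv, y₀, hy₀, hy₀1⟩ :=
      Cfsg.Agent.Lib.Helper88.exists_invariant_hom (Ω := ↥S) (S := ⊤) (Y := hypN F p) (p := p)
        hS' le_top hYn hne
    have hnu : NuHyp (hypN F p) nu := ⟨hmul, fun g x hx => hinv g (Subgroup.mem_top g) x hx⟩
    have hgens := nu_gens hnu
      (fun P f hf x y hx hy hxH hyH => nu_stable hS hF hfr hnu hf hx hy hxH hyH)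
    let L : Subgroup ↥S :=
      { carrier := {y | y ∈ hypN F p ∧ nu y = 1}
        mul_mem' := by
          rintro a b ⟨ha, ha1⟩ ⟨hb, hb1⟩
          exact ⟨Subgroup.mul_mem _ ha hb, by rw [hnu.mul a ha b hb, ha1, hb1, mul_one]⟩
        one_mem' := ⟨Subgroup.one_mem _, hnu.one⟩
        inv_mem' := by
          rintro a ⟨ha, ha1⟩
          exact ⟨Subgroup.inv_mem _ ha, by rw [hnu.inv ha, ha1, inv_one]⟩ }
    have hLn : L.Normal :=
      ⟨fun y hy g => ⟨(hypN_normal F p).conj_mem y hy.1 g, by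
        show nu (g * y * g⁻¹) = 1
        rw [hnu.conj g y hy.1]
        exact hy.2⟩⟩
    have hle : hypN F p ≤ L :=
      Subgroup.normalClosure_le_normal
        (fun y hy => ⟨Subgroup.subset_normalClosure hy, hgens y hy⟩)
    exact hy₀1 (hle hy₀).2
  intro P f hf
  obtain ⟨s, hs⟩ := mor_inner_mod_hypN (p := p) hS hF P f hf
  refine ⟨s, s.2, fun x hx => ?_⟩
  have h1 := hs ⟨x, hf.le hx⟩ ⟨f x, hf.mem hx⟩ hx rfl
  rw [hbot, Subgroup.mem_bot, inv_mul_eq_one] at h1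
  exact (congrArg Subtype.val h1).symm

end Cfsg.Agent.Lib.Helper87
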