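import Mathlib
import Cfsg.Agent.Lib.Helper78.JNDefs

/-!
# S2944 piece JN-FIN (helper87 for helper78): the computation modulo `Q`
-/

set_option autoImplicit false

namespace Cfsg.Agent.Lib.Helper87.JN

open Cfsg.Agent.Lib.Helper78.JN Cfsg.Agent.Lib.Helper72.JL Cfsg.Agent.Lib.Helper72.SC
  Cfsg.Agent.Lib.Helper78.Jc

open scoped commutatorElement

universe u

/-- the conjugation computation: `P R P⁻¹ R = 1` with `P = Z A γ`, `R = E c` gives
`γ c γ⁻¹ = c⁻¹` -/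
theorem jnfin_core {G : Type*} [Group G] (Z A E c γ P R : G)
    (hAE : A * E * A⁻¹ = E⁻¹) (hEγ : Commute E γ) (hED : Commute E (γ * c * γ⁻¹))
    (hZE : Commute Z E) (hZD : Commute Z (γ * c * γ⁻¹)) (hAD : Commute A (γ * c * γ⁻¹))
    (hP : P = Z * A * γ) (hR : R = E * c) (hPR : P * R * P⁻¹ * R = 1) :
    γ * c * γ⁻¹ = c⁻¹ := by
  have e1 : γ * (E * c) * γ⁻¹ = E * (γ * c * γ⁻¹) := by
    calc γ * (E * c) * γ⁻¹ = (γ * E) * c * γ⁻¹ := by group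
      _ = (E * γ) * c * γ⁻¹ := by rw [hEγ.eq]
      _ = E * (γ * c * γ⁻¹) := by group
  have hAD' : A * (γ * c * γ⁻¹) * A⁻¹ = γ * c * γ⁻¹ := by
    rw [hAD.eq, mul_assoc, mul_inv_cancel, mul_one]
  have e2 : A * (E * (γ * c * γ⁻¹)) * A⁻¹ = E⁻¹ * (γ * c * γ⁻¹) := by
    calc A * (E * (γ * c * γ⁻¹)) * A⁻¹ = (A * E * A⁻¹) * (A * (γ * c * γ⁻¹) * A⁻¹) := by group
      _ = E⁻¹ * (γ * c * γ⁻¹) := by rw [hAE, hAD']
  have hZED : Commute Z (E⁻¹ * (γ * c * γ⁻¹)) := hZE.inv_right.mul_right hZD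
  have e3 : Z * (E⁻¹ * (γ * c * γ⁻¹)) * Z⁻¹ = E⁻¹ * (γ * c * γ⁻¹) := by
    rw [hZED.eq, mul_assoc, mul_inv_cancel, mul_one]
  have e4 : P * R * P⁻¹ = E⁻¹ * (γ * c * γ⁻¹) := by
    rw [hP, hR]
    calc Z * A * γ * (E * c) * (Z * A * γ)⁻¹
        = Z * (A * (γ * (E * c) * γ⁻¹) * A⁻¹) * Z⁻¹ := by group
      _ = E⁻¹ * (γ * c * γ⁻¹) := by rw [e1, e2, e3]
  rw [e4, hR] at hPR
  have h5 : E⁻¹ * (γ * c * γ⁻¹) * (E * c) = E⁻¹ * ((γ * c * γ⁻¹) * E) * c := by group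
  rw [h5, ← hED.eq] at hPR
  have h6 : E⁻¹ * (E * (γ * c * γ⁻¹)) * c = (γ * c * γ⁻¹) * c := by group
  rw [h6] at hPR
  exact eq_inv_of_mul_eq_one_left hPR

/-- an element of odd order inverting an element of odd order centralizes it, and the latter is
trivial -/
theorem jnfin_odd {G : Type*} [Group G] (c γ : G) (h : γ * c * γ⁻¹ = c⁻¹) (m m' : ℕ)
    (hm : Odd m) (hm' : Odd m') (hγ : γ ^ m = 1) (hc : c ^ m' = 1) : c = 1 := by
  have hs : SemiconjBy γ c c⁻¹ := by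
    show γ * c = c⁻¹ * γ
    rw [← h]; group
  have hs' : SemiconjBy γ c⁻¹ c := by
    have := hs.inv_right
    rwa [inv_inv] at this
  have h2 : Commute (γ * γ) c := hs'.mul_left hs
  obtain ⟨k, rfl⟩ := hm
  have hγ' : (γ * γ) ^ (k + 1) = γ := by
    rw [← pow_two, ← pow_mul]
    have e : 2 * (k + 1) = (2 * k + 1) + 1 := by ring
    rw [e, pow_succ, hγ, one_mul]
  have hcomm : Commute γ c := by
    have := h2.pow_left (k + 1)
    rwa [hγ'] at this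
  have hcc : c * c = 1 := by
    have e1 : γ * c = c⁻¹ * γ := hs
    rw [hcomm.eq] at e1
    have e2 : c = c⁻¹ := mul_right_cancel e1
    calc c * c = c * c⁻¹ := by rw [← e2]
      _ = 1 := mul_inv_cancel c
  obtain ⟨k', rfl⟩ := hm'
  rw [pow_succ, pow_mul, pow_two, hcc, one_pow, one_mul] at hc
  exact hc

/-- the statement for a homomorphism with kernel `Q` -/
theorem jnfin_hom {X G : Type*} [Group X] [Group G] (π : X →* G) (Q C : Subgroup X)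
    (hker : ∀ g : X, π g = 1 ↔ g ∈ Q) (hQ : Q.Normal) (hC : C.Normal)
    (hodd : ∀ c ∈ C, ∃ m : ℕ, Odd m ∧ c ^ m ∈ Q) (y a x : X) (j : ℕ) (c γ : X) (hc : c ∈ C)
    (hγ : γ ∈ C) (hy : ∀ d ∈ C, ⁅y, d⁆ ∈ Q) (ha : ∀ d ∈ C, ⁅a, d⁆ ∈ Q)
    (hay : a * y * a⁻¹ * y ∈ Q)
    (hxy : x * y * x⁻¹ = y * c ∨ x * y * x⁻¹ = y⁻¹ * c)
    (hxa : x * a * x⁻¹ = y ^ j * a * γ) : c ∈ Q := by
  have hcomm_y : ∀ d ∈ C, Commute (π y) (π d) := by
    intro d hd
    have h := (hker _).mpr (hy d hd)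
    rw [map_commutatorElement] at h
    exact commutatorElement_eq_one_iff_commute.mp h
  have hcomm_a : ∀ d ∈ C, Commute (π a) (π d) := by
    intro d hd
    have h := (hker _).mpr (ha d hd)
    rw [map_commutatorElement] at h
    exact commutatorElement_eq_one_iff_commute.mp h
  have hD : γ * c * γ⁻¹ ∈ C := hC.conj_mem c hc γ
  have hπD : π (γ * c * γ⁻¹) = π γ * π c * (π γ)⁻¹ := by rw [map_mul, map_mul, map_inv]
  have hyD : Commute (π y) (π γ * π c * (π γ)⁻¹) := by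
    rw [← hπD]; exact hcomm_y _ hD
  have haD : Commute (π a) (π γ * π c * (π γ)⁻¹) := by
    rw [← hπD]; exact hcomm_a _ hD
  have h1 : π a * π y * (π a)⁻¹ * π y = 1 := by
    rw [← map_inv, ← map_mul, ← map_mul, ← map_mul]
    exact (hker _).mpr hay
  have hAY : π a * π y * (π a)⁻¹ = (π y)⁻¹ := eq_inv_of_mul_eq_one_left h1
  have hPR : π (x * a * x⁻¹) * π (x * y * x⁻¹) * (π (x * a * x⁻¹))⁻¹ * π (x * y * x⁻¹) = 1 := by
    have e : x * a * x⁻¹ * (x * y * x⁻¹) * (x * a * x⁻¹)⁻¹ * (x * y * x⁻¹) =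
        x * (a * y * a⁻¹ * y) * x⁻¹ := by group
    rw [← map_inv, ← map_mul, ← map_mul, ← map_mul, e, hker]
    exact hQ.conj_mem _ hay x
  have hP : π (x * a * x⁻¹) = (π y) ^ j * π a * π γ := by
    rw [hxa, map_mul, map_mul, map_pow]
  have key : π γ * π c * (π γ)⁻¹ = (π c)⁻¹ := by
    rcases hxy with h | h
    · have hR : π (x * y * x⁻¹) = π y * π c := by rw [h, map_mul]
      exact jnfin_core ((π y) ^ j) (π a) (π y) (π c) (π γ) _ _ hAY (hcomm_y γ hγ) hyD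
        ((Commute.refl (π y)).pow_left j) (hyD.pow_left j) haD hP hR hPR
    · have hR : π (x * y * x⁻¹) = (π y)⁻¹ * π c := by rw [h, map_mul, map_inv]
      have hAY' : π a * (π y)⁻¹ * (π a)⁻¹ = ((π y)⁻¹)⁻¹ := by
        rw [inv_inv]
        have e : π a * (π y)⁻¹ * (π a)⁻¹ = (π a * π y * (π a)⁻¹)⁻¹ := by group
        rw [e, hAY, inv_inv]
      exact jnfin_core ((π y) ^ j) (π a) (π y)⁻¹ (π c) (π γ) _ _ hAY' (hcomm_y γ hγ).inv_left
        hyD.inv_left ((Commute.refl (π y)).pow_left j).inv_right (hyD.pow_left j) haD hP hR hPR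
  obtain ⟨m, hm, hγm⟩ := hodd γ hγ
  obtain ⟨m', hm', hcm⟩ := hodd c hc
  have hγ1 : (π γ) ^ m = 1 := by rw [← map_pow]; exact (hker _).mpr hγm
  have hc1 : (π c) ^ m' = 1 := by rw [← map_pow]; exact (hker _).mpr hcm
  exact (hker c).mp (jnfin_odd (π c) (π γ) key m m' hm hm' hγ1 hc1)

theorem fin : Cfsg.Agent.Lib.Helper78.JN.FinStmt.{u} := by
  intro X _ _ Q C hQ hC _ hodd y a x j c γ hc hγ hy ha hay hxy hxa
  have hQn : Q.Normal := hQ
  exact jnfin_hom (QuotientGroup.mk' Q) Q C (fun g => QuotientGroup.eq_one_iff g) hQ hC hodd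
    y a x j c γ hc hγ hy ha hay hxy hxa

end Cfsg.Agent.Lib.Helper87.JN
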