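import Mathlib

set_option autoImplicit false

/-!
Marks (fixed point counts) of subgroups on transitive sets `G ⧸ E`, for a finite group `G`:
conjugation invariance, vanishing, the value on the diagonal and the Burnside congruence.
-/

namespace Cfsg.Agent.Lib.Helper87

open MulAction

variable {G : Type*} [Group G]

/-- The conjugate subgroup `g D g⁻¹`. -/
def cj (g : G) (D : Subgroup G) : Subgroup G := D.map (MulAut.conj g).toMonoidHom

theorem mem_cj {g : G} {D : Subgroup G} {x : G} : x ∈ cj g D ↔ g⁻¹ * x * g ∈ D := by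
  unfold cj
  constructor
  · rintro ⟨y, hy, rfl⟩
    have : g⁻¹ * ((MulAut.conj g).toMonoidHom y) * g = y := by
      simp [MulAut.conj_apply, mul_assoc]
    rw [this]
    exact hy
  · intro h
    refine ⟨g⁻¹ * x * g, h, ?_⟩
    simp [MulAut.conj_apply, mul_assoc]

theorem cj_one (D : Subgroup G) : cj 1 D = D := by
  ext x
  rw [mem_cj]
  simp

theorem cj_mul (g h : G) (D : Subgroup G) : cj (g * h) D = cj g (cj h D) := by
  ext x
  rw [mem_cj, mem_cj, mem_cj]
  have : (g * h)⁻¹ * x * (g * h) = h⁻¹ * (g⁻¹ * x * g) * h := by group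
  rw [this]

theorem cj_inv_cj (g : G) (D : Subgroup G) : cj g⁻¹ (cj g D) = D := by
  rw [← cj_mul, inv_mul_cancel, cj_one]

theorem cj_cj_inv (g : G) (D : Subgroup G) : cj g (cj g⁻¹ D) = D := by
  rw [← cj_mul, mul_inv_cancel, cj_one]

theorem cj_mono {g : G} {D E : Subgroup G} (h : D ≤ E) : cj g D ≤ cj g E := by
  intro x hx
  rw [mem_cj] at hx ⊢
  exact h hx

theorem card_cj (g : G) (D : Subgroup G) : Nat.card (cj g D) = Nat.card D := by
  unfold cj
  exact Subgroup.card_map_of_injective (MulAut.conj g).injective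

theorem le_cj_iff {g : G} {D E : Subgroup G} :
    D ≤ cj g E ↔ ∀ d ∈ D, g⁻¹ * d * g ∈ E := by
  constructor
  · intro h d hd
    exact mem_cj.mp (h hd)
  · intro h d hd
    exact mem_cj.mpr (h d hd)

theorem mem_normalizer_of_conj_le [Finite G] {D : Subgroup G} {g : G}
    (h : ∀ d ∈ D, g⁻¹ * d * g ∈ D) : g ∈ Subgroup.normalizer (D : Set G) := by
  have hle : D ≤ cj g D := le_cj_iff.mpr h
  have heq : D = cj g D :=
    Subgroup.eq_of_le_of_card_ge hle (by rw [card_cj])
  rw [Subgroup.mem_normalizer_iff]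
  intro x
  constructor
  · intro hx
    have : g * x * g⁻¹ ∈ cj g D := by
      rw [mem_cj]
      have : g⁻¹ * (g * x * g⁻¹) * g = x := by group
      rw [this]
      exact hx
    rw [← heq] at this
    exact this
  · intro hx
    have := h _ hx
    have e : g⁻¹ * (g * x * g⁻¹) * g = x := by group
    rw [e] at this
    exact this

theorem conj_mem_of_mem_normalizer' {D : Subgroup G} {g : G}
    (hg : g ∈ Subgroup.normalizer (D : Set G)) {d : G} (hd : d ∈ D) : g⁻¹ * d * g ∈ D := by
  rw [Subgroup.mem_normalizer_iff] at hg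
  rw [hg]
  have : g * (g⁻¹ * d * g) * g⁻¹ = d := by group
  rw [this]
  exact hd

/-- The number of points of `G ⧸ E` fixed by `D`. -/
noncomputable def fp (E D : Subgroup G) : ℕ := Nat.card (fixedPoints D (G ⧸ E))

theorem mem_fixedPoints_mk {E D : Subgroup G} (g : G) :
    (g : G ⧸ E) ∈ fixedPoints D (G ⧸ E) ↔ ∀ d ∈ D, g⁻¹ * d * g ∈ E := by
  rw [mem_fixedPoints]
  constructor
  · intro h d hd
    have h1 := h ⟨d, hd⟩
    have h2 : ((d * g : G) : G ⧸ E) = (g : G ⧸ E) := h1
    rw [QuotientGroup.eq] at h2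
    have h3 : ((d * g)⁻¹ * g)⁻¹ ∈ E := E.inv_mem h2
    have e : ((d * g)⁻¹ * g)⁻¹ = g⁻¹ * d * g := by group
    rw [e] at h3
    exact h3
  · rintro h ⟨d, hd⟩
    change ((d * g : G) : G ⧸ E) = (g : G ⧸ E)
    rw [QuotientGroup.eq]
    have h3 := E.inv_mem (h d hd)
    have e : (g⁻¹ * d * g)⁻¹ = (d * g)⁻¹ * g := by group
    rw [e] at h3
    exact h3

theorem card_mul_fp (E D : Subgroup G) :
    Nat.card E * fp E D = Nat.card {g : G // ∀ d ∈ D, g⁻¹ * d * g ∈ E} := by
  have hset : {g : G | ∀ d ∈ D, g⁻¹ * d * g ∈ E} =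
      QuotientGroup.mk ⁻¹' (fixedPoints D (G ⧸ E)) := by
    ext g
    rw [Set.mem_preimage, mem_fixedPoints_mk]
    rfl
  have e := QuotientGroup.preimageMkEquivSubgroupProdSet E (fixedPoints D (G ⧸ E))
  have h1 : Nat.card {g : G // ∀ d ∈ D, g⁻¹ * d * g ∈ E} =
      Nat.card (QuotientGroup.mk ⁻¹' (fixedPoints D (G ⧸ E)) : Set G) := by
    rw [← hset]
    rfl
  rw [h1, Nat.card_congr e, Nat.card_prod]
  rfl

theorem fp_cj_right [Finite G] (E D : Subgroup G) (g : G) : fp E (cj g D) = fp E D := by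
  have h1 := card_mul_fp E (cj g D)
  have h2 := card_mul_fp E D
  have e : {h : G // ∀ d ∈ cj g D, h⁻¹ * d * h ∈ E} ≃ {h : G // ∀ d ∈ D, h⁻¹ * d * h ∈ E} :=
    { toFun := fun h => ⟨g⁻¹ * h.1, fun d hd => by
        have := h.2 (g * d * g⁻¹) (by
          rw [mem_cj]
          have : g⁻¹ * (g * d * g⁻¹) * g = d := by group
          rw [this]; exact hd)
        have e : (g⁻¹ * h.1)⁻¹ * d * (g⁻¹ * h.1) = h.1⁻¹ * (g * d * g⁻¹) * h.1 := by group
        rw [e]; exact this⟩
      invFun := fun h => ⟨g * h.1, fun d hd => by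
        have := h.2 (g⁻¹ * d * g) (mem_cj.mp hd)
        have e : (g * h.1)⁻¹ * d * (g * h.1) = h.1⁻¹ * (g⁻¹ * d * g) * h.1 := by group
        rw [e]; exact this⟩
      left_inv := fun h => by simp
      right_inv := fun h => by simp }
  rw [Nat.card_congr e, ← h2] at h1
  exact Nat.eq_of_mul_eq_mul_left Nat.card_pos h1

theorem fp_cj_left [Finite G] (E D : Subgroup G) (g : G) : fp (cj g E) D = fp E D := by
  have h1 := card_mul_fp (cj g E) D
  have h2 := card_mul_fp E D
  have e : {h : G // ∀ d ∈ D, h⁻¹ * d * h ∈ cj g E} ≃ {h : G // ∀ d ∈ D, h⁻¹ * d * h ∈ E} :=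
    { toFun := fun h => ⟨h.1 * g, fun d hd => by
        have := mem_cj.mp (h.2 d hd)
        have e : (h.1 * g)⁻¹ * d * (h.1 * g) = g⁻¹ * (h.1⁻¹ * d * h.1) * g := by group
        rw [e]; exact this⟩
      invFun := fun h => ⟨h.1 * g⁻¹, fun d hd => by
        rw [mem_cj]
        have := h.2 d hd
        have e : g⁻¹ * ((h.1 * g⁻¹)⁻¹ * d * (h.1 * g⁻¹)) * g = h.1⁻¹ * d * h.1 := by group
        rw [e]; exact this⟩
      left_inv := fun h => by simp
      right_inv := fun h => by simp }
  rw [Nat.card_congr e, ← h2, card_cj] at h1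
  exact Nat.eq_of_mul_eq_mul_left Nat.card_pos h1

theorem exists_of_fp_ne_zero [Finite G] {E D : Subgroup G} (h : fp E D ≠ 0) :
    ∃ g : G, D ≤ cj g E := by
  by_contra hne
  push Not at hne
  have h1 := card_mul_fp E D
  have hempty : IsEmpty {g : G // ∀ d ∈ D, g⁻¹ * d * g ∈ E} := by
    constructor
    rintro ⟨g, hg⟩
    exact hne g (le_cj_iff.mpr hg)
  have h0 : Nat.card {g : G // ∀ d ∈ D, g⁻¹ * d * g ∈ E} = 0 := Nat.card_of_isEmpty
  rw [h0] at h1
  rcases Nat.mul_eq_zero.mp h1 with h2 | h2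
  · exact (Nat.card_pos (α := E)).ne' h2
  · exact h h2

theorem fp_self_mul [Finite G] (E : Subgroup G) :
    Nat.card E * fp E E = Nat.card (Subgroup.normalizer (E : Set G)) := by
  rw [card_mul_fp]
  apply Nat.card_congr
  refine Equiv.subtypeEquivRight ?_
  intro g
  constructor
  · intro h
    exact mem_normalizer_of_conj_le h
  · intro h d hd
    exact conj_mem_of_mem_normalizer' h hd

theorem fp_self_pos [Finite G] (E : Subgroup G) : 0 < fp E E := by
  have h := fp_self_mul E
  by_contra h0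
  have h0' : fp E E = 0 := by omega
  rw [h0', mul_zero] at h
  exact (Nat.card_pos (α := Subgroup.normalizer (E : Set G))).ne h

/-- `fp E D = 0` when `D` has at least as many elements as `E` and is not a conjugate of `E`. -/
theorem fp_eq_zero_of_card [Finite G] {E D : Subgroup G} (hcard : Nat.card E ≤ Nat.card D)
    (hne : ∀ g : G, D ≠ cj g E) : fp E D = 0 := by
  by_contra h
  obtain ⟨g, hg⟩ := exists_of_fp_ne_zero h
  exact hne g (Subgroup.eq_of_le_of_card_ge hg (by rw [card_cj]; exact hcard))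

/-- The Burnside congruence: for `M` normalizing `D`, `#M` divides the sum over `n ∈ M` of the
numbers of fixed points of `⟨D, n⟩` on `G ⧸ E`. -/
theorem burnside_fp [Finite G] (E D M : Subgroup G)
    (hM : M ≤ Subgroup.normalizer (D : Set G)) :
    Nat.card M ∣ ∑ᶠ n : M, fp E (D ⊔ Subgroup.zpowers (n : G)) := by
  classical
  let X : SubMulAction M (G ⧸ E) :=
    { carrier := fixedPoints D (G ⧸ E)
      smul_mem' := by
        intro n z hz
        rw [mem_fixedPoints] at hz ⊢
        rintro ⟨d, hd⟩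
        have hd' : (n : G)⁻¹ * d * n ∈ D := conj_mem_of_mem_normalizer' (hM n.2) hd
        have h1 := hz ⟨_, hd'⟩
        change d • ((n : G) • z) = (n : G) • z
        have h2 : ((n : G)⁻¹ * d * n) • z = z := h1
        calc d • ((n : G) • z) = (n : G) • (((n : G)⁻¹ * d * n) • z) := by
              rw [← mul_smul, ← mul_smul]; congr 1; group
          _ = (n : G) • z := by rw [h2] }
  let _ : Fintype M := Fintype.ofFinite M
  let _ : Fintype X := Fintype.ofFinite X
  have hB := MulAction.sum_card_fixedBy_eq_card_orbits_mul_card_group M X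
  have hterm : ∀ n : M, fp E (D ⊔ Subgroup.zpowers (n : G)) = Fintype.card (fixedBy X n) := by
    intro n
    unfold fp
    rw [← Nat.card_eq_fintype_card]
    apply Nat.card_congr
    refine
      { toFun := fun z => ⟨⟨z.1, ?_⟩, ?_⟩
        invFun := fun z => ⟨z.1.1, ?_⟩
        left_inv := fun z => rfl
        right_inv := fun z => rfl }
    · have hz := z.2
      rw [mem_fixedPoints] at hz
      change z.1 ∈ fixedPoints D (G ⧸ E)
      rw [mem_fixedPoints]
      rintro ⟨d, hd⟩
      exact hz ⟨d, (le_sup_left : D ≤ D ⊔ Subgroup.zpowers (n : G)) hd⟩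
    · rw [mem_fixedBy]
      apply Subtype.ext
      have hz := z.2
      rw [mem_fixedPoints] at hz
      exact hz ⟨n, (le_sup_right : Subgroup.zpowers (n : G) ≤ D ⊔ Subgroup.zpowers (n : G))
        (Subgroup.mem_zpowers (n : G))⟩
    · have hz1 : z.1.1 ∈ fixedPoints D (G ⧸ E) := z.1.2
      have hz2 : n • z.1 = z.1 := z.2
      have hz2' : (n : G) • z.1.1 = z.1.1 := congrArg Subtype.val hz2
      rw [mem_fixedPoints]
      rintro ⟨d, hd⟩
      have hle : D ⊔ Subgroup.zpowers (n : G) ≤ stabilizer G z.1.1 := by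
        apply sup_le
        · intro d hd
          rw [mem_stabilizer_iff]
          rw [mem_fixedPoints] at hz1
          exact hz1 ⟨d, hd⟩
        · rw [Subgroup.zpowers_le, mem_stabilizer_iff]
          exact hz2'
      exact mem_stabilizer_iff.mp (hle hd)
  rw [finsum_eq_sum_of_fintype]
  rw [Finset.sum_congr rfl (fun n _ => hterm n), hB, Nat.card_eq_fintype_card]
  exact Dvd.intro_left _ rfl

end Cfsg.Agent.Lib.Helper87
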