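import Mathlib

/-!
# S2249 piece B2B (helper87): commuting elements of order dividing 8 are simultaneously conjugate
into a given Sylow 2-subgroup
-/

set_option autoImplicit false

namespace Cfsg.Agent.Lib.Helper87.NRank

theorem conj_into_sylow {G : Type*} [Group G] [Finite G] (S : Sylow 2 G) {m : ℕ}
    (a : Fin m → G) (hcomm : ∀ i j, a i * a j = a j * a i) (hord : ∀ i, a i ^ 8 = 1) :
    ∃ g : G, ∀ i, g * a i * g⁻¹ ∈ S := by
  -- the subgroup generated by the `a i`
  have hgen : ∀ i, a i ∈ Subgroup.closure (Set.range a) :=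
    fun i => Subgroup.subset_closure (Set.mem_range_self i)
  -- it centralizes each `a i`
  have h1 : ∀ x ∈ Subgroup.closure (Set.range a), ∀ i, x * a i = a i * x := by
    intro x hx i
    have hle : Subgroup.closure (Set.range a) ≤ Subgroup.centralizer ({a i} : Set G) := by
      rw [Subgroup.closure_le]
      rintro _ ⟨j, rfl⟩
      rw [SetLike.mem_coe, Subgroup.mem_centralizer_iff]
      intro y hy
      rw [Set.mem_singleton_iff] at hy
      rw [hy]
      exact hcomm i j
    have := Subgroup.mem_centralizer_iff.mp (hle hx) (a i) (Set.mem_singleton _)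
    exact this.symm
  -- it is commutative
  have h2 : ∀ x ∈ Subgroup.closure (Set.range a), ∀ y ∈ Subgroup.closure (Set.range a),
      x * y = y * x := by
    intro x hx y hy
    have hle : Subgroup.closure (Set.range a) ≤ Subgroup.centralizer ({x} : Set G) := by
      rw [Subgroup.closure_le]
      rintro _ ⟨j, rfl⟩
      rw [SetLike.mem_coe, Subgroup.mem_centralizer_iff]
      intro z hz
      rw [Set.mem_singleton_iff] at hz
      rw [hz]
      exact h1 x hx j
    have := Subgroup.mem_centralizer_iff.mp (hle hy) x (Set.mem_singleton _)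
    exact this
  -- every element has order dividing 8
  have h3 : ∀ x ∈ Subgroup.closure (Set.range a), x ^ 8 = 1 := by
    intro x hx
    induction hx using Subgroup.closure_induction with
    | mem y hy =>
      obtain ⟨j, rfl⟩ := hy
      exact hord j
    | one => exact one_pow 8
    | mul y z hy hz ihy ihz =>
      have hc : Commute y z := h2 y hy z hz
      rw [hc.mul_pow, ihy, ihz, one_mul]
    | inv y hy ihy => rw [inv_pow, ihy, inv_one]
  have hp : IsPGroup 2 (Subgroup.closure (Set.range a)) := by
    intro x
    refine ⟨3, ?_⟩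
    apply Subtype.ext
    rw [Subgroup.coe_pow, Subgroup.coe_one]
    exact h3 x.1 x.2
  obtain ⟨Q, hQ⟩ := hp.exists_le_sylow
  obtain ⟨g, hg⟩ := MulAction.exists_smul_eq G Q S
  refine ⟨g, fun i => ?_⟩
  have hmem : a i ∈ (Q : Subgroup G) := hQ (hgen i)
  rw [← hg]
  show g * a i * g⁻¹ ∈ ((g • Q : Sylow 2 G) : Subgroup G)
  rw [Sylow.coe_subgroup_smul]
  have := Subgroup.smul_mem_pointwise_smul (a i) (MulAut.conj g) (Q : Subgroup G) hmem
  rw [MulAut.smul_def, MulAut.conj_apply] at this
  exact this

end Cfsg.Agent.Lib.Helper87.NRank
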