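import Mathlib

/-!
# S2249 piece EAL (helper87): elementary abelian 2-subgroups of `GL_n(F)`, `char F ≠ 2`, have
order at most `2 ^ n`
-/

set_option autoImplicit false

namespace Cfsg.Agent.Lib.Helper87.NRank

universe u v

open Matrix

/-- A set of pairwise commuting involutions of a `d`-dimensional space over a finite field in
which `2 ≠ 0` has at most `2 ^ d` elements. -/
theorem EAL_card_comm_invol_le {F : Type u} [Field F] [Finite F] (h2 : (2 : F) ≠ 0) (d : ℕ) :
    ∀ (V : Type v) [AddCommGroup V] [Module F V] [FiniteDimensional F V]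
      (T : Set (V →ₗ[F] V)), Module.finrank F V = d →
      (∀ a ∈ T, a ∘ₗ a = LinearMap.id) → (∀ a ∈ T, ∀ b ∈ T, a ∘ₗ b = b ∘ₗ a) →
      T.ncard ≤ 2 ^ d := by
  induction d using Nat.strong_induction_on with
  | _ d ih =>
  intro V _ _ _ T hd hinv hcomm
  have hfinV : Finite V := Module.finite_of_finite F
  have hfinE : Finite (V →ₗ[F] V) := DFunLike.finite _
  by_cases hall : ∀ a ∈ T, a = 1 ∨ a = -1
  · rcases Nat.eq_zero_or_pos d with hd0 | hdpos
    · subst hd0
      have hsub : Subsingleton V := Module.finrank_zero_iff.mp hd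
      have hsub2 : Subsingleton (V →ₗ[F] V) :=
        ⟨fun a b => LinearMap.ext fun v => Subsingleton.elim _ _⟩
      simpa using Set.ncard_le_one_of_subsingleton T
    · have hsub : T ⊆ {1, -1} := by
        intro a ha
        rcases hall a ha with h | h
        · rw [h]; exact Set.mem_insert _ _
        · rw [h]; exact Set.mem_insert_of_mem _ rfl
      calc T.ncard ≤ ({1, -1} : Set (V →ₗ[F] V)).ncard :=
            Set.ncard_le_ncard hsub (Set.toFinite _)
        _ ≤ 2 := (Set.ncard_insert_le _ _).trans (by rw [Set.ncard_singleton])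
        _ = 2 ^ 1 := rfl
        _ ≤ 2 ^ d := Nat.pow_le_pow_right (by norm_num) hdpos
  · push Not at hall
    obtain ⟨g, hgT, hg1, hg2⟩ := hall
    have hsq : ∀ a ∈ T, ∀ v, a (a v) = v := by
      intro a ha v
      have := congrArg (fun f : V →ₗ[F] V => f v) (hinv a ha)
      simpa using this
    have hgg := hsq g hgT
    have memP : ∀ v, v ∈ LinearMap.ker (g - 1) ↔ g v = v := by
      intro v
      rw [LinearMap.mem_ker, LinearMap.sub_apply, sub_eq_zero]
      rfl
    have memM : ∀ v, v ∈ LinearMap.ker (g + 1) ↔ g v = -v := by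
      intro v
      rw [LinearMap.mem_ker, LinearMap.add_apply, ← eq_neg_iff_add_eq_zero]
      rfl
    have hdisj : Disjoint (LinearMap.ker (g - 1)) (LinearMap.ker (g + 1)) := by
      rw [Submodule.disjoint_def]
      intro v hvP hvM
      have e1 := (memP v).mp hvP
      have e2 := (memM v).mp hvM
      have e3 : (2 : F) • v = 0 := by
        rw [two_smul]
        have : v = -v := e1.symm.trans e2
        exact eq_neg_iff_add_eq_zero.mp this
      exact (smul_eq_zero.mp e3).resolve_left h2
    have hcodisj : Codisjoint (LinearMap.ker (g - 1)) (LinearMap.ker (g + 1)) := by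
      rw [codisjoint_iff, eq_top_iff]
      intro v _
      have hv : v = (2 : F)⁻¹ • (v + g v) + (2 : F)⁻¹ • (v - g v) := by
        rw [← smul_add]
        have : v + g v + (v - g v) = (2 : F) • v := by rw [two_smul]; abel
        rw [this, smul_smul, inv_mul_cancel₀ h2, one_smul]
      rw [hv]
      apply Submodule.add_mem_sup
      · apply Submodule.smul_mem
        rw [memP, map_add, hgg, add_comm]
      · apply Submodule.smul_mem
        rw [memM, map_sub, hgg, neg_sub]
    have hc : IsCompl (LinearMap.ker (g - 1)) (LinearMap.ker (g + 1)) := ⟨hdisj, hcodisj⟩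
    have hdim : Module.finrank F (LinearMap.ker (g - 1)) + Module.finrank F (LinearMap.ker (g + 1))
        = d := by
      rw [← hd]; exact Submodule.finrank_add_eq_of_isCompl hc
    have hPtop : LinearMap.ker (g - 1) ≠ ⊤ := by
      intro h
      apply hg1
      ext v
      have : v ∈ LinearMap.ker (g - 1) := by rw [h]; exact Submodule.mem_top
      exact (memP v).mp this
    have hMtop : LinearMap.ker (g + 1) ≠ ⊤ := by
      intro h
      apply hg2
      ext v
      have : v ∈ LinearMap.ker (g + 1) := by rw [h]; exact Submodule.mem_top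
      exact (memM v).mp this
    have hPlt : Module.finrank F (LinearMap.ker (g - 1)) < d := by
      rw [← hd]; exact Submodule.finrank_lt hPtop
    have hMlt : Module.finrank F (LinearMap.ker (g + 1)) < d := by
      rw [← hd]; exact Submodule.finrank_lt hMtop
    have hinvP : ∀ a ∈ T, ∀ v ∈ LinearMap.ker (g - 1), a v ∈ LinearMap.ker (g - 1) := by
      intro a ha v hv
      rw [memP] at hv ⊢
      have := congrArg (fun f : V →ₗ[F] V => f v) (hcomm g hgT a ha)
      simp only [LinearMap.comp_apply] at this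
      rw [this, hv]
    have hinvM : ∀ a ∈ T, ∀ v ∈ LinearMap.ker (g + 1), a v ∈ LinearMap.ker (g + 1) := by
      intro a ha v hv
      rw [memM] at hv ⊢
      have := congrArg (fun f : V →ₗ[F] V => f v) (hcomm g hgT a ha)
      simp only [LinearMap.comp_apply] at this
      rw [this, hv, map_neg]
    -- the restriction maps
    obtain ⟨rP, hrP⟩ : ∃ rP : (V →ₗ[F] V) → (LinearMap.ker (g - 1) →ₗ[F] LinearMap.ker (g - 1)),
        ∀ a ∈ T, ∀ w : LinearMap.ker (g - 1), ((rP a w : LinearMap.ker (g - 1)) : V) = a w := by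
      refine ⟨fun a => (Submodule.projectionOnto _ _ hc) ∘ₗ a ∘ₗ (Submodule.subtype _), ?_⟩
      intro a ha w
      exact congrArg Subtype.val
        (Submodule.projectionOnto_apply_left hc ⟨a w, hinvP a ha w w.2⟩)
    obtain ⟨rM, hrM⟩ : ∃ rM : (V →ₗ[F] V) → (LinearMap.ker (g + 1) →ₗ[F] LinearMap.ker (g + 1)),
        ∀ a ∈ T, ∀ w : LinearMap.ker (g + 1), ((rM a w : LinearMap.ker (g + 1)) : V) = a w := by
      refine ⟨fun a => (Submodule.projectionOnto _ _ hc.symm) ∘ₗ a ∘ₗ (Submodule.subtype _), ?_⟩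
      intro a ha w
      exact congrArg Subtype.val
        (Submodule.projectionOnto_apply_left hc.symm ⟨a w, hinvM a ha w w.2⟩)
    have hTP : (rP '' T).ncard ≤ 2 ^ Module.finrank F (LinearMap.ker (g - 1)) := by
      apply ih _ hPlt _ (rP '' T) rfl
      · rintro _ ⟨a, ha, rfl⟩
        ext w
        show ((rP a (rP a w) : LinearMap.ker (g - 1)) : V) = w
        rw [hrP a ha, hrP a ha, hsq a ha]
      · rintro _ ⟨a, ha, rfl⟩ _ ⟨b, hb, rfl⟩
        ext w
        show ((rP a (rP b w) : LinearMap.ker (g - 1)) : V) = ((rP b (rP a w) :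
          LinearMap.ker (g - 1)) : V)
        rw [hrP a ha, hrP b hb, hrP b hb, hrP a ha]
        have := congrArg (fun f : V →ₗ[F] V => f (w : V)) (hcomm a ha b hb)
        simpa using this
    have hTM : (rM '' T).ncard ≤ 2 ^ Module.finrank F (LinearMap.ker (g + 1)) := by
      apply ih _ hMlt _ (rM '' T) rfl
      · rintro _ ⟨a, ha, rfl⟩
        ext w
        show ((rM a (rM a w) : LinearMap.ker (g + 1)) : V) = w
        rw [hrM a ha, hrM a ha, hsq a ha]
      · rintro _ ⟨a, ha, rfl⟩ _ ⟨b, hb, rfl⟩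
        ext w
        show ((rM a (rM b w) : LinearMap.ker (g + 1)) : V) = ((rM b (rM a w) :
          LinearMap.ker (g + 1)) : V)
        rw [hrM a ha, hrM b hb, hrM b hb, hrM a ha]
        have := congrArg (fun f : V →ₗ[F] V => f (w : V)) (hcomm a ha b hb)
        simpa using this
    have hinj : Set.InjOn (fun a => (rP a, rM a)) T := by
      intro a ha b hb hab
      have hab' : rP a = rP b ∧ rM a = rM b := Prod.mk.inj hab
      obtain ⟨h1, h2'⟩ := hab'
      ext v
      have hv : v ∈ LinearMap.ker (g - 1) ⊔ LinearMap.ker (g + 1) := by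
        rw [codisjoint_iff.mp hcodisj]; exact Submodule.mem_top
      obtain ⟨p, hp, q, hq, rfl⟩ := Submodule.mem_sup.mp hv
      rw [map_add, map_add]
      have e1 : a p = b p := by
        rw [← hrP a ha ⟨p, hp⟩, ← hrP b hb ⟨p, hp⟩, h1]
      have e2 : a q = b q := by
        rw [← hrM a ha ⟨q, hq⟩, ← hrM b hb ⟨q, hq⟩, h2']
      rw [e1, e2]
    have hfinP : Finite (LinearMap.ker (g - 1) →ₗ[F] LinearMap.ker (g - 1)) := DFunLike.finite _
    have hfinM : Finite (LinearMap.ker (g + 1) →ₗ[F] LinearMap.ker (g + 1)) := DFunLike.finite _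
    calc T.ncard ≤ ((rP '' T) ×ˢ (rM '' T)).ncard :=
          Set.ncard_le_ncard_of_injOn (fun a => (rP a, rM a))
            (fun a ha => Set.mk_mem_prod (Set.mem_image_of_mem _ ha) (Set.mem_image_of_mem _ ha))
            hinj (Set.toFinite _)
      _ = (rP '' T).ncard * (rM '' T).ncard := Set.ncard_prod
      _ ≤ 2 ^ Module.finrank F (LinearMap.ker (g - 1)) *
            2 ^ Module.finrank F (LinearMap.ker (g + 1)) := Nat.mul_le_mul hTP hTM
      _ = 2 ^ d := by rw [← pow_add, hdim]

theorem gl_two_rank {F : Type u} [Field F] [Fintype F] (h2 : (2 : F) ≠ 0) (n : ℕ)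
    (E : Subgroup (GL (Fin n) F)) (hcomm : ∀ a ∈ E, ∀ b ∈ E, a * b = b * a)
    (hexp : ∀ a ∈ E, a ^ 2 = 1) : Nat.card E ≤ 2 ^ n := by
  obtain ⟨f, hfdef⟩ : ∃ f : E → ((Fin n → F) →ₗ[F] (Fin n → F)),
      ∀ e : E, f e = Matrix.toLin' ((e : GL (Fin n) F) : Matrix (Fin n) (Fin n) F) :=
    ⟨fun e => Matrix.toLin' ((e : GL (Fin n) F) : Matrix (Fin n) (Fin n) F), fun _ => rfl⟩
  have hf : Function.Injective f := by
    intro x y hxy
    rw [hfdef, hfdef] at hxy
    apply Subtype.ext
    apply Units.ext
    exact Matrix.toLin'.injective hxy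
  have hcard : Nat.card E = (Set.range f).ncard := by
    rw [← Nat.card_coe_set_eq, Nat.card_range_of_injective hf]
  rw [hcard]
  apply EAL_card_comm_invol_le h2 n (Fin n → F) (Set.range f) (by simp)
  · rintro _ ⟨e, rfl⟩
    rw [hfdef, ← Matrix.toLin'_mul, ← Matrix.toLin'_one]
    congr 1
    have h := congrArg (fun x : GL (Fin n) F => (x : Matrix (Fin n) (Fin n) F)) (hexp e.1 e.2)
    simpa [pow_two] using h
  · rintro _ ⟨a, rfl⟩ _ ⟨b, rfl⟩
    rw [hfdef, hfdef, ← Matrix.toLin'_mul, ← Matrix.toLin'_mul]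
    congr 1
    have h := congrArg (fun x : GL (Fin n) F => (x : Matrix (Fin n) (Fin n) F))
      (hcomm a.1 a.2 b.1 b.2)
    simpa using h

end Cfsg.Agent.Lib.Helper87.NRank
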