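import Mathlib
import Cfsg.Prelude.Def_GeometricClasses
import Cfsg.Prelude.Def_LieClassical

/-!
# Project OMP (architect helper71): piece O4 (helper87)

A group of isometries of a non-degenerate quadratic form in odd dimension `n` whose commutant has
a field subalgebra of degree `n` in its centre is scalar.
-/

set_option autoImplicit false

namespace Cfsg.Agent.Lib.Helper87.OMPO4

open Matrix Cfsg.Geo

/-- a field subalgebra of degree `n` of `M_n(F)` is its own centraliser (the argument of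
`Cfsg.Agent.Lib.Helper20.SUPU4.U4_cent`, repeated here to keep the imports light). -/
theorem o4_cent {n : ℕ} {F : Type*} [Field F] (hn : 1 ≤ n)
    (K : Subalgebra F (Matrix (Fin n) (Fin n) F))
    (hK : IsFieldSubalgebra n K) (X : Matrix (Fin n) (Fin n) F)
    (hX : ∀ z ∈ K, z * X = X * z) : X ∈ K := by
  classical
  obtain ⟨v₀, hv₀⟩ : ∃ v₀ : Fin n → F, v₀ ≠ 0 := ⟨fun _ => 1, by
    intro h
    have := congrFun h ⟨0, by omega⟩
    simp at this⟩
  let φ : K →ₗ[F] (Fin n → F) :=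
    { toFun := fun k => (k : Matrix (Fin n) (Fin n) F) *ᵥ v₀
      map_add' := fun a b => by
        show ((a + b : K) : Matrix (Fin n) (Fin n) F) *ᵥ v₀ = _
        rw [Subalgebra.coe_add, Matrix.add_mulVec]
      map_smul' := fun c a => by
        show ((c • a : K) : Matrix (Fin n) (Fin n) F) *ᵥ v₀ = _
        rw [Subalgebra.coe_smul, Matrix.smul_mulVec]
        rfl }
  have hφ : ∀ k : K, φ k = (k : Matrix (Fin n) (Fin n) F) *ᵥ v₀ := fun _ => rfl
  have hinj : Function.Injective φ := by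
    rw [injective_iff_map_eq_zero]
    intro k hk
    by_contra hk0
    have hk0' : (k : Matrix (Fin n) (Fin n) F) ≠ 0 := fun h => hk0 (Subtype.ext h)
    obtain ⟨y, hy, hky⟩ := hK.inv k.1 k.2 hk0'
    have hyk : y * k.1 = 1 := by rw [hK.comm y hy k.1 k.2]; exact hky
    apply hv₀
    have h1 : v₀ = (y * k.1) *ᵥ v₀ := by rw [hyk, Matrix.one_mulVec]
    have hk' : k.1 *ᵥ v₀ = 0 := hk
    rw [h1, ← Matrix.mulVec_mulVec, hk', Matrix.mulVec_zero]
  have hfin : Module.finrank F K = Module.finrank F (Fin n → F) := by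
    rw [hK.finrank_eq, Module.finrank_fin_fun]
  have hsurj : Function.Surjective φ :=
    (LinearMap.injective_iff_surjective_of_finrank_eq_finrank hfin).1 hinj
  obtain ⟨k₀, hk₀⟩ := hsurj (X *ᵥ v₀)
  have hk₀' : k₀.1 *ᵥ v₀ = X *ᵥ v₀ := hk₀
  have hXk : X = k₀.1 := by
    apply Matrix.toLin'.injective
    apply LinearMap.ext
    intro v
    obtain ⟨k, hk⟩ := hsurj v
    have hk' : k.1 *ᵥ v₀ = v := hk
    rw [Matrix.toLin'_apply, Matrix.toLin'_apply, ← hk', Matrix.mulVec_mulVec, ← hX k.1 k.2,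
      ← Matrix.mulVec_mulVec, ← hk₀', Matrix.mulVec_mulVec, Matrix.mulVec_mulVec,
      hK.comm k.1 k.2 k₀.1 k₀.2]
  rw [hXk]
  exact k₀.2

/-- a bilinear form is given by its Gram matrix -/
theorem o4_gram {n : ℕ} {F : Type*} [Field F] (b : (Fin n → F) → (Fin n → F) → F)
    (hb : IsBilinearForm b) :
    ∃ G : Matrix (Fin n) (Fin n) F, ∀ u v, b u v = u ⬝ᵥ (G *ᵥ v) := by
  let B : (Fin n → F) →ₗ[F] (Fin n → F) →ₗ[F] F :=
    LinearMap.mk₂ F b hb.add_left hb.smul_left hb.add_right hb.smul_right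
  refine ⟨LinearMap.toMatrix₂' F B, fun u v => ?_⟩
  rw [← Matrix.toLinearMap₂'_apply', Matrix.toLinearMap₂'_toMatrix']
  rfl

/-- equality of the bilinear forms of two matrices gives equality of the matrices -/
theorem o4_mat_ext {n : ℕ} {F : Type*} [Field F] (M N : Matrix (Fin n) (Fin n) F)
    (h : ∀ u v : Fin n → F, u ⬝ᵥ (M *ᵥ v) = u ⬝ᵥ (N *ᵥ v)) : M = N := by
  ext i j
  have := h (Pi.single i 1) (Pi.single j 1)
  simpa [Matrix.mulVec_single_one, single_one_dotProduct] using this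

variable {n : ℕ} {F : Type*} [Field F] [Fintype F]

/-- O4: a group of isometries (`n` odd) whose commutant has a field subalgebra of degree `n` in its
centre is scalar. -/
theorem O4 (Q : (Fin n → F) → F) (hQ : IsNondegenerateQuadraticForm Q) (h2 : (2 : F) ≠ 0)
    (hodd : Odd n) (L : Subgroup (GL (Fin n) F)) (hfix : FixesQuadForm (matrixSet L) Q)
    (K : Subalgebra F (Matrix (Fin n) (Fin n) F)) (hK : IsFieldSubalgebra n K)
    (hKc : ∀ z ∈ K, (∀ x ∈ L, z * x.1 = x.1 * z) ∧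
      ∀ X : Matrix (Fin n) (Fin n) F, (∀ x ∈ L, X * x.1 = x.1 * X) → z * X = X * z) :
    L ≤ scalars (Fin n) F := by
  classical
  have hn : 1 ≤ n := hodd.pos
  have hb : IsBilinearForm (QuadraticMap.polar Q) := hQ.polar_bilinear
  obtain ⟨G, hG⟩ := o4_gram (QuadraticMap.polar Q) hb
  -- the Gram matrix is symmetric
  have hGsymm : Gᵀ = G := by
    apply o4_mat_ext
    intro u v
    rw [Matrix.mulVec_transpose, dotProduct_comm, ← Matrix.dotProduct_mulVec, ← hG, ← hG]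
    exact QuadraticMap.polar_comm Q v u
  -- and invertible
  have hGunit : IsUnit G := by
    rw [← Matrix.mulVec_injective_iff_isUnit]
    intro v w hvw
    by_contra hne
    have hsub : v - w ≠ 0 := sub_ne_zero.mpr hne
    obtain ⟨x, hx⟩ := (hQ.nondegenerate (v - w) hsub).1
    apply hx
    rw [hG, Matrix.mulVec_sub]
    have h0 : G *ᵥ v - G *ᵥ w = 0 := sub_eq_zero.mpr hvw
    rw [h0, dotProduct_zero]
  obtain ⟨Gu, hGu⟩ := hGunit
  obtain ⟨Gi, hGiG, hGGi⟩ : ∃ Gi : Matrix (Fin n) (Fin n) F, Gi * G = 1 ∧ G * Gi = 1 :=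
    ⟨((Gu⁻¹ : (Matrix (Fin n) (Fin n) F)ˣ) : Matrix (Fin n) (Fin n) F),
      by rw [← hGu]; exact Units.inv_mul Gu, by rw [← hGu]; exact Units.mul_inv Gu⟩
  have hGiT : Giᵀ * G = 1 := by
    have h := congrArg Matrix.transpose hGGi
    rw [Matrix.transpose_mul, Matrix.transpose_one, hGsymm] at h
    exact h
  -- the adjoint `X° = G⁻¹ Xᵀ G`
  have adj_mul : ∀ X Y : Matrix (Fin n) (Fin n) F,
      Gi * (X * Y)ᵀ * G = Gi * Yᵀ * G * (Gi * Xᵀ * G) := by
    intro X Y
    rw [Matrix.transpose_mul]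
    calc Gi * (Yᵀ * Xᵀ) * G = Gi * Yᵀ * (1 * (Xᵀ * G)) := by
          rw [one_mul]; simp only [mul_assoc]
      _ = Gi * Yᵀ * (G * Gi * (Xᵀ * G)) := by rw [hGGi]
      _ = Gi * Yᵀ * G * (Gi * Xᵀ * G) := by simp only [mul_assoc]
  have adj_adj : ∀ X : Matrix (Fin n) (Fin n) F, Gi * (Gi * Xᵀ * G)ᵀ * G = X := by
    intro X
    rw [Matrix.transpose_mul, Matrix.transpose_mul, Matrix.transpose_transpose, hGsymm]
    calc Gi * (G * (X * Giᵀ)) * G = (Gi * G) * X * (Giᵀ * G) := by simp only [mul_assoc]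
      _ = X := by rw [hGiG, hGiT, one_mul, mul_one]
  have adj_add : ∀ X Y : Matrix (Fin n) (Fin n) F,
      Gi * (X + Y)ᵀ * G = Gi * Xᵀ * G + Gi * Yᵀ * G := by
    intro X Y
    rw [Matrix.transpose_add, mul_add, add_mul]
  have adj_smul : ∀ (c : F) (X : Matrix (Fin n) (Fin n) F),
      Gi * (c • X)ᵀ * G = c • (Gi * Xᵀ * G) := by
    intro c X
    rw [Matrix.transpose_smul, Matrix.mul_smul, Matrix.smul_mul]
  have adj_sub : ∀ X Y : Matrix (Fin n) (Fin n) F,
      Gi * (X - Y)ᵀ * G = Gi * Xᵀ * G - Gi * Yᵀ * G := by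
    intro X Y
    rw [Matrix.transpose_sub, mul_sub, sub_mul]
  -- the adjoint of an isometry is its inverse
  have adj_L : ∀ x ∈ L, Gi * (x.1)ᵀ * G = (x⁻¹ : GL (Fin n) F).1 := by
    intro x hx
    have hfixb : ∀ u v, QuadraticMap.polar Q (x.1 *ᵥ u) (x.1 *ᵥ v) = QuadraticMap.polar Q u v := by
      intro u v
      unfold QuadraticMap.polar
      rw [← Matrix.mulVec_add, hfix _ ⟨x, hx, rfl⟩, hfix _ ⟨x, hx, rfl⟩, hfix _ ⟨x, hx, rfl⟩]
    have h1 : (x.1)ᵀ * G * x.1 = G := by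
      apply o4_mat_ext
      intro u v
      rw [← hG u v, ← hfixb u v, hG, ← Matrix.mulVec_mulVec, ← Matrix.mulVec_mulVec,
        Matrix.dotProduct_mulVec u, Matrix.vecMul_transpose]
    have h2' : Gi * (x.1)ᵀ * G * x.1 = 1 := by
      rw [mul_assoc, mul_assoc, ← mul_assoc (x.1)ᵀ, h1, hGiG]
    calc Gi * (x.1)ᵀ * G = Gi * (x.1)ᵀ * G * (x.1 * (x⁻¹ : GL (Fin n) F).1) := by
          rw [Units.mul_inv, mul_one]
      _ = (x⁻¹ : GL (Fin n) F).1 := by rw [← mul_assoc, h2', one_mul]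
  -- the adjoint preserves `K`
  have adj_K : ∀ k ∈ K, Gi * kᵀ * G ∈ K := by
    intro k hk
    apply o4_cent hn K hK
    intro z hz
    apply (hKc z hz).2
    intro x hx
    have hxi : x⁻¹ ∈ L := L.inv_mem hx
    have h1 := (hKc k hk).1 x⁻¹ hxi
    have h3 : Gi * (k * (x⁻¹ : GL (Fin n) F).1)ᵀ * G =
        Gi * ((x⁻¹ : GL (Fin n) F).1 * k)ᵀ * G := by rw [h1]
    rw [adj_mul, adj_mul, adj_L _ hxi, inv_inv] at h3
    exact h3.symm
  -- no non-zero skew element in `K`
  have key : ∀ θ ∈ K, Gi * θᵀ * G = -θ → θ = 0 := by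
    intro θ hθ hadj
    by_contra hne
    obtain ⟨θ', hθ', hmul⟩ := hK.inv θ hθ hne
    let τ : ↥K →ₗ[F] ↥K :=
      { toFun := fun k => ⟨Gi * (k.1)ᵀ * G, adj_K k.1 k.2⟩
        map_add' := fun a c => Subtype.ext (adj_add a.1 c.1)
        map_smul' := fun c a => Subtype.ext (adj_smul c a.1) }
    let μ : ↥K →ₗ[F] ↥K := LinearMap.mulLeft F (⟨θ, hθ⟩ : ↥K)
    let ν : ↥K →ₗ[F] ↥K := LinearMap.mulLeft F (⟨θ', hθ'⟩ : ↥K)
    have hττ : τ ∘ₗ τ = LinearMap.id := by
      apply LinearMap.ext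
      intro k
      apply Subtype.ext
      exact adj_adj k.1
    have hμν : μ ∘ₗ ν = LinearMap.id := by
      apply LinearMap.ext
      intro k
      apply Subtype.ext
      show θ * (θ' * k.1) = k.1
      rw [← mul_assoc, hmul, one_mul]
    have hτμ : τ ∘ₗ μ = (-1 : F) • (μ ∘ₗ τ) := by
      apply LinearMap.ext
      intro k
      apply Subtype.ext
      show Gi * (θ * k.1)ᵀ * G = (-1 : F) • (θ * (Gi * (k.1)ᵀ * G))
      rw [adj_mul, hadj, neg_one_smul, mul_neg, hK.comm _ (adj_K k.1 k.2) θ hθ]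
    have hdτ : LinearMap.det τ * LinearMap.det τ = 1 := by
      rw [← LinearMap.det_comp, hττ, LinearMap.det_id]
    have hdμ : LinearMap.det μ * LinearMap.det ν = 1 := by
      rw [← LinearMap.det_comp, hμν, LinearMap.det_id]
    have hd : LinearMap.det τ * LinearMap.det μ =
        (-1 : F) ^ n * (LinearMap.det μ * LinearMap.det τ) := by
      rw [← LinearMap.det_comp, hτμ, LinearMap.det_smul, LinearMap.det_comp, hK.finrank_eq]
    rw [hodd.neg_one_pow] at hd
    have hτ0 : LinearMap.det τ ≠ 0 := by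
      intro h
      rw [h, zero_mul] at hdτ
      exact zero_ne_one hdτ
    have hμ0 : LinearMap.det μ ≠ 0 := by
      intro h
      rw [h, zero_mul] at hdμ
      exact zero_ne_one hdμ
    have h20 : (2 : F) * (LinearMap.det τ * LinearMap.det μ) = 0 := by
      linear_combination hd
    rcases mul_eq_zero.mp h20 with h | h
    · exact h2 h
    · rcases mul_eq_zero.mp h with h | h
      · exact hτ0 h
      · exact hμ0 h
  -- the adjoint is the identity on `K`
  have adj_id : ∀ k ∈ K, Gi * kᵀ * G = k := by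
    intro k hk
    have hθ : k - Gi * kᵀ * G ∈ K := K.sub_mem hk (adj_K k hk)
    have h := key (k - Gi * kᵀ * G) hθ (by rw [adj_sub, adj_adj]; abel)
    exact (sub_eq_zero.mp h).symm
  -- conclusion
  intro x hx
  have hxK : x.1 ∈ K := o4_cent hn K hK x.1 (fun z hz => (hKc z hz).1 x hx)
  have hinv : (x⁻¹ : GL (Fin n) F).1 = x.1 := (adj_L x hx).symm.trans (adj_id x.1 hxK)
  have hxx : x.1 * x.1 = 1 := by
    calc x.1 * x.1 = x.1 * (x⁻¹ : GL (Fin n) F).1 := by rw [hinv]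
      _ = 1 := Units.mul_inv x
  rw [mem_scalars_iff]
  by_cases h1 : x.1 = 1
  · exact ⟨1, by rw [h1]; simp⟩
  · have hsub : x.1 - 1 ∈ K := K.sub_mem hxK K.one_mem
    have hne : x.1 - 1 ≠ 0 := sub_ne_zero.mpr h1
    obtain ⟨y, hy, hmul⟩ := hK.inv _ hsub hne
    have hprod : (x.1 - 1) * (x.1 + 1) = 0 := by
      have e : (x.1 - 1) * (x.1 + 1) = x.1 * x.1 - 1 := by noncomm_ring
      rw [e, hxx, sub_self]
    have hx1 : x.1 + 1 = 0 := by
      have hcomm : y * (x.1 - 1) = 1 := by rw [hK.comm y hy _ hsub]; exact hmul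
      calc x.1 + 1 = (y * (x.1 - 1)) * (x.1 + 1) := by rw [hcomm, one_mul]
        _ = y * ((x.1 - 1) * (x.1 + 1)) := mul_assoc _ _ _
        _ = 0 := by rw [hprod, mul_zero]
    refine ⟨-1, ?_⟩
    rw [eq_neg_of_add_eq_zero_left hx1]
    simp

end Cfsg.Agent.Lib.Helper87.OMPO4
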