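import Mathlib
import Cfsg.Agent.Lib.Helper48.QADefs

/-!
# Project QA (helper48, S2787), piece QA-QRELMUL: `Rel` is multiplicative
-/

set_option autoImplicit false

universe u

namespace Cfsg.Agent.Lib.Helper48.QA

open Matrix Polynomial

local notation "SL2" F => Matrix.SpecialLinearGroup (Fin 2) F
local notation "PSL2" F => Matrix.ProjectiveSpecialLinearGroup (Fin 2) F
local notation "M2" F => Matrix (Fin 2) (Fin 2) F

/-- the ring computation behind `rel_mul` -/
lemma qrelmul_key {R : Type*} [Ring R] (M e s s' : R) (a b c d a' b' c' d' : R)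
    (ha' : a' * e = e * a') (hb' : b' * e = e * b') (hc' : c' * e = e * c')
    (hd' : d' * e = e * d')
    (h1 : s * e = a * e + M * (c * e)) (h2 : s * (M * e) = b * e + M * (d * e))
    (h1' : s' * e = a' * e + M * (c' * e)) (h2' : s' * (M * e) = b' * e + M * (d' * e)) :
    s * s' * e = (a * a' + b * c') * e + M * ((c * a' + d * c') * e) ∧
      s * s' * (M * e) = (a * b' + b * d') * e + M * ((c * b' + d * d') * e) := by
  constructor
  · calc s * s' * e = s * (s' * e) := mul_assoc _ _ _
      _ = s * (a' * e + M * (c' * e)) := by rw [h1']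
      _ = (s * e) * a' + (s * (M * e)) * c' := by rw [ha', hc']; noncomm_ring
      _ = (a * e + M * (c * e)) * a' + (b * e + M * (d * e)) * c' := by rw [h1, h2]
      _ = a * (e * a') + M * (c * (e * a')) + (b * (e * c') + M * (d * (e * c'))) := by
        noncomm_ring
      _ = (a * a' + b * c') * e + M * ((c * a' + d * c') * e) := by
        rw [← ha', ← hc']; noncomm_ring
  · calc s * s' * (M * e) = s * (s' * (M * e)) := mul_assoc _ _ _
      _ = s * (b' * e + M * (d' * e)) := by rw [h2']
      _ = (s * e) * b' + (s * (M * e)) * d' := by rw [hb', hd']; noncomm_ring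
      _ = (a * e + M * (c * e)) * b' + (b * e + M * (d * e)) * d' := by rw [h1, h2]
      _ = a * (e * b') + M * (c * (e * b')) + (b * (e * d') + M * (d * (e * d'))) := by
        noncomm_ring
      _ = (a * b' + b * d') * e + M * ((c * b' + d * d') * e) := by
        rw [← hb', ← hd']; noncomm_ring

/-- QA-QRELMUL -/
theorem rel_mul {R : Type*} [Ring R] (M P : R) (j : ℕ) (s s' : R) (A A' : M2 ℤ[X])
    (h : Rel M P (P ^ j) s A) (h' : Rel M P (P ^ j) s' A') :
    Rel M P (P ^ j) (s * s') (A * A') := by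
  have hc : ∀ f : ℤ[X], aeval P f * P ^ j = P ^ j * aeval P f := by
    intro f
    have h1 : aeval P (f * X ^ j) = aeval P (X ^ j * f) := by rw [mul_comm]
    rw [map_mul, map_mul, map_pow, aeval_X] at h1
    exact h1
  obtain ⟨h1, h2⟩ := h
  obtain ⟨h1', h2'⟩ := h'
  have key := qrelmul_key M (P ^ j) s s' (aeval P (A 0 0)) (aeval P (A 0 1)) (aeval P (A 1 0))
    (aeval P (A 1 1)) (aeval P (A' 0 0)) (aeval P (A' 0 1)) (aeval P (A' 1 0))
    (aeval P (A' 1 1)) (hc _) (hc _) (hc _) (hc _) h1 h2 h1' h2'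
  unfold Rel
  have e00 : (A * A') 0 0 = A 0 0 * A' 0 0 + A 0 1 * A' 1 0 := by
    rw [Matrix.mul_apply, Fin.sum_univ_two]
  have e01 : (A * A') 0 1 = A 0 0 * A' 0 1 + A 0 1 * A' 1 1 := by
    rw [Matrix.mul_apply, Fin.sum_univ_two]
  have e10 : (A * A') 1 0 = A 1 0 * A' 0 0 + A 1 1 * A' 1 0 := by
    rw [Matrix.mul_apply, Fin.sum_univ_two]
  have e11 : (A * A') 1 1 = A 1 0 * A' 0 1 + A 1 1 * A' 1 1 := by
    rw [Matrix.mul_apply, Fin.sum_univ_two]
  rw [e00, e01, e10, e11]
  simp only [map_add, map_mul]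
  exact key

end Cfsg.Agent.Lib.Helper48.QA
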