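import Mathlib

/-!
# Project QB (helper48, S2359), piece QB-NTA (backup copy): a prime divisor of `(q - 1) / 2`,
`q ≡ 3 (mod 8)`, is odd and its multiplicity in `q³ (q - 1) (q³ + 1)` is its multiplicity in
`q - 1`
-/

set_option autoImplicit false

namespace Cfsg.Agent.Lib.Helper48.QB

-- QB-NTA
theorem nt_a (q r : ℕ) (hq8 : q % 8 = 3) (hr : r.Prime) (hdvd : r ∣ (q - 1) / 2) :
    (q - 1).factorization r = (q ^ 3 * (q - 1) * (q ^ 3 + 1)).factorization r ∧ r ≠ 2 := by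
  have hq3 : 3 ≤ q := by omega
  have hr2 : r ≠ 2 := by
    rintro rfl
    obtain ⟨c, hc⟩ := hdvd
    omega
  have hdvd1 : r ∣ q - 1 := by
    have h2 : (q - 1) / 2 ∣ q - 1 := Nat.div_dvd_of_dvd (by omega)
    exact hdvd.trans h2
  have hrq : ¬ r ∣ q := by
    intro h
    have h1 : r ∣ q - (q - 1) := Nat.dvd_sub h hdvd1
    have h2 : q - (q - 1) = 1 := by omega
    rw [h2] at h1
    exact hr.one_lt.ne' (Nat.dvd_one.mp h1)
  have hrq3 : ¬ r ∣ q ^ 3 := fun h => hrq (hr.dvd_of_dvd_pow h)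
  have hrq31 : ¬ r ∣ q ^ 3 + 1 := by
    intro h
    -- q ^ 3 + 1 = (q - 1) * (q ^ 2 + q + 1) + 2
    have h1 : q ^ 3 + 1 = (q - 1) * (q ^ 2 + q + 1) + 2 := by
      obtain ⟨t, rfl⟩ : ∃ t, q = t + 1 := ⟨q - 1, by omega⟩
      simp only [Nat.add_sub_cancel]
      ring
    rw [h1] at h
    have h2 : r ∣ 2 := (Nat.dvd_add_right (Dvd.dvd.mul_right hdvd1 _)).mp h
    have h3 : r ≤ 2 := Nat.le_of_dvd (by norm_num) h2
    have h4 := hr.two_le
    omega
  refine ⟨?_, hr2⟩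
  have hq0 : q ^ 3 ≠ 0 := by positivity
  have hq10 : q - 1 ≠ 0 := by omega
  have hq310 : q ^ 3 + 1 ≠ 0 := by positivity
  rw [Nat.factorization_mul (mul_ne_zero hq0 hq10) hq310, Nat.factorization_mul hq0 hq10]
  simp only [Finsupp.coe_add, Pi.add_apply]
  rw [Nat.factorization_eq_zero_of_not_dvd hrq3, Nat.factorization_eq_zero_of_not_dvd hrq31]
  omega

end Cfsg.Agent.Lib.Helper48.QB
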