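import Mathlib
import Cfsg.Agent.Lib.Helper72.SCDefs
import Cfsg.Agent.Lib.Helper41.Cores

/-!
# S4394 piece SC-ENDA (helper87 for helper72)
-/

set_option autoImplicit false

namespace Cfsg.Agent.Lib.Helper87.SC

open Cfsg.Agent.Lib.Helper72.SC
open scoped commutatorElement

universe u

theorem enda_rho_mk (p : ℕ) (G : Type*) [Group G] (g : G) (r : ↥(Cfsg.pCore p G)) :
    rho p G g (QuotientGroup.mk r : VV p G) =
      (QuotientGroup.mk (MulAut.conjNormal g r : ↥(Cfsg.pCore p G)) : VV p G) := rfl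

theorem enda (h1 : KerStmt.{u}) (h2 : BasStmt.{u}) : EndaStmt.{u} := by
  intro G _ _ p _ Q hG hO hSE hQR W U x hF
  have hp : p.Prime := Fact.out
  obtain ⟨hxA, hWcard, hWU, hWUtop, hWinv, hUinv, ⟨w0, hw0W, hxw0⟩, hlast⟩ := hF
  obtain ⟨hZR, hfrZ, hfrne⟩ := h2 G p Q hG hO hSE hQR
  have hker : (rho p G).ker = Cfsg.pCore p G := h1 G p hG hO
  obtain ⟨hZQ, hZc, hcomm, hpow, hsemi⟩ := hSE
  have hRQ : Cfsg.pCore p G ≤ (Q : Subgroup G) := Cfsg.Agent.Lib.Helper41.pCore_le_sylow Q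
  obtain ⟨g0, hg0Q, rfl⟩ := hxA
  obtain ⟨r0, rfl⟩ := QuotientGroup.mk_surjective w0
  -- `r0 ∉ Z`
  have hr0Z : (r0 : G) ∉ zc (Q : Subgroup G) := by
    intro hr0
    apply hxw0
    rw [enda_rho_mk]
    congr 1
    apply Subtype.ext
    rw [MulAut.conjNormal_apply]
    have h := hZc _ hr0 g0 hg0Q
    rw [h, mul_assoc, mul_inv_cancel, mul_one]
  -- every `z ∈ Z` is `a w0 * w0⁻¹`
  have key : ∀ z : G, z ∈ zc (Q : Subgroup G) → ∀ hz : z ∈ Cfsg.pCore p G,
      ∃ a ∈ AQ p (Q : Subgroup G),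
        (QuotientGroup.mk (⟨z, hz⟩ : ↥(Cfsg.pCore p G)) : VV p G) =
          a (QuotientGroup.mk r0) * (QuotientGroup.mk r0 : VV p G)⁻¹ := by
    intro z hz hzR
    obtain ⟨v, hvQ, hv⟩ := hsemi (r0 : G) (hRQ r0.2) hr0Z z⁻¹ (inv_mem hz)
    refine ⟨rho p G v, Subgroup.mem_map_of_mem _ hvQ, ?_⟩
    rw [enda_rho_mk, ← QuotientGroup.mk_inv, ← QuotientGroup.mk_mul]
    congr 1
    apply Subtype.ext
    rw [Subgroup.coe_mul, MulAut.conjNormal_apply, Subgroup.coe_inv]
    have h : z = (⁅(r0 : G), v⁆)⁻¹ := by rw [hv, inv_inv]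
    show z = _
    rw [h, commutatorElement_inv, commutatorElement_def]
  have hxp : (rho p G g0) ^ p = 1 := by
    rw [← map_pow]
    have h : g0 ^ p ∈ (rho p G).ker := by rw [hker]; exact hZR (hpow g0 hg0Q)
    exact h
  have key2 : ∀ z : G, z ∈ zc (Q : Subgroup G) → ∀ hz : z ∈ Cfsg.pCore p G,
      ∃ i : Fin p, (QuotientGroup.mk (⟨z, hz⟩ : ↥(Cfsg.pCore p G)) : VV p G) =
          ((rho p G g0) ^ (i : ℕ)) (QuotientGroup.mk r0) * (QuotientGroup.mk r0 : VV p G)⁻¹ := by
    intro z hz hzR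
    obtain ⟨a, ha, hza⟩ := key z hz hzR
    obtain ⟨i, hi⟩ := hlast a ha
    refine ⟨⟨i % p, Nat.mod_lt _ hp.pos⟩, ?_⟩
    rw [hza, hi _ hw0W]
    show _ = ((rho p G g0) ^ (i % p)) _ * _
    rw [← pow_eq_pow_mod i hxp]
  have hle : (fr p G).relIndex (zc (Q : Subgroup G)) ≤ p := by
    rw [Subgroup.relIndex, Subgroup.index]
    have hex : ∀ q : ↥(zc (Q : Subgroup G)) ⧸ (fr p G).subgroupOf (zc (Q : Subgroup G)),
        ∃ i : Fin p, (QuotientGroup.mk (⟨(q.out : G), hZR q.out.2⟩ : ↥(Cfsg.pCore p G)) : VV p G) =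
          ((rho p G g0) ^ (i : ℕ)) (QuotientGroup.mk r0) * (QuotientGroup.mk r0 : VV p G)⁻¹ :=
      fun q => key2 _ q.out.2 _
    choose f hf using hex
    have hinj : Function.Injective f := by
      intro q1 q2 h12
      have e1 := hf q1
      have e2 := hf q2
      rw [h12] at e1
      have e3 := e1.trans e2.symm
      rw [QuotientGroup.eq] at e3
      have e4 : (q1.out : G)⁻¹ * (q2.out : G) ∈ fr p G := ⟨_, e3, rfl⟩
      have e5 : q1.out⁻¹ * q2.out ∈ (fr p G).subgroupOf (zc (Q : Subgroup G)) := by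
        rw [Subgroup.mem_subgroupOf]
        simpa using e4
      have e6 := QuotientGroup.eq.mpr e5
      rwa [QuotientGroup.out_eq', QuotientGroup.out_eq'] at e6
    have h := Nat.card_le_card_of_injective f hinj
    simpa using h
  have hZp : IsPGroup p ↥(zc (Q : Subgroup G)) := Q.isPGroup'.to_le hZQ
  refine ⟨?_, ?_⟩
  · obtain ⟨n, hn⟩ := IsPGroup.iff_card.mp hZp
    have hdvd : (fr p G).relIndex (zc (Q : Subgroup G)) ∣ p ^ n := by
      rw [← hn]; exact Subgroup.relIndex_dvd_card _ _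
    obtain ⟨j, hj, hjeq⟩ := (Nat.dvd_prime_pow hp).mp hdvd
    have hj0 : j ≠ 0 := by
      intro hj0
      rw [hj0, pow_zero, Subgroup.relIndex_eq_one] at hjeq
      exact hfrne (le_antisymm hfrZ hjeq)
    rw [hjeq] at hle ⊢
    have hj1 : j ≤ 1 := by
      by_contra hcon
      push Not at hcon
      have : p ^ 2 ≤ p ^ j := Nat.pow_le_pow_right hp.pos hcon
      have h2p : p < p ^ 2 := by nlinarith [hp.two_le]
      omega
    have : j = 1 := by omega
    rw [this, pow_one]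
  · by_contra hU
    have hAQp : IsPGroup p ↥(AQ p (Q : Subgroup G)) := Q.isPGroup'.map (rho p G)
    have hVp : IsPGroup p (VV p G) :=
      (Cfsg.Agent.Lib.Helper41.pCore_isPGroup p).to_quotient _
    have hUp : IsPGroup p ↥U := hVp.to_subgroup U
    let act : MulAction ↥(AQ p (Q : Subgroup G)) ↥U :=
      { smul := fun a u => ⟨a.1 u.1, hUinv a.1 a.2 u.1 u.2⟩
        one_smul := fun u => Subtype.ext (by show (1 : MulAut (VV p G)) u.1 = u.1; simp)
        mul_smul := fun a b u => Subtype.ext (by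
          show (a.1 * b.1) u.1 = a.1 (b.1 u.1)
          simp) }
    have hsmul : ∀ (a : ↥(AQ p (Q : Subgroup G))) (u : ↥U), ((a • u : ↥U) : VV p G) = a.1 u.1 :=
      fun _ _ => rfl
    obtain ⟨n, hn⟩ := IsPGroup.iff_card.mp hUp
    have hn0 : n ≠ 0 := by
      intro hn0
      rw [hn0, pow_zero, Subgroup.card_eq_one] at hn
      exact hU hn
    have hpU : p ∣ Nat.card ↥U := by
      rw [hn]; exact dvd_pow_self p hn0
    have h1fix : (1 : ↥U) ∈ MulAction.fixedPoints ↥(AQ p (Q : Subgroup G)) ↥U := by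
      intro a
      apply Subtype.ext
      rw [hsmul]
      simp
    obtain ⟨b, hbfix, hb1⟩ :=
      hAQp.exists_fixed_point_of_prime_dvd_card_of_fixed_point ↥U hpU h1fix
    obtain ⟨r, hr⟩ := QuotientGroup.mk_surjective (b : VV p G)
    have hfix : ∀ g ∈ (Q : Subgroup G), rho p G g (QuotientGroup.mk r : VV p G) =
        (QuotientGroup.mk r : VV p G) := by
      intro g hg
      have h := hbfix ⟨rho p G g, Subgroup.mem_map_of_mem _ hg⟩
      have h' := congrArg Subtype.val h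
      rw [hsmul] at h'
      rw [hr]
      exact h'
    have hrZ : (r : G) ∈ zc (Q : Subgroup G) := by
      by_contra hrZ
      have hex : ∃ z ∈ zc (Q : Subgroup G), z ∉ fr p G := by
        by_contra hcon
        push Not at hcon
        exact hfrne (le_antisymm hfrZ hcon)
      obtain ⟨z, hzZ, hzfr⟩ := hex
      obtain ⟨v, hvQ, hv⟩ := hsemi (r : G) (hRQ r.2) hrZ z hzZ
      have h := hfix v hvQ
      rw [enda_rho_mk, QuotientGroup.eq] at h
      apply hzfr
      have h3 : ((MulAut.conjNormal v r : ↥(Cfsg.pCore p G))⁻¹ * r : ↥(Cfsg.pCore p G)) ∈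
          frattini ↥(Cfsg.pCore p G) := h
      have h4 : (v * (r : G) * v⁻¹)⁻¹ * (r : G) ∈ fr p G := by
        refine ⟨_, h3, ?_⟩
        simp [MulAut.conjNormal_apply]
      -- z = ⁅r, v⁆ = r v r⁻¹ v⁻¹; conjugate of the inverse of h4 element
      have hfrN : (fr p G).Normal := by
        have hchar : (frattini ↥(Cfsg.pCore p G)).Characteristic := inferInstance
        have hN : (frattini ↥(Cfsg.pCore p G)).Normal := inferInstance
        constructor
        intro n hn g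
        obtain ⟨m, hm, rfl⟩ := hn
        have hR : (Cfsg.pCore p G).Normal := inferInstance
        refine ⟨MulAut.conjNormal g m, ?_, ?_⟩
        · have := Subgroup.characteristic_iff_map_eq.mp hchar (MulAut.conjNormal g)
          rw [← this]
          exact Subgroup.mem_map_of_mem _ hm
        · simp [MulAut.conjNormal_apply]
      have h5 : (r : G) * ((v * (r : G) * v⁻¹)⁻¹ * (r : G)) * (r : G)⁻¹ ∈ fr p G :=
        hfrN.conj_mem _ h4 _
      have h6 : z = (r : G) * ((v * (r : G) * v⁻¹)⁻¹ * (r : G)) * (r : G)⁻¹ := by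
        rw [← hv, commutatorElement_def]
        group
      rw [h6]
      exact h5
    obtain ⟨a, ha, hza⟩ := key (r : G) hrZ r.2
    have hbW : (b : VV p G) ∈ W := by
      rw [← hr]
      have : (⟨(r : G), r.2⟩ : ↥(Cfsg.pCore p G)) = r := rfl
      rw [this] at hza
      rw [hza]
      exact mul_mem (hWinv a ha _ hw0W) (inv_mem hw0W)
    have hb : (b : VV p G) ∈ W ⊓ U := ⟨hbW, b.2⟩
    rw [hWU, Subgroup.mem_bot] at hb
    apply hb1
    apply Subtype.ext
    rw [hb]
    rfl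

end Cfsg.Agent.Lib.Helper87.SC
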