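import Mathlib
import Cfsg.Prelude.Def_GeometricClasses
import Cfsg.Prelude.Def_LieClassical

/-!
# Project SUQ (helper50), piece F4PL

Proved by helper87: over the field with four elements a non-degenerate unitary plane has exactly
two non-isotropic points, and they are orthogonal.
-/

set_option autoImplicit false

namespace Cfsg.Agent.Lib.Helper87.SUQF4PL

open Matrix Cfsg.Geo

variable {n : ℕ} {F : Type*} [Field F] [Fintype F] {q : ℕ}

theorem f4_two (hF : Fintype.card F = 4) : (2 : F) = 0 := by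
  have h1 : Fintype.card F • (1 : F) = 0 := card_nsmul_eq_zero
  rw [hF, nsmul_eq_mul, mul_one] at h1
  have h2 : (2 : F) * 2 = 0 := by
    have e : (2 : F) * 2 = ((4 : ℕ) : F) := by norm_num
    rw [e]
    exact h1
  exact mul_self_eq_zero.mp h2

omit [Fintype F] in
theorem hf_add_left (u u' v : Fin n → F) :
    Cfsg.hermForm n F q (u + u') v = Cfsg.hermForm n F q u v + Cfsg.hermForm n F q u' v := by
  unfold Cfsg.hermForm
  simp only [Pi.add_apply, add_mul, Finset.sum_add_distrib]

omit [Fintype F] in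
theorem hf_smul_left (c : F) (u v : Fin n → F) :
    Cfsg.hermForm n F q (c • u) v = c * Cfsg.hermForm n F q u v := by
  unfold Cfsg.hermForm
  simp only [Pi.smul_apply, smul_eq_mul, mul_assoc, Finset.mul_sum]

omit [Fintype F] in
theorem hf_add_right (h2 : (2 : F) = 0) (u v v' : Fin n → F) :
    Cfsg.hermForm n F 2 u (v + v') = Cfsg.hermForm n F 2 u v + Cfsg.hermForm n F 2 u v' := by
  unfold Cfsg.hermForm
  rw [← Finset.sum_add_distrib]
  apply Finset.sum_congr rfl
  intro i _
  simp only [Pi.add_apply]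
  have e : (v i + v' i) ^ 2 = v i ^ 2 + v' i ^ 2 := by
    have e' : (v i + v' i) ^ 2 = v i ^ 2 + v' i ^ 2 + 2 * (v i * v' i) := by ring
    rw [e', h2, zero_mul, add_zero]
  rw [e, mul_add]

omit [Fintype F] in
theorem hf_smul_right (c : F) (u v : Fin n → F) :
    Cfsg.hermForm n F 2 u (c • v) = c ^ 2 * Cfsg.hermForm n F 2 u v := by
  unfold Cfsg.hermForm
  rw [Finset.mul_sum]
  apply Finset.sum_congr rfl
  intro i _
  simp only [Pi.smul_apply, smul_eq_mul]
  ring

omit [Fintype F] in
theorem hf_symm (h2 : (2 : F) = 0) (h4 : ∀ x : F, x ^ 4 = x) (u v : Fin n → F) :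
    Cfsg.hermForm n F 2 v u = (Cfsg.hermForm n F 2 u v) ^ 2 := by
  unfold Cfsg.hermForm
  have hsq : ∀ (s : Finset (Fin n)) (f : Fin n → F),
      (∑ i ∈ s, f i) ^ 2 = ∑ i ∈ s, (f i) ^ 2 := by
    intro s f
    induction s using Finset.induction_on with
    | empty => simp
    | insert a s ha ih =>
      rw [Finset.sum_insert ha, Finset.sum_insert ha, ← ih]
      have e : (f a + ∑ i ∈ s, f i) ^ 2
          = f a ^ 2 + (∑ i ∈ s, f i) ^ 2 + 2 * (f a * ∑ i ∈ s, f i) := by ring
      rw [e, h2, zero_mul, add_zero]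
  rw [hsq]
  apply Finset.sum_congr rfl
  intro i _
  have e := h4 (v i)
  calc v i * u i ^ 2 = u i ^ 2 * (v i ^ 4) := by rw [e]; ring
    _ = (u i * v i ^ 2) ^ 2 := by ring

omit [Fintype F] in
theorem hf_zero_left (v : Fin n → F) : Cfsg.hermForm n F q 0 v = 0 := by
  unfold Cfsg.hermForm
  simp

theorem F4PL (hF : Fintype.card F = q ^ 2) (hq : q = 2) (W : Submodule F (Fin n → F))
    (hW : IsNondegenerateOn (Cfsg.hermForm n F q) W) (hdim : Module.finrank F W = 2) :
    ∃ v₁ v₂ : Fin n → F, v₁ ∈ W ∧ v₂ ∈ W ∧ Cfsg.hermForm n F q v₁ v₁ ≠ 0 ∧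
      Cfsg.hermForm n F q v₂ v₂ ≠ 0 ∧ Cfsg.hermForm n F q v₁ v₂ = 0 ∧
      ∀ w ∈ W, Cfsg.hermForm n F q w w ≠ 0 → (∃ c : F, w = c • v₁) ∨ (∃ c : F, w = c • v₂) := by
  classical
  subst hq
  have hF4 : Fintype.card F = 4 := by rw [hF]; norm_num
  have h2 : (2 : F) = 0 := f4_two hF4
  have h4 : ∀ x : F, x ^ 4 = x := fun x => by
    have := FiniteField.pow_card x
    rwa [hF4] at this
  have h3 : ∀ x : F, x ≠ 0 → x ^ 3 = 1 := fun x hx => by
    have := FiniteField.pow_card_sub_one_eq_one x hx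
    rwa [hF4] at this
  have hneg : ∀ x : F, -x = x := fun x => by
    have e : x + x = 0 := by rw [← two_mul, h2, zero_mul]
    exact neg_eq_of_add_eq_zero_left e
  have hidem : ∀ v : Fin n → F,
      Cfsg.hermForm n F 2 v v = 0 ∨ Cfsg.hermForm n F 2 v v = 1 := by
    intro v
    have e := hf_symm h2 h4 v v
    have e' : Cfsg.hermForm n F 2 v v * (Cfsg.hermForm n F 2 v v - 1) = 0 := by
      rw [mul_sub, mul_one, ← sq, ← e, sub_self]
    rcases mul_eq_zero.mp e' with h0 | h1
    · left; exact h0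
    · right; exact sub_eq_zero.mp h1
  -- a nonzero vector of `W`
  have hWne : ∃ w ∈ W, w ≠ 0 := by
    by_contra hcon
    push Not at hcon
    have hbot : W = ⊥ := by
      rw [eq_bot_iff]
      intro w hw
      exact (Submodule.mem_bot F).mpr (hcon w hw)
    rw [hbot] at hdim
    simp at hdim
  -- Step 1: a non-isotropic vector
  obtain ⟨v₁, hv₁W, hv₁⟩ : ∃ v₁ ∈ W, Cfsg.hermForm n F 2 v₁ v₁ ≠ 0 := by
    by_contra hcon
    push Not at hcon
    have hsym : ∀ u ∈ W, ∀ v ∈ W, Cfsg.hermForm n F 2 v u = Cfsg.hermForm n F 2 u v := by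
      intro u hu v hv
      have e := hcon (u + v) (W.add_mem hu hv)
      rw [hf_add_left, hf_add_right h2, hf_add_right h2, hcon u hu, hcon v hv, zero_add,
        add_zero] at e
      have e' : Cfsg.hermForm n F 2 v u = - Cfsg.hermForm n F 2 u v :=
        eq_neg_of_add_eq_zero_right e
      rw [e', hneg]
    obtain ⟨c, hc0, hc1⟩ : ∃ c : F, c ≠ 0 ∧ c ≠ 1 := by
      by_contra hcon2
      push Not at hcon2
      have hle : Fintype.card F ≤ 2 := by
        calc Fintype.card F = (Finset.univ : Finset F).card := Finset.card_univ.symm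
          _ ≤ ({0, 1} : Finset F).card := Finset.card_le_card (fun x _ => by
              by_cases hx : x = 0
              · simp [hx]
              · simp [hcon2 x hx])
          _ ≤ 2 := Finset.card_le_two
      omega
    have hzero : ∀ u ∈ W, ∀ v ∈ W, Cfsg.hermForm n F 2 u v = 0 := by
      intro u hu v hv
      have e1 := hsym (c • u) (W.smul_mem c hu) v hv
      rw [hf_smul_right, hf_smul_left, hsym u hu v hv] at e1
      have e2 : c * (c - 1) * Cfsg.hermForm n F 2 u v = 0 := by linear_combination e1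
      rcases mul_eq_zero.mp e2 with h' | h'
      · rcases mul_eq_zero.mp h' with h'' | h''
        · exact absurd h'' hc0
        · exact absurd (sub_eq_zero.mp h'') hc1
      · exact h'
    obtain ⟨w, hw, hw0⟩ := hWne
    obtain ⟨⟨x, hx, hxw⟩, _⟩ := hW w hw hw0
    exact hxw (hzero x hx w hw)
  have hv₁1 : Cfsg.hermForm n F 2 v₁ v₁ = 1 := (hidem v₁).resolve_left hv₁
  have hv₁0 : v₁ ≠ 0 := by
    intro h0
    apply hv₁
    rw [h0]
    exact hf_zero_left 0
  -- Step 2: a vector of `W` outside the line of `v₁`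
  obtain ⟨w, hwW, hwS⟩ : ∃ w ∈ W, w ∉ Submodule.span F {v₁} := by
    by_contra hcon
    push Not at hcon
    have hle : W ≤ Submodule.span F {v₁} := hcon
    have e1 := Submodule.finrank_mono hle
    have e2 : Module.finrank F (Submodule.span F {v₁}) = 1 := finrank_span_singleton hv₁0
    omega
  obtain ⟨c, hc⟩ : ∃ c : F, c = (Cfsg.hermForm n F 2 v₁ w) ^ 2 := ⟨_, rfl⟩
  obtain ⟨v₂, hv₂def⟩ : ∃ v₂ : Fin n → F, v₂ = w + c • v₁ := ⟨_, rfl⟩
  have hv₂W : v₂ ∈ W := by
    rw [hv₂def]
    exact W.add_mem hwW (W.smul_mem c hv₁W)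
  have h12 : Cfsg.hermForm n F 2 v₁ v₂ = 0 := by
    rw [hv₂def, hf_add_right h2, hf_smul_right, hv₁1, mul_one, hc, ← pow_mul, h4, ← two_mul, h2,
      zero_mul]
  have h21 : Cfsg.hermForm n F 2 v₂ v₁ = 0 := by
    rw [hf_symm h2 h4 v₁ v₂, h12]
    ring
  have hv₂S : v₂ ∉ Submodule.span F {v₁} := by
    intro hmem
    apply hwS
    have e : w = v₂ - c • v₁ := by
      rw [hv₂def, add_sub_cancel_right]
    rw [e]
    exact Submodule.sub_mem _ hmem (Submodule.smul_mem _ c (Submodule.mem_span_singleton_self v₁))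
  -- every vector of `W` is a combination of `v₁` and `v₂`
  have hdec : ∀ x ∈ W, ∃ a b : F, x = a • v₁ + b • v₂ := by
    have hli : LinearIndependent F ![v₁, v₂] := by
      rw [LinearIndependent.pair_iff]
      intro s t hst
      have ht : t = 0 := by
        by_contra ht
        apply hv₂S
        have e : v₂ = (-(t⁻¹ * s)) • v₁ := by
          have h' : t • v₂ = -(s • v₁) := eq_neg_of_add_eq_zero_right hst
          calc v₂ = t⁻¹ • (t • v₂) := by rw [smul_smul, inv_mul_cancel₀ ht, one_smul]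
            _ = (-(t⁻¹ * s)) • v₁ := by rw [h', smul_neg, smul_smul, neg_smul]
        rw [e]
        exact Submodule.smul_mem _ _ (Submodule.mem_span_singleton_self v₁)
      refine ⟨?_, ht⟩
      rw [ht, zero_smul, add_zero] at hst
      rcases smul_eq_zero.mp hst with h' | h'
      · exact h'
      · exact absurd h' hv₁0
    have hspan : Submodule.span F {v₁, v₂} = W := by
      apply Submodule.eq_of_le_of_finrank_eq
      · rw [Submodule.span_le]
        intro x hx
        rcases hx with rfl | rfl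
        · exact hv₁W
        · exact hv₂W
      · have e := finrank_span_eq_card hli
        rw [Fintype.card_fin] at e
        have hr : Set.range ![v₁, v₂] = {v₁, v₂} := by
          ext x
          simp only [Set.mem_range, Set.mem_insert_iff, Set.mem_singleton_iff]
          constructor
          · rintro ⟨i, rfl⟩
            fin_cases i
            · left; rfl
            · right; rfl
          · rintro (rfl | rfl)
            · exact ⟨0, rfl⟩
            · exact ⟨1, rfl⟩
        rw [hr] at e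
        rw [e, hdim]
    intro x hx
    rw [← hspan, Submodule.mem_span_pair] at hx
    obtain ⟨a, b, hab⟩ := hx
    exact ⟨a, b, hab.symm⟩
  -- `v₂` is non-isotropic
  have hv₂0 : v₂ ≠ 0 := fun h0 => hv₂S (h0 ▸ Submodule.zero_mem _)
  have hv₂ : Cfsg.hermForm n F 2 v₂ v₂ ≠ 0 := by
    intro h22
    obtain ⟨⟨x, hx, hxv⟩, _⟩ := hW v₂ hv₂W hv₂0
    obtain ⟨a, b, rfl⟩ := hdec x hx
    apply hxv
    rw [hf_add_left, hf_smul_left, hf_smul_left, h12, h22, mul_zero, mul_zero, add_zero]
  have hv₂1 : Cfsg.hermForm n F 2 v₂ v₂ = 1 := (hidem v₂).resolve_left hv₂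
  refine ⟨v₁, v₂, hv₁W, hv₂W, hv₁, hv₂, h12, ?_⟩
  intro x hx hxx
  obtain ⟨a, b, rfl⟩ := hdec x hx
  have hval : Cfsg.hermForm n F 2 (a • v₁ + b • v₂) (a • v₁ + b • v₂) = a ^ 3 + b ^ 3 := by
    rw [hf_add_left, hf_smul_left, hf_smul_left, hf_add_right h2, hf_add_right h2,
      hf_smul_right, hf_smul_right, hf_smul_right, hf_smul_right, hv₁1, h12, h21, hv₂1]
    ring
  rw [hval] at hxx
  by_cases ha : a = 0
  · right
    exact ⟨b, by rw [ha, zero_smul, zero_add]⟩
  · by_cases hb : b = 0
    · left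
      exact ⟨a, by rw [hb, zero_smul, add_zero]⟩
    · exfalso
      apply hxx
      rw [h3 a ha, h3 b hb, one_add_one_eq_two, h2]

end Cfsg.Agent.Lib.Helper87.SUQF4PL
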