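import Cfsg.Agent.Lib.Helper87.FocalCenter
import Cfsg.Agent.Lib.Helper87.Fusion3

set_option autoImplicit false

/-!
A Thompson-type transfer lemma for saturated fusion systems on a finite `2`-group: an involution
all of whose fully normalized conjugates lie outside a subgroup of index `2` is not in the
hyperfocal subgroup.
-/

namespace Cfsg.Agent.Lib.Helper87

open MulAction

section generic

variable {G : Type*} [Group G] {A : Type*} [CommGroup A] (H : Subgroup G) (ϕ : H →* A)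

theorem smul_mk_eq_iff (c a : G) : c • (a : G ⧸ H) = (a : G ⧸ H) ↔ a⁻¹ * c * a ∈ H := by
  have := pow_smul_mk_eq_iff H c 1 a
  rwa [pow_one] at this

theorem lbl_of_pow_eq_one (x : G) (k : ℕ) (hx : x ^ k = 1) (y : G ⧸ H) : lbl H ϕ x k y = 1 := by
  classical
  induction y using QuotientGroup.induction_on with
  | H a =>
    rw [lbl_mk]
    have h1 : a⁻¹ * x ^ k * a = 1 := by rw [hx]; group
    have h2 : a⁻¹ * x ^ k * a ∈ H := by rw [h1]; exact H.one_mem
    rw [dif_pos h2]
    have : (⟨a⁻¹ * x ^ k * a, h2⟩ : H) = 1 := Subtype.ext h1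
    rw [this, map_one]

/-- The transfer at an involution: the product of the labels of the fixed cosets. -/
theorem transfer_involution [Finite G] [Fintype A] [DecidableEq A] (x : G) (hx : x ^ 2 = 1) :
    MonoidHom.transfer ϕ x = ∏ u : A, u ^ cC H ϕ x 1 u := by
  classical
  rw [transfer_eq_prod_oC, Finset.prod_product]
  rw [Finset.prod_eq_single 1]
  · apply Finset.prod_congr rfl
    intro u _
    congr 1
    have h1 := nC_eq H ϕ x 1 u
    rw [one_mul] at h1
    rw [← h1]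
    unfold nC cC
    apply Nat.card_congr (Equiv.subtypeEquivRight ?_)
    intro y
    rw [← per_dvd_iff, Nat.dvd_one]
  · intro k _ hk
    apply Finset.prod_eq_one
    intro u _
    by_cases hu : u = 1
    · rw [hu, one_pow]
    · have h0 : oC H ϕ x k u = 0 := by
        unfold oC
        rw [Nat.card_eq_zero]
        left
        refine ⟨fun q => ?_⟩
        obtain ⟨q, hq1, hq2⟩ := q
        have hdvd : per H x q.out ∣ 2 := (per_dvd_iff H x _ 2).mpr (by rw [hx, one_smul])
        rcases (Nat.dvd_prime Nat.prime_two).mp hdvd with h | h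
        · exact hk (hq1 ▸ h)
        · rw [hq1] at h
          subst h
          apply hu
          rw [← hq2]
          exact lbl_of_pow_eq_one H ϕ x 2 hx _
      rw [h0, pow_zero]
  · intro h
    exfalso
    apply h
    rw [Finset.mem_range]
    have := Nat.card_pos (α := G)
    omega

/-- A `p`-subgroup `C` acting on the cosets of `H`: a `C`-stable set of cosets containing all
the `C`-fixed cosets has cardinality congruent to the index of `H`. -/
theorem card_modEq_index [Finite G] {p : ℕ} [Fact p.Prime] (C : Subgroup G) (hC : IsPGroup p C)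
    (Y₁ : Set (G ⧸ H)) (hstab : ∀ c ∈ C, ∀ y ∈ Y₁, c • y ∈ Y₁)
    (hfix : ∀ y : G ⧸ H, (∀ c ∈ C, c • y = y) → y ∈ Y₁) :
    Nat.card Y₁ ≡ H.index [MOD p] := by
  let Y : SubMulAction C (G ⧸ H) :=
    { carrier := Y₁
      smul_mem' := fun c y hy => hstab c.1 c.2 y hy }
  have h1 := hC.card_modEq_card_fixedPoints Y
  have h2 := hC.card_modEq_card_fixedPoints (G ⧸ H)
  have h3 : Nat.card (fixedPoints C Y) = Nat.card (fixedPoints C (G ⧸ H)) := by
    apply Nat.card_congr
    refine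
      { toFun := fun y => ⟨y.1.1, fun c => congrArg Subtype.val (y.2 c)⟩
        invFun := fun y => ⟨⟨y.1, hfix y.1 (fun c hc => y.2 ⟨c, hc⟩)⟩, fun c => Subtype.ext (y.2 c)⟩
        left_inv := fun y => rfl
        right_inv := fun y => rfl }
  rw [h3] at h1
  have h4 : Nat.card Y₁ = Nat.card Y := rfl
  rw [h4, Subgroup.index_eq_card]
  exact h1.trans h2.symm

theorem conj_eq_of_mem_normalizer_zpowers {j n : G} (hj2 : j ^ 2 = 1) (hj1 : j ≠ 1)
    (hn : n ∈ Subgroup.normalizer ((Subgroup.zpowers j : Subgroup G) : Set G)) :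
    n * j * n⁻¹ = j := by
  have h1 := (Subgroup.mem_normalizer_iff.mp hn j).mp (Subgroup.mem_zpowers j)
  obtain ⟨k, hk⟩ := Subgroup.mem_zpowers_iff.mp h1
  have hj2' : j ^ (2 : ℤ) = 1 := by
    rw [← hj2]; exact zpow_ofNat j 2
  obtain ⟨q, rfl | rfl⟩ := Int.even_or_odd' k
  · exfalso
    rw [zpow_mul, hj2', one_zpow] at hk
    apply hj1
    have : j = n⁻¹ * (n * j * n⁻¹) * n := by group
    rw [this, ← hk]
    group
  · rw [zpow_add, zpow_mul, hj2', one_zpow, one_mul, zpow_one] at hk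
    exact hk.symm

end generic

open Cfsg Cfsg.FusionSystem Cfsg.Agent.Lib.Helper90

variable {Ω : Type*} [Group Ω] {S : Subgroup Ω} {F : FusionSystem S}

theorem isConjElt_of_mor {P : Subgroup Ω} {f : Ω → Ω} (hf : Mor F P f) {x : Ω} (hx : x ∈ P) :
    F.IsConjElt x (f x) := by
  have hle : Subgroup.zpowers x ≤ P := by
    rw [Subgroup.zpowers_le]; exact hx
  obtain ⟨φ, hφ, hφf⟩ := hf.restrict hle
  exact ⟨φ, hφ, hφf ⟨x, Subgroup.mem_zpowers x⟩⟩

theorem isConjElt_trans'' {x y z : Ω} (h1 : F.IsConjElt x y) (h2 : F.IsConjElt y z) :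
    F.IsConjElt x z := by
  obtain ⟨φ₁, hφ₁, hxy⟩ := h1
  obtain ⟨φ₂, hφ₂, hyz⟩ := h2
  have hf₁ := mor_of_hom hφ₁
  have hf₂ := mor_of_hom hφ₂
  have e1 : extFun (Subgroup.zpowers x) φ₁ x = y := by
    rw [extFun_apply' _ _ (Subgroup.mem_zpowers x)]; exact hxy
  have e2 : extFun (Subgroup.zpowers y) φ₂ y = z := by
    rw [extFun_apply' _ _ (Subgroup.mem_zpowers y)]; exact hyz
  have hmaps : ∀ w ∈ Subgroup.zpowers x, extFun (Subgroup.zpowers x) φ₁ w ∈ Subgroup.zpowers y := by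
    intro w hw
    obtain ⟨n, rfl⟩ := Subgroup.mem_zpowers_iff.mp hw
    rw [mor_map_zpow hf₁ (Subgroup.mem_zpowers x), e1]
    exact Subgroup.zpow_mem_zpowers _ _
  have h3 := isConjElt_of_mor (hf₁.comp hf₂ hmaps) (Subgroup.mem_zpowers x)
  simp only [Function.comp] at h3
  rwa [e1, e2] at h3

theorem hyperfocal_le_focal (F : FusionSystem S) (p : ℕ) :
    F.hyperfocalSubgroup p ≤ F.focalSubgroup := by
  unfold FusionSystem.hyperfocalSubgroup
  rw [Subgroup.closure_le]
  rintro y ⟨P, α, x, hP, -, rfl⟩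
  have hm : Mor F P (autFun P α) := (Cfsg.Agent.Lib.Helper90.mem_autGroup_iff F hP α).mp α.2
  obtain ⟨φ, hφ, hφf⟩ := id hm
  apply Subgroup.subset_closure
  refine ⟨P, φ, x, hφ, ?_⟩
  rw [hφf, autFun_apply]

theorem mem_pE_gr {P : Subgroup Ω} {f : Ω → Ω} (hf : Mor F P f) {x : ↥S} :
    x ∈ pE (gr S P f) ↔ (x : Ω) ∈ P := by
  rw [mem_pE]
  constructor
  · rintro ⟨b, hb⟩
    exact ((mem_gr hf).mp hb).1
  · intro hx
    exact ⟨⟨f x, hf.mem hx⟩, mk_mem_gr hf hx⟩

/-- The transfer through a graph at a fully normalized involution `j`, when `lam` is `-1` on all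
fully normalized conjugates of `j`. -/
theorem transfer_fullyNormalized_involution [Finite S] (hS : IsPGroup 2 S) (lam : ↥S →* ℤˣ)
    {E : Subgroup (↥S × ↥S)} (hE : IsG F E) {j : Ω} (hjS : j ∈ S) (hj2 : j ^ 2 = 1) (hj1 : j ≠ 1)
    (hfn : F.IsFullyNormalized (Subgroup.zpowers j))
    (hlam : ∀ (j₂ : Ω) (hj₂ : j₂ ∈ S), F.IsConjElt j j₂ →
      F.IsFullyNormalized (Subgroup.zpowers j₂) → lam ⟨j₂, hj₂⟩ = -1) :
    MonoidHom.transfer (phiE lam E) ⟨j, hjS⟩ = (-1) ^ (pE E).index := by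
  classical
  have hinj := isG_injective hE
  obtain ⟨P, f, hf, rfl⟩ := hE
  have hj'2 : (⟨j, hjS⟩ : ↥S) ^ 2 = 1 := Subtype.ext hj2
  rw [transfer_involution (pE (gr S P f)) (phiE lam (gr S P f)) ⟨j, hjS⟩ hj'2]
  rw [Finset.prod_eq_single (-1)]
  rotate_left
  · intro u _ hu
    rcases Int.units_eq_one_or u with h | h
    · rw [h, one_pow]
    · exact absurd h hu
  · intro h
    exact absurd (Finset.mem_univ _) h
  -- the subgroup `C`
  have hN : normalizerIn S (Subgroup.zpowers j) ≤ S := inf_le_left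
  have hjN : j ∈ normalizerIn S (Subgroup.zpowers j) :=
    ⟨hjS, Subgroup.le_normalizer (Subgroup.mem_zpowers j)⟩
  have hzN : Subgroup.zpowers j ≤ normalizerIn S (Subgroup.zpowers j) := by
    rw [Subgroup.zpowers_le]; exact hjN
  have hcomm : ∀ c : ↥S, (c : Ω) ∈ normalizerIn S (Subgroup.zpowers j) →
      Commute c (⟨j, hjS⟩ : ↥S) := by
    intro c hc
    have h1 := conj_eq_of_mem_normalizer_zpowers hj2 hj1 hc.2
    show c * ⟨j, hjS⟩ = ⟨j, hjS⟩ * c
    apply Subtype.ext
    show (c : Ω) * j = j * c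
    calc (c : Ω) * j = ((c : Ω) * j * (c : Ω)⁻¹) * c := by group
      _ = j * c := by rw [h1]
  have hpar : cC (pE (gr S P f)) (phiE lam (gr S P f)) ⟨j, hjS⟩ 1 (-1) ≡
      (pE (gr S P f)).index [MOD 2] := by
    unfold cC
    refine card_modEq_index (pE (gr S P f))
      ((normalizerIn S (Subgroup.zpowers j)).subgroupOf S) (hS.to_subgroup _)
      {y | (⟨j, hjS⟩ : ↥S) ^ 1 • y = y ∧
        lbl (pE (gr S P f)) (phiE lam (gr S P f)) ⟨j, hjS⟩ 1 y = -1} ?_ ?_
    · rintro c hc y ⟨hy1, hy2⟩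
      have hcj := hcomm c hc
      refine ⟨?_, ?_⟩
      · rw [smul_smul, ← (hcj.pow_right 1).eq, ← smul_smul, hy1]
      · rw [lbl_smul_of_commute _ _ _ c hcj, hy2]
    · intro y hy
      have hy1 : (⟨j, hjS⟩ : ↥S) ^ 1 • y = y := by
        rw [pow_one]
        exact hy ⟨j, hjS⟩ hjN
      refine ⟨hy1, ?_⟩
      induction y using QuotientGroup.induction_on with
      | H a =>
        -- conjugation by `a⁻¹` carries `N_S(⟨j⟩)` into `P`
        have hNP : ∀ n ∈ normalizerIn S (Subgroup.zpowers j), (a : Ω)⁻¹ * n * a ∈ P := by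
          intro n hn
          have h1 := (smul_mk_eq_iff (pE (gr S P f)) (⟨n, hN hn⟩ : ↥S) a).mp (hy ⟨n, hN hn⟩ hn)
          exact (mem_pE_gr hf).mp h1
        have hψ₀ : Mor F (normalizerIn S (Subgroup.zpowers j)) (fun x => (a : Ω)⁻¹ * x * a) := by
          refine (mor_conj F hN (S.inv_mem a.2)).congr ?_
          intro x _
          simp
        have hψ : Mor F (normalizerIn S (Subgroup.zpowers j)) (fun x => f ((a : Ω)⁻¹ * x * a)) :=
          hψ₀.comp hf hNP
        have hjP : (a : Ω)⁻¹ * j * a ∈ P := hNP j hjN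
        have hj₂S : f ((a : Ω)⁻¹ * j * a) ∈ S := hf.mem hjP
        -- the label
        have hmemE : ((a⁻¹ * (⟨j, hjS⟩ : ↥S) ^ 1 * a, ⟨f ((a : Ω)⁻¹ * j * a), hj₂S⟩) : ↥S × ↥S) ∈
            gr S P f := by
          rw [mem_gr hf]
          refine ⟨?_, ?_⟩
          · show (a : Ω)⁻¹ * j ^ 1 * a ∈ P
            rw [pow_one]; exact hjP
          · show f ((a : Ω)⁻¹ * j ^ 1 * a) = f ((a : Ω)⁻¹ * j * a)
            rw [pow_one]
        have hmemP : a⁻¹ * (⟨j, hjS⟩ : ↥S) ^ 1 * a ∈ pE (gr S P f) := mem_pE.mpr ⟨_, hmemE⟩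
        rw [lbl_mk, dif_pos hmemP, phiE_apply lam hinj hmemE]
        apply hlam
        · exact isConjElt_of_mor hψ hjN
        · have hconj : F.IsConj (Subgroup.zpowers j) (Subgroup.zpowers (f ((a : Ω)⁻¹ * j * a))) := by
            rw [Cfsg.Agent.Lib.Helper90.isConj_iff]
            exact ⟨_, hψ.restrict hzN, img_zpowers hψ hjN⟩
          refine ⟨by rw [Subgroup.zpowers_le]; exact hj₂S, fun Q hQ => ?_⟩
          have h1 := hfn.2 Q (isConj_trans' hconj hQ)
          have hle : img (normalizerIn S (Subgroup.zpowers j)) (fun x => f ((a : Ω)⁻¹ * x * a)) ≤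
              normalizerIn S (Subgroup.zpowers (f ((a : Ω)⁻¹ * j * a))) := by
            intro y hy
            obtain ⟨n, hn, rfl⟩ := hψ.mem_img.mp hy
            have h2 := hψ.map_normalizerIn hzN hn hn.2
            rwa [img_zpowers hψ hjN] at h2
          have : Finite (normalizerIn S (Subgroup.zpowers (f ((a : Ω)⁻¹ * j * a)))) :=
            finite_of_le inf_le_left
          calc Nat.card (normalizerIn S Q) ≤ Nat.card (normalizerIn S (Subgroup.zpowers j)) := h1
            _ = Nat.card (img (normalizerIn S (Subgroup.zpowers j))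
                  (fun x => f ((a : Ω)⁻¹ * x * a))) := hψ.card_img.symm
            _ ≤ _ := Subgroup.card_le_of_le hle
  have e0 : ∀ a : ℕ, (-1 : ℤˣ) ^ a = (-1) ^ (a % 2) := by
    intro a
    conv_lhs => rw [← Nat.div_add_mod a 2]
    rw [pow_add, pow_mul, neg_one_sq, one_pow, one_mul]
  rw [e0 (cC (pE (gr S P f)) (phiE lam (gr S P f)) ⟨j, hjS⟩ 1 (-1)), e0 ((pE (gr S P f)).index)]
  have e3 : cC (pE (gr S P f)) (phiE lam (gr S P f)) ⟨j, hjS⟩ 1 (-1) % 2 =
      (pE (gr S P f)).index % 2 := hpar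
  rw [e3]

/-- Thompson-type transfer for saturated fusion systems on a `2`-group. -/
theorem not_mem_hyperfocal [Finite S] (hS : IsPGroup 2 S) (F : FusionSystem S)
    (hF : F.IsSaturated 2) (T : Subgroup Ω) (hT : T.relIndex S = 2)
    (i : Ω) (hi : i ∈ S) (hi2 : orderOf i = 2)
    (h : ∀ j : Ω, F.IsConjElt i j → F.IsFullyNormalized (Subgroup.zpowers j) → j ∉ T) :
    i ∉ F.hyperfocalSubgroup 2 := by
  classical
  intro hmem
  have hidx : (T.subgroupOf S).index = 2 := hT
  let lam : ↥S →* ℤˣ := MonoidHom.mk' (fun s => if (s : Ω) ∈ T then 1 else -1) (by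
    intro a b
    have h1 := Subgroup.mul_mem_iff_of_index_two hidx (a := a) (b := b)
    simp only [Subgroup.mem_subgroupOf, Subgroup.coe_mul] at h1
    by_cases ha : (a : Ω) ∈ T <;> by_cases hb : (b : Ω) ∈ T <;>
      simp [ha, hb, h1])
  have hlam : ∀ s : ↥S, (s : Ω) ∉ T → lam s = -1 := fun s hs => if_neg hs
  obtain ⟨m, hsupp, hst, hN⟩ := exists_char_mult hS hF
  let _ : Fintype (Subgroup (↥S × ↥S)) := Fintype.ofFinite _
  rw [finsum_eq_sum_of_fintype] at hN
  have hzi : Subgroup.zpowers i ≤ S := by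
    rw [Subgroup.zpowers_le]; exact hi
  obtain ⟨Q, hconj, hfn⟩ := exists_fullyNormalized_conj F hzi
  obtain ⟨f, hf, himg⟩ := Cfsg.Agent.Lib.Helper90.isConj_iff.mp hconj
  rw [img_zpowers hf (Subgroup.mem_zpowers i)] at himg
  subst himg
  have hjS : f i ∈ S := hf.mem (Subgroup.mem_zpowers i)
  have hij : F.IsConjElt i (f i) := isConjElt_of_mor hf (Subgroup.mem_zpowers i)
  have hj2 : f i ^ 2 = 1 := by
    rw [← mor_map_pow hf (Subgroup.mem_zpowers i), ← hi2, pow_orderOf_eq_one, hf.map_one]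
  have hj1 : f i ≠ 1 := by
    intro h1
    have h2 : i = 1 := hf.inj (Subgroup.mem_zpowers i) (Subgroup.one_mem _) (h1.trans hf.map_one.symm)
    rw [h2, orderOf_one] at hi2
    omega
  have h1 : bT lam m ⟨i, hi⟩ = bT lam m ⟨f i, hjS⟩ :=
    bT_stable hS hF lam hsupp hst hf (x := ⟨i, hi⟩) (y := ⟨f i, hjS⟩) (Subgroup.mem_zpowers i) rfl
  have h2 : bT lam m ⟨i, hi⟩ = 1 := by
    obtain ⟨z', hz', hz'z⟩ := focal_le_ker hS hF lam hsupp hst (hyperfocal_le_focal F 2 hmem)
    have h3 : z' = ⟨i, hi⟩ := Subtype.ext hz'z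
    rw [h3] at hz'
    exact hz'
  have h3 : bT lam m ⟨f i, hjS⟩ =
      (-1) ^ (∑ E : Subgroup (↥S × ↥S), m E * (pE E).index) := by
    rw [bT_apply, ← Finset.prod_pow_eq_pow_sum]
    apply Finset.prod_congr rfl
    intro E _
    by_cases hE : m E = 0
    · simp [hE]
    · rw [transfer_fullyNormalized_involution hS lam (hsupp E hE) hjS hj2 hj1 hfn
        (fun j₂ hj₂ hc hfn₂ => hlam _ (h j₂ (isConjElt_trans'' hij hc) hfn₂)), ← pow_mul, mul_comm]
  have hodd : Odd (∑ E : Subgroup (↥S × ↥S), m E * (pE E).index) := by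
    rw [← Nat.not_even_iff_odd, even_iff_two_dvd]
    exact hN
  rw [h1, h3, hodd.neg_one_pow] at h2
  exact absurd h2 (by decide)

end Cfsg.Agent.Lib.Helper87
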