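import Cfsg.Agent.Lib.Helper87.BisetTransfer
import Cfsg.Agent.Lib.Helper88.FratA

set_option autoImplicit false

/-!
A "twisted" transfer for a biset `⊔_E m(E) · (K × K) ⧸ E` all of whose point stabilizers `E` are
graphs contained in the fibre product `K ×_{K/H} K`, for a normal subgroup `H` of `K` carrying a
`K`-invariant multiplicative map `nu`.  The outcome: `nu ^ N` only depends on fixed point counts.
-/

namespace Cfsg.Agent.Lib.Helper87

open MulAction

variable {K : Type*} [Group K] {A : Type*} [CommGroup A]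

/-- The fibre product `K ×_{K/H} K`. -/
def Kt (H : Subgroup K) [hH : H.Normal] : Subgroup (K × K) where
  carrier := {z | z.1⁻¹ * z.2 ∈ H}
  mul_mem' := by
    rintro ⟨a1, a2⟩ ⟨b1, b2⟩ ha hb
    show (a1 * b1)⁻¹ * (a2 * b2) ∈ H
    have e : (a1 * b1)⁻¹ * (a2 * b2) = b1⁻¹ * (a1⁻¹ * a2) * b1⁻¹⁻¹ * (b1⁻¹ * b2) := by group
    rw [e]
    exact H.mul_mem (hH.conj_mem _ ha _) hb
  one_mem' := by
    show (1 : K)⁻¹ * 1 ∈ H
    rw [inv_one, one_mul]
    exact H.one_mem
  inv_mem' := by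
    rintro ⟨a1, a2⟩ ha
    show a1⁻¹⁻¹ * a2⁻¹ ∈ H
    have e : a1⁻¹⁻¹ * a2⁻¹ = a1 * (a1⁻¹ * a2)⁻¹ * a1⁻¹ := by group
    rw [e]
    exact hH.conj_mem _ (H.inv_mem ha) _

theorem mem_Kt {H : Subgroup K} [H.Normal] {z : K × K} : z ∈ Kt H ↔ z.1⁻¹ * z.2 ∈ H := Iff.rfl

/-- The hypotheses on the map `nu`: multiplicative on `H` and invariant under conjugation. -/
structure NuHyp (H : Subgroup K) (nu : K → A) : Prop where
  mul : ∀ x ∈ H, ∀ y ∈ H, nu (x * y) = nu x * nu y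
  conj : ∀ g : K, ∀ x ∈ H, nu (g * x * g⁻¹) = nu x

theorem NuHyp.one {H : Subgroup K} {nu : K → A} (h : NuHyp H nu) : nu 1 = 1 := by
  have h1 := h.mul 1 H.one_mem 1 H.one_mem
  rw [mul_one] at h1
  exact (mul_eq_left.mp h1.symm)

theorem NuHyp.inv {H : Subgroup K} {nu : K → A} (h : NuHyp H nu) {x : K} (hx : x ∈ H) :
    nu x⁻¹ = (nu x)⁻¹ := by
  have h1 := h.mul x hx x⁻¹ (H.inv_mem hx)
  rw [mul_inv_cancel, h.one] at h1
  exact eq_inv_of_mul_eq_one_right h1.symm

theorem NuHyp.conj' {H : Subgroup K} {nu : K → A} (h : NuHyp H nu) (g : K) {x : K} (hx : x ∈ H) :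
    nu (g⁻¹ * x * g) = nu x := by
  have h1 := h.conj g⁻¹ x hx
  rwa [inv_inv] at h1

/-- The second coordinate of the point of the graph `E` above `a`. -/
noncomputable def sndOf (E : Subgroup (K × K)) (a : K) : K :=
  open Classical in if h : ∃ b, (a, b) ∈ E then h.choose else 1

theorem sndOf_mem {E : Subgroup (K × K)} {a : K} (ha : a ∈ pE E) : (a, sndOf E a) ∈ E := by
  have h : ∃ b, (a, b) ∈ E := mem_pE.mp ha
  unfold sndOf
  rw [dif_pos h]
  exact h.choose_spec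

theorem sndOf_eq {E : Subgroup (K × K)} (hinj : Function.Injective (fstE E)) {a b : K}
    (hab : (a, b) ∈ E) : sndOf E a = b :=
  snd_eq_of_injective hinj (sndOf_mem (mem_pE.mpr ⟨b, hab⟩)) hab

theorem sndOf_mul {E : Subgroup (K × K)} (hinj : Function.Injective (fstE E)) {a a' : K}
    (ha : a ∈ pE E) (ha' : a' ∈ pE E) : sndOf E (a * a') = sndOf E a * sndOf E a' :=
  sndOf_eq hinj (E.mul_mem (sndOf_mem ha) (sndOf_mem ha'))

theorem sndOf_one {E : Subgroup (K × K)} (hinj : Function.Injective (fstE E)) :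
    sndOf E 1 = 1 :=
  sndOf_eq hinj E.one_mem

/-- The preimage of `P_E` in the fibre product. -/
def Ht (H : Subgroup K) [H.Normal] (E : Subgroup (K × K)) : Subgroup ↥(Kt H) :=
  (pE E).comap ((MonoidHom.fst K K).comp (Kt H).subtype)

theorem mem_Ht {H : Subgroup K} [H.Normal] {E : Subgroup (K × K)} {z : ↥(Kt H)} :
    z ∈ Ht H E ↔ (z : K × K).1 ∈ pE E := Iff.rfl

theorem index_Ht (H : Subgroup K) [H.Normal] (E : Subgroup (K × K)) :
    (Ht H E).index = (pE E).index := by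
  unfold Ht
  apply Subgroup.index_comap_of_surjective
  intro a
  refine ⟨⟨(a, a), ?_⟩, rfl⟩
  show a⁻¹ * a ∈ H
  rw [inv_mul_cancel]
  exact H.one_mem

/-- The underlying function of the twisted map. -/
noncomputable def phitFun (H : Subgroup K) [H.Normal] (nu : K → A) (E : Subgroup (K × K))
    (z : ↥(Ht H E)) : A :=
  nu ((sndOf E ((z : ↥(Kt H)) : K × K).1)⁻¹ * ((z : ↥(Kt H)) : K × K).2)

/-- The twisted map `(a, b) ↦ nu (f_E(a)⁻¹ b)` on the preimage of `P_E`. -/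
noncomputable def phit (H : Subgroup K) [H.Normal] (nu : K → A) (E : Subgroup (K × K)) :
    ↥(Ht H E) →* A :=
  open Classical in
  if h : ∀ z w : ↥(Ht H E), phitFun H nu E (z * w) = phitFun H nu E z * phitFun H nu E w then
    MonoidHom.mk' (phitFun H nu E) h
  else 1

theorem sndOf_inv_mul_mem {H : Subgroup K} [H.Normal] {E : Subgroup (K × K)} (hE : E ≤ Kt H)
    {a b : K} (ha : a ∈ pE E) (hab : a⁻¹ * b ∈ H) : (sndOf E a)⁻¹ * b ∈ H := by
  have h1 : a⁻¹ * sndOf E a ∈ H := hE (sndOf_mem ha)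
  have e : (sndOf E a)⁻¹ * b = (a⁻¹ * sndOf E a)⁻¹ * (a⁻¹ * b) := by group
  rw [e]
  exact H.mul_mem (H.inv_mem h1) hab

theorem phit_apply {H : Subgroup K} [H.Normal] {nu : K → A} (hnu : NuHyp H nu)
    {E : Subgroup (K × K)} (hE : E ≤ Kt H) (hinj : Function.Injective (fstE E))
    (z : ↥(Ht H E)) :
    phit H nu E z = nu ((sndOf E ((z : ↥(Kt H)) : K × K).1)⁻¹ * ((z : ↥(Kt H)) : K × K).2) := by
  have h : ∀ z w : ↥(Ht H E), phitFun H nu E (z * w) = phitFun H nu E z * phitFun H nu E w := by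
    rintro ⟨⟨⟨a, b⟩, hab⟩, ha⟩ ⟨⟨⟨a', b'⟩, hab'⟩, ha'⟩
    have ha : a ∈ pE E := ha
    have ha' : a' ∈ pE E := ha'
    have hab : a⁻¹ * b ∈ H := hab
    have hab' : a'⁻¹ * b' ∈ H := hab'
    show nu ((sndOf E (a * a'))⁻¹ * (b * b')) =
      nu ((sndOf E a)⁻¹ * b) * nu ((sndOf E a')⁻¹ * b')
    rw [sndOf_mul hinj ha ha']
    have h1 := sndOf_inv_mul_mem hE ha hab
    have h2 := sndOf_inv_mul_mem hE ha' hab'
    have e : (sndOf E a * sndOf E a')⁻¹ * (b * b') =
        ((sndOf E a')⁻¹ * ((sndOf E a)⁻¹ * b) * sndOf E a') * ((sndOf E a')⁻¹ * b') := by group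
    rw [e, hnu.mul _ (Subgroup.Normal.conj_mem' inferInstance _ h1 _) _ h2, hnu.conj' _ h1]
  unfold phit
  rw [dif_pos h]
  rfl

theorem finiteIndex_Ht [Finite K] (H : Subgroup K) [H.Normal] (E : Subgroup (K × K)) :
    (Ht H E).FiniteIndex := inferInstance

/-- The twisted transfer at `(1, x)` is a power of `nu x`. -/
theorem transfer_phit_snd [Finite K] {H : Subgroup K} [H.Normal] {nu : K → A} (hnu : NuHyp H nu)
    {E : Subgroup (K × K)} (hE : E ≤ Kt H) (hinj : Function.Injective (fstE E))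
    {x : K} (hx : x ∈ H) (h1x : ((1, x) : K × K) ∈ Kt H) :
    MonoidHom.transfer (phit H nu E) (⟨(1, x), h1x⟩ : ↥(Kt H)) = nu x ^ (pE E).index := by
  classical
  let _ : Fintype (↥(Kt H) ⧸ Ht H E) := Fintype.ofFinite _
  have hv : ∀ g : ↥(Kt H), g⁻¹ * (⟨(1, x), h1x⟩ : ↥(Kt H)) * g ∈ Ht H E := by
    intro g
    rw [mem_Ht]
    show ((g : K × K).1)⁻¹ * 1 * (g : K × K).1 ∈ pE E
    rw [mul_one, inv_mul_cancel]
    exact (pE E).one_mem
  rw [Cfsg.Agent.Lib.Helper88.transfer_eq_prod_of_normal (Ht H E) (phit H nu E) _ hv]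
  have h2 : ∀ q : ↥(Kt H) ⧸ Ht H E,
      phit H nu E ⟨q.out⁻¹ * (⟨(1, x), h1x⟩ : ↥(Kt H)) * q.out, hv _⟩ = nu x := by
    intro q
    rw [phit_apply hnu hE hinj]
    show nu ((sndOf E (((q.out : ↥(Kt H)) : K × K).1⁻¹ * 1 * ((q.out : ↥(Kt H)) : K × K).1))⁻¹ *
      (((q.out : ↥(Kt H)) : K × K).2⁻¹ * x * ((q.out : ↥(Kt H)) : K × K).2)) = nu x
    rw [mul_one, inv_mul_cancel, sndOf_one hinj, inv_one, one_mul, hnu.conj' _ hx]
  rw [Finset.prod_congr rfl (fun q _ => h2 q), Finset.prod_const, Finset.card_univ,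
    ← Nat.card_eq_fintype_card, ← Subgroup.index_eq_card, index_Ht]

/-- Counting the elements of the fibre product by their first coordinate. -/
theorem card_Kt_subtype (H : Subgroup K) [H.Normal] (q : K → Prop) :
    Nat.card {z : ↥(Kt H) // q (z : K × K).1} = Nat.card {a : K // q a} * Nat.card H := by
  rw [← Nat.card_prod]
  apply Nat.card_congr
  refine
    { toFun := fun z => (⟨(z.1 : K × K).1, z.2⟩, ⟨(z.1 : K × K).1⁻¹ * (z.1 : K × K).2, z.1.2⟩)
      invFun := fun y => ⟨⟨(y.1.1, y.1.1 * y.2.1), by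
        show y.1.1⁻¹ * (y.1.1 * y.2.1) ∈ H
        rw [inv_mul_cancel_left]
        exact y.2.2⟩, y.1.2⟩
      left_inv := ?_
      right_inv := ?_ }
  · rintro ⟨⟨⟨a, b⟩, hab⟩, hq⟩
    apply Subtype.ext
    apply Subtype.ext
    show (a, a * (a⁻¹ * b)) = (a, b)
    rw [mul_inv_cancel_left]
  · rintro ⟨⟨a, ha⟩, ⟨h, hh⟩⟩
    apply Prod.ext
    · rfl
    · apply Subtype.ext
      show a⁻¹ * (a * h) = h
      rw [inv_mul_cancel_left]

theorem card_Kt (H : Subgroup K) [H.Normal] : Nat.card ↥(Kt H) = Nat.card K * Nat.card H := by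
  have h1 := card_Kt_subtype H (fun _ => True)
  rw [Nat.card_congr (Equiv.subtypeUnivEquiv (fun _ => trivial)),
    Nat.card_congr (Equiv.subtypeUnivEquiv (fun _ => trivial))] at h1
  exact h1

theorem card_Ht [Finite K] (H : Subgroup K) [H.Normal] {E : Subgroup (K × K)}
    (hinj : Function.Injective (fstE E)) :
    Nat.card (Ht H E) = Nat.card E * Nat.card H := by
  have h1 := (Ht H E).card_mul_index
  have h2 := (pE E).card_mul_index
  rw [index_Ht, card_Kt, ← h2, card_pE hinj] at h1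
  have hpos : 0 < (pE E).index := Nat.pos_of_ne_zero (Subgroup.index_ne_zero_of_finite)
  apply Nat.eq_of_mul_eq_mul_right hpos
  rw [h1]
  ring

/-- The fixed point counts of the cyclic subgroups generated by the `(y, s)`, summed over a
conjugation invariant set of `s`. -/
theorem card_mul_sum_fp [Fintype K] (E : Subgroup (K × K))
    (hinj : Function.Injective (fstE E)) (U : K → Prop) [DecidablePred U]
    (hU : ∀ b s : K, U (b⁻¹ * s * b) ↔ U s) (y : K) :
    Nat.card E * ∑ s : K, (if U s then fp E (Subgroup.zpowers ((y, s) : K × K)) else 0) =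
      Nat.card K * Nat.card {a : K // a⁻¹ * y * a ∈ pE E ∧ U (sndOf E (a⁻¹ * y * a))} := by
  classical
  have h1 : ∀ s : K, Nat.card E * fp E (Subgroup.zpowers ((y, s) : K × K)) =
      ∑ a : K, ∑ b : K, if (a⁻¹ * y * a, b⁻¹ * s * b) ∈ E then 1 else 0 := by
    intro s
    rw [card_mul_fp]
    rw [Nat.card_congr (Equiv.subtypeEquivRight (fun g => conj_zpowers_mem_iff E (y, s) g))]
    rw [Nat.card_eq_fintype_card, Fintype.card_subtype, Finset.card_filter, Fintype.sum_prod_type]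
    rfl
  have h3 : ∀ a b : K, (∑ s : K, if U s then
      (if (a⁻¹ * y * a, b⁻¹ * s * b) ∈ E then 1 else 0) else 0) =
      ∑ s : K, if U s ∧ (a⁻¹ * y * a, s) ∈ E then 1 else 0 := by
    intro a b
    apply Fintype.sum_equiv (MulAut.conj b⁻¹).toEquiv
    intro s
    have e1 : (MulAut.conj b⁻¹).toEquiv s = b⁻¹ * s * b := by simp
    rw [e1]
    by_cases hs : U s
    · have hs' : U (b⁻¹ * s * b) := (hU b s).mpr hs
      simp [hs, hs']
    · have hs' : ¬ U (b⁻¹ * s * b) := fun h => hs ((hU b s).mp h)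
      simp [hs, hs']
  have h4 : ∀ a : K, (∑ s : K, if U s ∧ (a⁻¹ * y * a, s) ∈ E then 1 else 0) =
      if (a⁻¹ * y * a ∈ pE E ∧ U (sndOf E (a⁻¹ * y * a))) then 1 else 0 := by
    intro a
    by_cases hP : a⁻¹ * y * a ∈ pE E
    · have hb := sndOf_mem hP
      rw [Finset.sum_eq_single (sndOf E (a⁻¹ * y * a))]
      · simp [hb, hP]
      · intro s _ hsb
        rw [if_neg]
        rintro ⟨-, hs⟩
        exact hsb (sndOf_eq hinj hs).symm
      · intro hb'
        exact absurd (Finset.mem_univ _) hb'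
    · rw [if_neg (fun hh => hP hh.1)]
      apply Finset.sum_eq_zero
      intro s _
      rw [if_neg]
      rintro ⟨-, hs⟩
      exact hP (mem_pE.mpr ⟨s, hs⟩)
  calc Nat.card E * ∑ s : K, (if U s then fp E (Subgroup.zpowers ((y, s) : K × K)) else 0)
      = ∑ s : K, if U s then
          (∑ a : K, ∑ b : K, if (a⁻¹ * y * a, b⁻¹ * s * b) ∈ E then 1 else 0) else 0 := by
        rw [Finset.mul_sum]
        apply Finset.sum_congr rfl
        intro s _
        by_cases hs : U s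
        · rw [if_pos hs, if_pos hs, h1]
        · rw [if_neg hs, if_neg hs, mul_zero]
    _ = ∑ a : K, ∑ b : K, ∑ s : K, if U s then
          (if (a⁻¹ * y * a, b⁻¹ * s * b) ∈ E then 1 else 0) else 0 := by
        have e1 : (∑ a : K, ∑ b : K, ∑ s : K, if U s then
            (if (a⁻¹ * y * a, b⁻¹ * s * b) ∈ E then 1 else 0) else 0) =
            ∑ a : K, ∑ s : K, ∑ b : K, if U s then
            (if (a⁻¹ * y * a, b⁻¹ * s * b) ∈ E then 1 else 0) else 0 :=
          Finset.sum_congr rfl (fun a _ => Finset.sum_comm)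
        have e2 : (∑ a : K, ∑ s : K, ∑ b : K, if U s then
            (if (a⁻¹ * y * a, b⁻¹ * s * b) ∈ E then 1 else 0) else 0) =
            ∑ s : K, ∑ a : K, ∑ b : K, if U s then
            (if (a⁻¹ * y * a, b⁻¹ * s * b) ∈ E then 1 else 0) else 0 :=
          Finset.sum_comm
        rw [e1, e2]
        apply Finset.sum_congr rfl
        intro s _
        by_cases hs : U s
        · simp only [if_pos hs]
        · simp only [if_neg hs, Finset.sum_const_zero]
    _ = ∑ a : K, ∑ b : K, ∑ s : K, if U s ∧ (a⁻¹ * y * a, s) ∈ E then 1 else 0 := by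
        apply Finset.sum_congr rfl
        intro a _
        apply Finset.sum_congr rfl
        intro b _
        rw [h3]
    _ = Nat.card K * ∑ a : K,
          if (a⁻¹ * y * a ∈ pE E ∧ U (sndOf E (a⁻¹ * y * a))) then 1 else 0 := by
        rw [Finset.mul_sum]
        apply Finset.sum_congr rfl
        intro a _
        rw [Finset.sum_const, Finset.card_univ, smul_eq_mul, Nat.card_eq_fintype_card, h4]
    _ = Nat.card K * Nat.card {a : K // a⁻¹ * y * a ∈ pE E ∧ U (sndOf E (a⁻¹ * y * a))} := by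
        congr 1
        rw [Nat.card_eq_fintype_card, Fintype.card_subtype, Finset.card_filter]

/-- The fundamental counting identity for the twisted transfer. -/
theorem card_mul_cC_twist [Fintype K] [DecidableEq A] {H : Subgroup K} [H.Normal] {nu : K → A}
    (hnu : NuHyp H nu) {E : Subgroup (K × K)} (hE : E ≤ Kt H)
    (hinj : Function.Injective (fstE E)) {x : K} (hx : x ∈ H) (hx1 : ((x, 1) : K × K) ∈ Kt H)
    (k : ℕ) (u : A) [DecidablePred (fun s : K => s ∈ H ∧ (nu s)⁻¹ = u)] :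
    Nat.card K * cC (Ht H E) (phit H nu E) (⟨(x, 1), hx1⟩ : ↥(Kt H)) k u =
      ∑ s : K, if (s ∈ H ∧ (nu s)⁻¹ = u) then fp E (Subgroup.zpowers ((x ^ k, s) : K × K))
        else 0 := by
  classical
  have hU : ∀ b s : K, (b⁻¹ * s * b ∈ H ∧ (nu (b⁻¹ * s * b))⁻¹ = u) ↔ (s ∈ H ∧ (nu s)⁻¹ = u) := by
    intro b s
    constructor
    · rintro ⟨h1, h2⟩
      have hs : s ∈ H := by
        have := Subgroup.Normal.conj_mem inferInstance _ h1 b
        have e : b * (b⁻¹ * s * b) * b⁻¹ = s := by group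
        rwa [e] at this
      exact ⟨hs, by rw [← hnu.conj' b hs]; exact h2⟩
    · rintro ⟨h1, h2⟩
      exact ⟨Subgroup.Normal.conj_mem' inferInstance _ h1 b, by rw [hnu.conj' b h1]; exact h2⟩
  have hfp := card_mul_sum_fp E hinj (fun s : K => s ∈ H ∧ (nu s)⁻¹ = u) hU (x ^ k)
  -- the other side
  have hxk : ∀ a : K, a⁻¹ * x ^ k * a ∈ H := fun a =>
    Subgroup.Normal.conj_mem' inferInstance _ (H.pow_mem hx k) a
  have hq : ∀ z : ↥(Kt H),
      ((⟨(x, 1), hx1⟩ : ↥(Kt H)) ^ k • (z : ↥(Kt H) ⧸ Ht H E) = (z : ↥(Kt H) ⧸ Ht H E) ∧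
        lbl (Ht H E) (phit H nu E) (⟨(x, 1), hx1⟩ : ↥(Kt H)) k (z : ↥(Kt H) ⧸ Ht H E) = u) ↔
      ((z : K × K).1⁻¹ * x ^ k * (z : K × K).1 ∈ pE E ∧
        (sndOf E ((z : K × K).1⁻¹ * x ^ k * (z : K × K).1) ∈ H ∧
          (nu (sndOf E ((z : K × K).1⁻¹ * x ^ k * (z : K × K).1)))⁻¹ = u)) := by
    intro z
    rw [pow_smul_mk_eq_iff, lbl_mk]
    have hmem : z⁻¹ * (⟨(x, 1), hx1⟩ : ↥(Kt H)) ^ k * z ∈ Ht H E ↔
        (z : K × K).1⁻¹ * x ^ k * (z : K × K).1 ∈ pE E := by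
      rw [mem_Ht]
      rfl
    constructor
    · rintro ⟨h1', h2⟩
      have h1 := hmem.mp h1'
      rw [dif_pos h1', phit_apply hnu hE hinj] at h2
      have h3 : (sndOf E ((z : K × K).1⁻¹ * x ^ k * (z : K × K).1))⁻¹ *
          ((z : K × K).2⁻¹ * 1 ^ k * (z : K × K).2) ∈ H := by
        apply sndOf_inv_mul_mem hE h1
        rw [one_pow, mul_one, inv_mul_cancel, mul_one]
        exact H.inv_mem (hxk _)
      have h4 : nu ((sndOf E ((z : K × K).1⁻¹ * x ^ k * (z : K × K).1))⁻¹ *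
          ((z : K × K).2⁻¹ * 1 ^ k * (z : K × K).2)) = u := h2
      rw [one_pow, mul_one, inv_mul_cancel, mul_one] at h3 h4
      have h5 : sndOf E ((z : K × K).1⁻¹ * x ^ k * (z : K × K).1) ∈ H := by
        have := H.inv_mem h3
        rwa [inv_inv] at this
      refine ⟨h1, h5, ?_⟩
      rw [← hnu.inv h5]
      exact h4
    · rintro ⟨h1, h5, h6⟩
      have h1' : z⁻¹ * (⟨(x, 1), hx1⟩ : ↥(Kt H)) ^ k * z ∈ Ht H E := hmem.mpr h1
      refine ⟨h1', ?_⟩
      rw [dif_pos h1', phit_apply hnu hE hinj]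
      show nu ((sndOf E ((z : K × K).1⁻¹ * x ^ k * (z : K × K).1))⁻¹ *
          ((z : K × K).2⁻¹ * 1 ^ k * (z : K × K).2)) = u
      rw [one_pow, mul_one, inv_mul_cancel, mul_one, hnu.inv h5]
      exact h6
  have hc : cC (Ht H E) (phit H nu E) (⟨(x, 1), hx1⟩ : ↥(Kt H)) k u * Nat.card (Ht H E) =
      Nat.card {a : K // a⁻¹ * x ^ k * a ∈ pE E ∧ (sndOf E (a⁻¹ * x ^ k * a) ∈ H ∧
        (nu (sndOf E (a⁻¹ * x ^ k * a)))⁻¹ = u)} * Nat.card H := by
    unfold cC
    rw [← card_preimage_mk (Ht H E) (fun y => (⟨(x, 1), hx1⟩ : ↥(Kt H)) ^ k • y = y ∧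
      lbl (Ht H E) (phit H nu E) (⟨(x, 1), hx1⟩ : ↥(Kt H)) k y = u)]
    rw [Nat.card_congr (Equiv.subtypeEquivRight hq)]
    exact card_Kt_subtype H (fun a => a⁻¹ * x ^ k * a ∈ pE E ∧ (sndOf E (a⁻¹ * x ^ k * a) ∈ H ∧
        (nu (sndOf E (a⁻¹ * x ^ k * a)))⁻¹ = u))
  have hEpos : 0 < Nat.card E := Nat.card_pos
  have hHpos : 0 < Nat.card H := Nat.card_pos
  apply Nat.eq_of_mul_eq_mul_left (Nat.mul_pos hEpos hHpos)
  rw [card_Ht H hinj] at hc
  calc Nat.card E * Nat.card H *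
        (Nat.card K * cC (Ht H E) (phit H nu E) (⟨(x, 1), hx1⟩ : ↥(Kt H)) k u)
      = Nat.card K * (cC (Ht H E) (phit H nu E) (⟨(x, 1), hx1⟩ : ↥(Kt H)) k u *
          (Nat.card E * Nat.card H)) := by ring
    _ = Nat.card H * (Nat.card K * Nat.card {a : K // a⁻¹ * x ^ k * a ∈ pE E ∧
          (sndOf E (a⁻¹ * x ^ k * a) ∈ H ∧ (nu (sndOf E (a⁻¹ * x ^ k * a)))⁻¹ = u)}) := by
        rw [hc]; ring
    _ = Nat.card E * Nat.card H * ∑ s : K, if (s ∈ H ∧ (nu s)⁻¹ = u) then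
          fp E (Subgroup.zpowers ((x ^ k, s) : K × K)) else 0 := by
        rw [← hfp]
        have : ∀ (a b c : ℕ), b * (a * c) = a * b * c := fun a b c => by ring
        rw [this]

/-- The twisted transfer of the biset with multiplicities `m`. -/
noncomputable def bTt [Finite K] (H : Subgroup K) [H.Normal] (nu : K → A)
    (m : Subgroup (K × K) → ℕ) : ↥(Kt H) →* A :=
  open Classical in
  letI : Fintype (Subgroup (K × K)) := Fintype.ofFinite _
  ∏ E : Subgroup (K × K), MonoidHom.transfer (phit H nu E) ^ m E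

theorem bTt_apply [Finite K] [Fintype (Subgroup (K × K))] (H : Subgroup K) [H.Normal]
    (nu : K → A) (m : Subgroup (K × K) → ℕ) (z : ↥(Kt H)) :
    bTt H nu m z = ∏ E : Subgroup (K × K), MonoidHom.transfer (phit H nu E) z ^ m E := by
  unfold bTt
  rw [MonoidHom.finsetProd_apply]
  simp only [MonoidHom.pow_apply]
  exact Finset.prod_congr (Finset.ext (by simp)) (fun _ _ => rfl)

/-- The twisted transfer at `(x, 1)` depends only on the fixed point counts of the cyclic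
subgroups generated by the `(x ^ k, s)`. -/
theorem bTt_eq_of_fixm [Finite K] [Finite A] {H : Subgroup K} [H.Normal] {nu : K → A}
    (hnu : NuHyp H nu) (m : Subgroup (K × K) → ℕ)
    (hm : ∀ E, m E ≠ 0 → E ≤ Kt H ∧ Function.Injective (fstE E)) {x x' : K}
    (hx : x ∈ H) (hx' : x' ∈ H) (hx1 : ((x, 1) : K × K) ∈ Kt H)
    (hx1' : ((x', 1) : K × K) ∈ Kt H)
    (h : ∀ k : ℕ, k ≠ 0 → ∀ s : K, fixm m (Subgroup.zpowers ((x ^ k, s) : K × K)) =
      fixm m (Subgroup.zpowers ((x' ^ k, s) : K × K))) :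
    bTt H nu m ⟨(x, 1), hx1⟩ = bTt H nu m ⟨(x', 1), hx1'⟩ := by
  classical
  let _ : Fintype (Subgroup (K × K)) := Fintype.ofFinite _
  let _ : Fintype K := Fintype.ofFinite _
  rw [bTt_apply, bTt_apply]
  apply transfer_determined (fun E => Ht H E) (fun E => phit H nu E) m
  intro k hk u
  have key : ∀ (y : K) (hy : y ∈ H) (hy1 : ((y, 1) : K × K) ∈ Kt H),
      Nat.card K * ∑ E : Subgroup (K × K), m E * cC (Ht H E) (phit H nu E)
        (⟨(y, 1), hy1⟩ : ↥(Kt H)) k u =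
      ∑ s : K, if (s ∈ H ∧ (nu s)⁻¹ = u) then
        fixm m (Subgroup.zpowers ((y ^ k, s) : K × K)) else 0 := by
    intro y hy hy1
    rw [Finset.mul_sum]
    have h1 : ∀ E : Subgroup (K × K), Nat.card K * (m E * cC (Ht H E) (phit H nu E)
        (⟨(y, 1), hy1⟩ : ↥(Kt H)) k u) =
        ∑ s : K, if (s ∈ H ∧ (nu s)⁻¹ = u) then
          m E * fp E (Subgroup.zpowers ((y ^ k, s) : K × K)) else 0 := by
      intro E
      by_cases hE : m E = 0
      · simp [hE]
      · rw [mul_left_comm, card_mul_cC_twist hnu (hm E hE).1 (hm E hE).2 hy hy1, Finset.mul_sum]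
        apply Finset.sum_congr rfl
        intro s _
        by_cases hs : s ∈ H ∧ (nu s)⁻¹ = u
        · simp only [if_pos hs]
        · simp only [if_neg hs, mul_zero]
    rw [Finset.sum_congr rfl (fun E _ => h1 E), Finset.sum_comm]
    apply Finset.sum_congr rfl
    intro s _
    by_cases hs : s ∈ H ∧ (nu s)⁻¹ = u
    · simp only [if_pos hs]
      unfold fixm
      rw [finsum_eq_sum_of_fintype]
    · simp only [if_neg hs, Finset.sum_const_zero]
  apply Nat.eq_of_mul_eq_mul_left (Nat.card_pos (α := K))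
  rw [key x hx hx1, key x' hx' hx1']
  apply Finset.sum_congr rfl
  intro s _
  rw [h k hk s]

theorem bTt_snd [Finite K] [Fintype (Subgroup (K × K))] {H : Subgroup K} [H.Normal]
    {nu : K → A} (hnu : NuHyp H nu) (m : Subgroup (K × K) → ℕ)
    (hm : ∀ E, m E ≠ 0 → E ≤ Kt H ∧ Function.Injective (fstE E)) {x : K}
    (hx : x ∈ H) (h1x : ((1, x) : K × K) ∈ Kt H) :
    bTt H nu m ⟨(1, x), h1x⟩ = nu x ^ (∑ E : Subgroup (K × K), m E * (pE E).index) := by
  rw [bTt_apply, ← Finset.prod_pow_eq_pow_sum]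
  apply Finset.prod_congr rfl
  intro E _
  by_cases hE : m E = 0
  · simp [hE]
  · rw [transfer_phit_snd hnu (hm E hE).1 (hm E hE).2 hx, ← pow_mul, mul_comm]

/-- The diagonal embedding of `K` in the fibre product. -/
def diagKt (H : Subgroup K) [H.Normal] : K →* ↥(Kt H) :=
  ((MonoidHom.id K).prod (MonoidHom.id K)).codRestrict (Kt H) (fun a => by
    show a⁻¹ * a ∈ H
    rw [inv_mul_cancel]
    exact H.one_mem)

/-- The main consequence: `nu ^ N` only depends on the fixed point counts. -/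
theorem nu_pow_eq_of_fixm [Finite K] {p : ℕ} [Fact p.Prime] {H : Subgroup K} [H.Normal]
    (hHfr : H ≤ frattini K) {nu : K → Multiplicative (ZMod p)} (hnu : NuHyp H nu)
    (m : Subgroup (K × K) → ℕ)
    (hm : ∀ E, m E ≠ 0 → E ≤ Kt H ∧ Function.Injective (fstE E)) {x x' : K}
    (hx : x ∈ H) (hx' : x' ∈ H)
    (h : ∀ k : ℕ, k ≠ 0 → ∀ s : K, fixm m (Subgroup.zpowers ((x ^ k, s) : K × K)) =
      fixm m (Subgroup.zpowers ((x' ^ k, s) : K × K))) :
    nu x ^ (∑ᶠ E : Subgroup (K × K), m E * (pE E).index) =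
      nu x' ^ (∑ᶠ E : Subgroup (K × K), m E * (pE E).index) := by
  classical
  let _ : Fintype (Subgroup (K × K)) := Fintype.ofFinite _
  rw [finsum_eq_sum_of_fintype]
  have key : ∀ (y : K) (hy : y ∈ H) (hy1 : ((y, 1) : K × K) ∈ Kt H),
      nu y ^ (∑ E : Subgroup (K × K), m E * (pE E).index) = (bTt H nu m ⟨(y, 1), hy1⟩)⁻¹ := by
    intro y hy hy1
    have h1y : ((1, y) : K × K) ∈ Kt H := by
      show (1 : K)⁻¹ * y ∈ H
      rw [inv_one, one_mul]
      exact hy
    rw [← bTt_snd hnu m hm hy h1y]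
    have h2 : ((bTt H nu m).comp (diagKt H)) y = 1 :=
      Cfsg.Agent.Lib.Helper88.hom_zmod_kills_frattini _ (hHfr hy)
    have h3 : diagKt H y = (⟨(y, 1), hy1⟩ : ↥(Kt H)) * ⟨(1, y), h1y⟩ := by
      apply Subtype.ext
      show (y, y) = (y * 1, 1 * y)
      rw [mul_one, one_mul]
    rw [MonoidHom.comp_apply, h3, map_mul] at h2
    exact eq_inv_of_mul_eq_one_right h2
  have hx1 : ((x, 1) : K × K) ∈ Kt H := by
    show x⁻¹ * 1 ∈ H
    rw [mul_one]
    exact H.inv_mem hx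
  have hx1' : ((x', 1) : K × K) ∈ Kt H := by
    show x'⁻¹ * 1 ∈ H
    rw [mul_one]
    exact H.inv_mem hx'
  rw [key x hx hx1, key x' hx' hx1', bTt_eq_of_fixm hnu m hm hx hx' hx1 hx1' h]

end Cfsg.Agent.Lib.Helper87
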